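import Groth.Agent.L08.Chev.Gaff
import Groth.Agent.L08.AffHull.FiniteType
import Groth.Agent.L08.NormalQuot.Affine
import Groth.Agent.L26.AV.RigiditySep

/-!
# Decompositions `G = Z · G_aff = G_aff · G_ant`; quasi-complements
-/

set_option autoImplicit false
set_option backward.isDefEq.respectTransparency.types false
set_option linter.style.haveILetI false
set_option linter.unusedSectionVars false

universe u

open CategoryTheory CategoryTheory.Limits MonoidalCategory CartesianMonoidalCategory MonObj GrpObj AlgebraicGeometry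

noncomputable section

namespace Groth.L08.Chev

variable {k : Type u} [Field k]

section General

variable {G A N M : Over (Spec (CommRingCat.of k))} [GrpObj G] [GrpObj A] [GrpObj N] [GrpObj M]

/-- if `M` surjects onto the quotient by `N` then `G = N · M = M · N` -/
theorem surjective_mul_of_surjective (i : N ⟶ G) (j : M ⟶ G) (q : G ⟶ A) [IsMonHom q] (hker : AlgGrp.IsKernel i q)
    (h : Surjective (j ≫ q).left) :
    Surjective ((i ⊗ₘ j) ≫ μ[G]).left ∧ Surjective ((j ⊗ₘ i) ≫ μ[G]).left := by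
  let m := pullback.fst (j ≫ q) q
  let g := pullback.snd (j ≫ q) q
  have hmg : (m ≫ j) ≫ q = g ≫ q := by rw [Category.assoc]; exact pullback.condition
  haveI : Surjective g.left := MorphismProperty.of_isPullback (P := @Surjective)
    ((IsPullback.of_hasPullback (j ≫ q) q).map (Over.forget _)) h
  obtain ⟨z₁, hz₁, -⟩ := hker.exists_lift (g * (m ≫ j)⁻¹) (toUnit _) (by
    rw [MonObj.mul_comp, GrpObj.inv_comp, hmg, mul_inv_cancel, Hom.one_def])
  obtain ⟨z₂, hz₂, -⟩ := hker.exists_lift ((m ≫ j)⁻¹ * g) (toUnit _) (by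
    rw [MonObj.mul_comp, GrpObj.inv_comp, hmg, inv_mul_cancel, Hom.one_def])
  have e₁ : lift z₁ m ≫ (i ⊗ₘ j) ≫ μ[G] = g := by
    rw [lift_map_assoc, ← Hom.mul_def, hz₁, inv_mul_cancel_right]
  have e₂ : lift m z₂ ≫ (j ⊗ₘ i) ≫ μ[G] = g := by
    rw [lift_map_assoc, ← Hom.mul_def, hz₂, mul_inv_cancel_left]
  haveI : Surjective ((lift z₁ m).left ≫ ((i ⊗ₘ j) ≫ μ[G]).left) := by
    rw [← Over.comp_left, e₁]; infer_instance
  haveI : Surjective ((lift m z₂).left ≫ ((j ⊗ₘ i) ≫ μ[G]).left) := by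
    rw [← Over.comp_left, e₂]; infer_instance
  exact ⟨Surjective.of_comp (lift z₁ m).left _, Surjective.of_comp (lift m z₂).left _⟩

/-- conversely -/
theorem surjective_of_surjective_mul (i : N ⟶ G) (j : M ⟶ G) (q : G ⟶ A) [IsMonHom q] [Surjective q.left]
    (hi : i ≫ q = 1) (h : Surjective ((i ⊗ₘ j) ≫ μ[G]).left) : Surjective (j ≫ q).left := by
  haveI := h
  have e : ((i ⊗ₘ j) ≫ μ[G]) ≫ q = snd N M ≫ j ≫ q := by
    rw [show (i ⊗ₘ j) ≫ μ[G] = (fst N M ≫ i) * (snd N M ≫ j) by rw [Hom.mul_def]; congr 1, MonObj.mul_comp,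
      Category.assoc, hi, MonObj.comp_one, _root_.one_mul, Category.assoc]
  haveI : Surjective (((i ⊗ₘ j) ≫ μ[G]).left ≫ q.left) := inferInstance
  haveI : Surjective ((snd N M).left ≫ (j ≫ q).left) := by
    rw [← Over.comp_left, ← e, Over.comp_left]; infer_instance
  exact Surjective.of_comp (snd N M).left _

theorem connectedSpace_of_isMonHom (j : M ⟶ G) [IsMonHom j] [Surjective j.left] [ConnectedSpace M.left] :
    ConnectedSpace G.left :=
  j.left.surjective.connectedSpace j.left.continuous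

/-- morphisms from groups with only constant functions to affine groups are trivial -/
theorem eq_one_of_antiaffine [IsAffine A.left] (hM : Function.Surjective M.hom.appTop.hom) (f : M ⟶ A)
    (h : η[M] ≫ f = η[A]) : f = 1 := by
  refine Over.OverMorphism.ext ?_
  have h1 := Groth.Agent.AV.eq_const_of_affine hM η[M].left (Over.w η[M]) f.left
  rw [h1, ← Over.comp_left, h, Hom.one_def, Over.comp_left]
  congr 1

theorem bijective_iff_isIso (M : Over (Spec (CommRingCat.of k))) :
    Function.Bijective ((Scheme.ΓSpecIso (CommRingCat.of k)).inv ≫ M.hom.appTop).hom ↔ IsIso M.hom.appTop := by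
  rw [← ConcreteCategory.isIso_iff_bijective]
  exact isIso_comp_left_iff _ _

/-- the product of commuting homomorphisms is a homomorphism -/
theorem isMonHom_mul (i : N ⟶ G) (j : M ⟶ G) [IsMonHom i] [IsMonHom j]
    (hcomm : ∀ (T : Over (Spec (CommRingCat.of k))) (a : T ⟶ N) (m : T ⟶ M),
      (a ≫ i) * (m ≫ j) = (m ≫ j) * (a ≫ i)) : IsMonHom ((i ⊗ₘ j) ≫ μ[G]) := by
  have hm : (i ⊗ₘ j) ≫ μ[G] = (fst N M ≫ i) * (snd N M ≫ j) := by rw [Hom.mul_def]; congr 1
  rw [hm]
  refine ⟨?_, ?_⟩
  · rw [MonObj.comp_mul, reassoc_of% (IsMonHom.one_hom (f := fst N M)), reassoc_of% (IsMonHom.one_hom (f := snd N M)),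
      IsMonHom.one_hom, IsMonHom.one_hom]
    rw [show η[G] = (1 : 𝟙_ (Over (Spec (CommRingCat.of k))) ⟶ G) by
      rw [Hom.one_def, toUnit_unique (toUnit (𝟙_ _)) (𝟙 _), Category.id_comp]]
    exact _root_.one_mul _
  · rw [MonObj.comp_mul, reassoc_of% (IsMonHom.mul_hom (f := fst N M)), reassoc_of% (IsMonHom.mul_hom (f := snd N M))]
    rw [show μ[N] = fst N N * snd N N by rw [Hom.mul_def, lift_fst_snd, Category.id_comp],
      show μ[M] = fst M M * snd M M by rw [Hom.mul_def, lift_fst_snd, Category.id_comp],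
      show μ[G] = fst G G * snd G G by rw [Hom.mul_def, lift_fst_snd, Category.id_comp]]
    simp only [MonObj.comp_mul, MonObj.mul_comp, tensorHom_fst, tensorHom_fst_assoc, tensorHom_snd,
      tensorHom_snd_assoc]
    have hh := hcomm _ (snd (N ⊗ M) (N ⊗ M) ≫ fst N M) (fst (N ⊗ M) (N ⊗ M) ≫ snd N M)
    simp only [Category.assoc] at hh
    simp only [_root_.mul_assoc, ← _root_.mul_assoc (snd (N ⊗ M) (N ⊗ M) ≫ fst N M ≫ i), hh]

end General

variable [IsAlgClosed k] {G A : Over (Spec (CommRingCat.of k))} [GrpObj G] [GrpObj A]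

/-- a subgroup with affine quotient surjects onto every abelian variety quotient -/
theorem surjective_of_affine_quotient [LocallyOfFiniteType G.hom] [QuasiCompact G.hom] [IsProper A.hom]
    [Smooth A.hom] [ConnectedSpace A.left] (q : G ⟶ A) [IsMonHom q] [Surjective q.left]
    {Z Q' : Over (Spec (CommRingCat.of k))} [GrpObj Z] [GrpObj Q'] [IsAffine Q'.left] [LocallyOfFiniteType Q'.hom]
    (j : Z ⟶ G) [IsMonHom j] [IsClosedImmersion j.left] (π : G ⟶ Q') [IsMonHom π] [Surjective π.left] [Flat π.left]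
    [LocallyOfFinitePresentation π.left] (hker : AlgGrp.IsKernel j π) : Surjective (j ≫ q).left := by
  haveI : IsCommMonObj A := by
    haveI := Groth.L08.Albanese.geometricallyIntegral_of_smooth A
    exact isCommMonObj_of_isProper_of_geometricallyIntegral A
  haveI : LocallyOfFiniteType Z.hom := by rw [← Over.w j]; infer_instance
  haveI : QuasiCompact Z.hom := by rw [← Over.w j]; infer_instance
  obtain ⟨C, gC, p, ic, _, _, hpic, _, _, _, _⟩ := Groth.L08.AbelianGrp.exists_image (j ≫ q)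
  haveI : LocallyOfFiniteType C.hom := by rw [← Over.w ic]; infer_instance
  haveI : QuasiCompact C.hom := by rw [← Over.w ic]; infer_instance
  obtain ⟨D, gD, d, _, _, _, _, _, _, _, hkerd⟩ := Groth.L08.AbelianGrp.exists_quotient ic
  haveI : IsProper D.hom := by
    haveI : IsSeparated D.hom := Groth.Agent.AV.isSeparated_of_grpObj D
    exact isProper_of_surjective d
  obtain ⟨-, hD1, hD2⟩ := Groth.Agent.S7983.result k A D d
  haveI := hD1 ‹_›
  haveI := hD2 ‹_›
  have hj : j ≫ q ≫ d = 1 := by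
    rw [← Category.assoc, ← hpic, Category.assoc, hkerd.w, ← Category.assoc, Hom.one_def]
    congr 1
    exact toUnit_unique _ _
  haveI : QuasiCompact π.left := by
    haveI : QuasiCompact (π.left ≫ Q'.hom) := by rw [Over.w]; infer_instance
    exact .of_comp π.left Q'.hom
  obtain ⟨g, hg, -⟩ := Groth.L25.Actions.existsUnique_desc π (q ≫ d) fun T g₁ g₂ e => by
    obtain ⟨z, hz, -⟩ := hker.exists_lift (g₁ * g₂⁻¹) (toUnit T) (by
      rw [MonObj.mul_comp, GrpObj.inv_comp, e, mul_inv_cancel, Hom.one_def])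
    rw [show g₁ = (z ≫ j) * g₂ by rw [hz, inv_mul_cancel_right], MonObj.mul_comp, Category.assoc, hj,
      MonObj.comp_one, _root_.one_mul]
  haveI : IsMonHom g := by
    haveI : Epi π := (Over.forget _).epi_of_epi_map (inferInstanceAs (Epi π.left))
    haveI : Epi (π ⊗ₘ π) := by
      obtain ⟨_, _, _⟩ := GQuot.cover_tensor₂ π
      exact GQuot.epi_of_cover _
    exact ⟨by rw [← IsMonHom.one_hom (f := π), Category.assoc, hg, IsMonHom.one_hom],
      by rw [← cancel_epi (π ⊗ₘ π), ← IsMonHom.mul_hom_assoc, hg, IsMonHom.mul_hom, tensorHom_comp_tensorHom_assoc, hg]⟩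
  haveI : Surjective g.left := by
    haveI : Surjective (π.left ≫ g.left) := by rw [← Over.comp_left, hg, Over.comp_left]; infer_instance
    exact Surjective.of_comp π.left g.left
  haveI : IsAffine D.left := NormalQuot.isAffine_of_surjective_hom g
  haveI : IsAffineHom D.hom := inferInstance
  haveI : IsFinite D.hom := IsFinite.iff_isProper_and_isAffineHom.2 ⟨‹_›, ‹_›⟩
  haveI := trivial_of_finite D
  have hd : d = 1 := by
    haveI : Mono (toUnit D) := by
      haveI : Mono (toUnit D).left := by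
        rw [show (toUnit D).left = D.hom from (Category.comp_id _).symm.trans (Over.w (toUnit D))]; infer_instance
      exact Over.mono_of_mono_left _
    rw [← cancel_mono (toUnit D)]; exact toUnit_unique _ _
  obtain ⟨l, hl, -⟩ := hkerd.exists_lift (𝟙 A) (toUnit A) (by rw [Category.id_comp, hd, Hom.one_def])
  haveI : Surjective ic.left := by
    haveI : Surjective (l.left ≫ ic.left) := by rw [← Over.comp_left, hl]; infer_instance
    exact Surjective.of_comp l.left ic.left
  rw [← hpic, Over.comp_left]; infer_instance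

variable [Smooth G.hom] [QuasiCompact G.hom] [ConnectedSpace G.left] {N : Over (Spec (CommRingCat.of k))} [GrpObj N]
  (i : N ⟶ G) [IsMonHom i] [IsClosedImmersion i.left] [Smooth N.hom] [ConnectedSpace N.left] [IsAffine N.left]
  (hN : AlgGrp.IsNormalHom i)
  (hNmax : ∀ (N' : Over (Spec (CommRingCat.of k))) [GrpObj N'] (i' : N' ⟶ G) [IsMonHom i'] [IsClosedImmersion i'.left]
    [Smooth N'.hom] [ConnectedSpace N'.left] [IsAffine N'.left], AlgGrp.IsNormalHom i' → ∃ f : N' ⟶ N, f ≫ i = i')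

include hN hNmax in
/-- **`G = Z · G_aff`, and commutativity is that of `G_aff`.** -/
theorem centre_mul_aff {Z : Over (Spec (CommRingCat.of k))} [GrpObj Z] (j : Z ⟶ G) (hZ : Red.IsCentre j) :
    Surjective ((j ⊗ₘ i) ≫ μ[G]).left ∧ (IsCommMonObj G ↔ IsCommMonObj N) := by
  haveI : IsMonHom j := hZ.1
  haveI : IsSeparated G.hom := Groth.Agent.AV.isSeparated_of_grpObj G
  haveI : Mono j := hZ.2.1
  have hcomm : ∀ (T : Over (Spec (CommRingCat.of k))) (z : T ⟶ Z) (g : T ⟶ G), (z ≫ j) * g = g * (z ≫ j) :=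
    fun T z g => by
      have h := (hZ.2.2 T (z ≫ j)).1 ⟨z, rfl⟩ T (𝟙 T) g
      rwa [Category.id_comp, Category.comp_id] at h
  obtain ⟨Z', gZ', j', _, _, hZ'⟩ := Groth.L08.Centre.exists_centre G
  haveI : Mono j' := Over.mono_of_mono_left j'
  obtain ⟨f, hf⟩ := (hZ'.2.2 Z j).2 fun X' x h => by rw [Category.comp_id]; exact hcomm X' x h
  obtain ⟨f', hf'⟩ := (hZ.2.2 Z' j').2 ((hZ'.2.2 Z' j').1 ⟨𝟙 _, Category.id_comp _⟩)
  haveI : IsClosedImmersion j.left := by
    have e : j = f ≫ j' := hf.symm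
    haveI : IsIso f := ⟨f', by rw [← cancel_mono j, Category.assoc, hf', hf, Category.id_comp],
      by rw [← cancel_mono j', Category.assoc, hf, hf', Category.id_comp]⟩
    haveI : IsIso f.left := inferInstanceAs (IsIso ((Over.forget _).map f))
    rw [e, Over.comp_left]; infer_instance
  haveI : LocallyOfFiniteType Z.hom := by rw [← Over.w j]; infer_instance
  have hZn : AlgGrp.IsNormalHom j := fun T g z => ⟨z, by rw [← hcomm T z g, mul_inv_cancel_right]⟩
  obtain ⟨Y, p₀, _, _, _, sqp⟩ := GQuot.exists_quotient_field j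
  obtain ⟨Q', π, _, _, _, sqq, hlft, -, hqc, -, -⟩ := GQuot.exists_struct p₀ sqp
  obtain ⟨gQ', _, hkerπ⟩ := GQuot.exists_grp hZn π sqq
  haveI := hlft inferInstance
  haveI := hqc inferInstance
  haveI : IsAffine Q'.left := Groth.L08.Centre.isAffine_quotient j hZ π hkerπ
  obtain ⟨A, gA, q, _, _, _, _, hker, _, _, _⟩ := exists_quotient_av i hN hNmax
  have hs := (surjective_mul_of_surjective i j q hker (surjective_of_affine_quotient q j π hkerπ)).2
  refine ⟨hs, ?_, fun hc => ?_⟩
  · intro hG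
    haveI : Mono i := Over.mono_of_mono_left i
    refine ⟨?_⟩
    rw [← cancel_mono i, Category.assoc, IsMonHom.mul_hom, ← BraidedCategory.braiding_naturality_assoc,
      IsCommMonObj.mul_comm]
  haveI := hc
  haveI := hs
  refine ⟨?_⟩
  haveI : IsReduced (G ⊗ G).left := by
    haveI : IsReduced G.left := Groth.Agent.AV.isReduced_of_smooth_field G.hom
    exact Rosen.isReduced_tensor G G
  let m := (j ⊗ₘ i) ≫ μ[G]
  haveI : Surjective (m ⊗ₘ m).left := by
    rw [MonoidalCategory.tensorHom_def, Over.comp_left]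
    haveI := Groth.L25.Actions.of_whiskerRight @Surjective m (Z ⊗ N) hs
    haveI := Groth.L25.Actions.of_whiskerLeft @Surjective G m hs
    infer_instance
  haveI : IsDominant (m ⊗ₘ m).left := inferInstance
  have key : (m ⊗ₘ m) ≫ (β_ G G).hom ≫ μ[G] = (m ⊗ₘ m) ≫ μ[G] := by
    have e1 : m = (fst Z N ≫ j) * (snd Z N ≫ i) := by rw [Hom.mul_def]; show m = _; congr 1
    have e2 : ∀ {T : Over (Spec (CommRingCat.of k))} (t : T ⟶ G ⊗ G), t ≫ (β_ G G).hom ≫ μ[G] =
        (t ≫ snd G G) * (t ≫ fst G G) := fun t => by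
      rw [Hom.mul_def, ← comp_lift, Category.assoc]; congr 2
    have e3 : ∀ {T : Over (Spec (CommRingCat.of k))} (t : T ⟶ G ⊗ G), t ≫ μ[G] =
        (t ≫ fst G G) * (t ≫ snd G G) := fun t => by
      rw [Hom.mul_def, ← comp_lift, lift_fst_snd, Category.comp_id]
    rw [e2, e3, tensorHom_fst, tensorHom_snd, e1]
    simp only [MonObj.comp_mul, ← Category.assoc]
    generalize (fst (Z ⊗ N) (Z ⊗ N) ≫ fst Z N) = z, (fst (Z ⊗ N) (Z ⊗ N) ≫ snd Z N) = n,
      (snd (Z ⊗ N) (Z ⊗ N) ≫ fst Z N) = z', (snd (Z ⊗ N) (Z ⊗ N) ≫ snd Z N) = n'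
    have hn : (n' ≫ i) * (n ≫ i) = (n ≫ i) * (n' ≫ i) := by
      rw [← MonObj.mul_comp, ← MonObj.mul_comp, mul_comm]
    rw [hcomm _ z', hcomm _ z, ← _root_.mul_assoc, ← _root_.mul_assoc,
      _root_.mul_assoc (n' ≫ i) (z' ≫ j) (n ≫ i), hcomm _ z' (n ≫ i), ← _root_.mul_assoc, hn,
      _root_.mul_assoc (n ≫ i) (z ≫ j) (n' ≫ i), hcomm _ z (n' ≫ i), ← _root_.mul_assoc,
      _root_.mul_assoc _ (z' ≫ j) (z ≫ j), hcomm _ z' (z ≫ j), ← _root_.mul_assoc]
  exact Over.OverMorphism.ext (ext_of_isDominant_of_isSeparated G.hom (by rw [Over.w, Over.w]) (m ⊗ₘ m).left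
    (congrArg (fun f => f.left) key))

include hN hNmax in
/-- **`G = G_aff · G_ant` and `G_ant` is the least such.** -/
theorem aff_mul_ant {M : Over (Spec (CommRingCat.of k))} [GrpObj M] (j : M ⟶ G) [IsMonHom j] [IsClosedImmersion j.left]
    (hM : Function.Bijective ((Scheme.ΓSpecIso (CommRingCat.of k)).inv ≫ M.hom.appTop).hom)
    (hMmax : ∀ (M' : Over (Spec (CommRingCat.of k))) [GrpObj M'] (j' : M' ⟶ G) [IsMonHom j'] [IsClosedImmersion j'.left],
      Function.Bijective ((Scheme.ΓSpecIso (CommRingCat.of k)).inv ≫ M'.hom.appTop).hom → ∃ f : M' ⟶ M, f ≫ j = j') :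
    Surjective ((i ⊗ₘ j) ≫ μ[G]).left ∧
      ∀ (H : Over (Spec (CommRingCat.of k))) [GrpObj H] (h : H ⟶ G) [IsMonHom h] [IsClosedImmersion h.left],
        Surjective ((i ⊗ₘ h) ≫ μ[G]).left → ∃ f : M ⟶ H, f ≫ h = j := by
  haveI := (bijective_iff_isIso M).1 hM
  obtain ⟨A, gA, q, _, _, _, _, hker, _, _, _⟩ := exists_quotient_av i hN hNmax
  have hiq : i ≫ q = 1 := by rw [hker.w, Hom.one_def]
  -- every closed subgroup surjecting onto the abelian variety contains the anti-affine part
  have main : ∀ (H : Over (Spec (CommRingCat.of k))) [GrpObj H] (h : H ⟶ G) [IsMonHom h] [IsClosedImmersion h.left],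
      Surjective (h ≫ q).left → (Surjective (j ≫ q).left ∧ ∃ f : M ⟶ H, f ≫ h = j) := by
    intro H _ h _ _ hs
    haveI := hs
    haveI : LocallyOfFiniteType H.hom := by rw [← Over.w h]; infer_instance
    haveI : QuasiCompact H.hom := by rw [← Over.w h]; infer_instance
    haveI := AffHull.compactSpace (G := H)
    haveI := AffHull.quasiSeparatedSpace (G := H)
    obtain ⟨_, _, _, _⟩ := AffHull.hull_props (G := H)
    obtain ⟨K, gK, κ, _, _, -, sq⟩ := AbelianGrp.exists_kernel (AffHull.rho H)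
    haveI : IsAffine (AffHull.hull H).left := inferInstanceAs (IsAffine (Spec _))
    have hsK : Surjective (κ ≫ h ≫ q).left := surjective_of_affine_quotient (h ≫ q) κ (AffHull.rho H) sq
    haveI := AffHull.isIso_appTop_kernel κ sq
    haveI : IsClosedImmersion (κ ≫ h).left := inferInstanceAs (IsClosedImmersion (κ.left ≫ h.left))
    haveI : LocallyOfFiniteType K.hom := by rw [← Over.w (κ ≫ h)]; infer_instance
    haveI : QuasiCompact K.hom := by rw [← Over.w (κ ≫ h)]; infer_instance
    haveI : Mono (κ ≫ h) := Over.mono_of_mono_left _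
    obtain ⟨f, hf⟩ := hMmax K (κ ≫ h) ((bijective_iff_isIso K).2 inferInstance)
    refine ⟨?_, ?_⟩
    · haveI : Surjective (f.left ≫ (j ≫ q).left) := by
        rw [← Over.comp_left, ← Category.assoc, hf, Category.assoc]; exact hsK
      exact Surjective.of_comp f.left _
    · have hc := Centre.central (H := K) (G := G) (ConcreteCategory.bijective_of_isIso K.hom.appTop).2 (κ ≫ h)
      have hKn : AlgGrp.IsNormalHom (κ ≫ h) := fun T g x => ⟨x, by
        have := congrArg (fun e => lift x g ≫ e) hc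
        simp only [MonObj.comp_mul, lift_fst_assoc, lift_snd] at this
        rw [← this, mul_inv_cancel_right]⟩
      obtain ⟨Y, p₀, _, _, _, sqp⟩ := GQuot.exists_quotient_field (κ ≫ h)
      obtain ⟨Q'', π, _, _, _, sqq, hlft, -, hqc, -, -⟩ := GQuot.exists_struct p₀ sqp
      obtain ⟨gQ'', _, hkerπ⟩ := GQuot.exists_grp hKn π sqq
      haveI := hlft inferInstance
      haveI : LocallyOfFiniteType N.hom := by rw [← Over.w i]; infer_instance
      have hKs : Surjective (((κ ≫ h) ⊗ₘ i) ≫ μ[G]).left :=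
        (surjective_mul_of_surjective i (κ ≫ h) q hker (by rw [Category.assoc]; exact hsK)).2
      haveI : Surjective (i ≫ π).left :=
        surjective_of_surjective_mul (κ ≫ h) i π (by rw [hkerπ.w, Hom.one_def]) hKs
      haveI : IsAffine Q''.left := NormalQuot.isAffine_of_surjective_hom (i ≫ π)
      have h1 : j ≫ π = 1 := eq_one_of_antiaffine (ConcreteCategory.bijective_of_isIso M.hom.appTop).2 (j ≫ π)
        (IsMonHom.one_hom (f := j ≫ π))
      obtain ⟨l, hl, -⟩ := hkerπ.exists_lift j (toUnit M) (by rw [h1, Hom.one_def])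
      exact ⟨l ≫ κ, by rw [Category.assoc]; exact hl⟩
  have hsj : Surjective (j ≫ q).left :=
    (main G (𝟙 G) (by rw [Category.id_comp]; infer_instance)).1
  exact ⟨(surjective_mul_of_surjective i j q hker hsj).1, fun H _ h _ _ hs =>
    (main H h (surjective_of_surjective_mul i h q hiq hs)).2⟩

/-- **Quasi-complements of abelian subvarieties.** -/
theorem exists_quasiComplement {B : Over (Spec (CommRingCat.of k))} [GrpObj B] [IsProper B.hom] [Smooth B.hom]
    [ConnectedSpace B.left] (u : B ⟶ G) [IsMonHom u] [IsClosedImmersion u.left] :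
    ∃ (H : Over (Spec (CommRingCat.of k))) (_ : GrpObj H) (h : H ⟶ G), IsMonHom h ∧ IsClosedImmersion h.left ∧ Smooth H.hom ∧
      ConnectedSpace H.left ∧ AlgGrp.IsNormalHom h ∧ Surjective ((u ⊗ₘ h) ≫ μ[G]).left ∧
      IsFinite (pullback.fst u.left h.left ≫ B.hom) := by
  obtain ⟨W, gW, w, _, _, hWn, hcm, hfl, hsurj, hfin, hWsm⟩ := Rosen.exists_compl u
  haveI := hWsm inferInstance
  haveI : Mono w := Over.mono_of_mono_left w
  haveI : QuasiCompact W.hom := by rw [← Over.w w]; infer_instance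
  obtain ⟨H, gH, j, hj⟩ := exists_idComp W
  haveI := hj.hom
  haveI := hj.closedImm
  haveI := hj.openImm
  haveI := hj.connectedSpace
  haveI := hj.smooth
  haveI := hj.quasiCompact
  haveI : IsClosedImmersion (j ≫ w).left := inferInstanceAs (IsClosedImmersion (j.left ≫ w.left))
  refine ⟨H, gH, j ≫ w, inferInstance, inferInstance, inferInstance, inferInstance, hj.normal w hWn, ?_, ?_⟩
  · have hH : ∀ (T : Over (Spec (CommRingCat.of k))) (a : T ⟶ B) (x : T ⟶ H),
        (a ≫ u) * (x ≫ j ≫ w) = (x ≫ j ≫ w) * (a ≫ u) := fun T a x => by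
      rw [← Category.assoc x]; exact hcm T a (x ≫ j)
    haveI : IsMonHom ((u ⊗ₘ (j ≫ w)) ≫ μ[G]) := isMonHom_mul u (j ≫ w) hH
    haveI : LocallyOfFiniteType (B ⊗ H).hom :=
      inferInstanceAs (LocallyOfFiniteType (pullback.fst B.hom H.hom ≫ B.hom))
    haveI : QuasiCompact (B ⊗ H).hom :=
      inferInstanceAs (QuasiCompact (pullback.fst B.hom H.hom ≫ B.hom))
    obtain ⟨C, gC, p, ic, _, _, hpic, _, _, _, _⟩ :=
      Groth.L08.AbelianGrp.exists_image ((u ⊗ₘ (j ≫ w)) ≫ μ[G])
    have hr : Set.range ((u ⊗ₘ (j ≫ w)) ≫ μ[G]).left = Set.range ic.left := by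
      rw [← hpic, Over.comp_left]
      exact p.left.surjective.range_comp ic.left
    have heq : (u ⊗ₘ (j ≫ w)) ≫ μ[G] = (B ◁ j) ≫ (u ⊗ₘ w) ≫ μ[G] := by
      rw [← id_tensorHom, tensorHom_comp_tensorHom_assoc, Category.id_comp]
    haveI : IsOpenImmersion (B ◁ j).left := Groth.L25.Actions.of_whiskerLeft @IsOpenImmersion B j ‹_›
    haveI := hfl
    haveI : LocallyOfFiniteType W.hom := by rw [← Over.w w]; infer_instance
    haveI : LocallyOfFiniteType (B ⊗ W).hom :=
      inferInstanceAs (LocallyOfFiniteType (pullback.fst B.hom W.hom ≫ B.hom))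
    haveI : IsLocallyNoetherian G.left := LocallyOfFiniteType.isLocallyNoetherian G.hom
    haveI : LocallyOfFiniteType ((u ⊗ₘ w) ≫ μ[G]).left := by
      haveI : LocallyOfFiniteType (((u ⊗ₘ w) ≫ μ[G]).left ≫ G.hom) := by rw [Over.w]; infer_instance
      exact locallyOfFiniteType_of_comp ((u ⊗ₘ w) ≫ μ[G]).left G.hom
    haveI : UniversallyOpen ((u ⊗ₘ w) ≫ μ[G]).left := inferInstance
    have hopen : IsOpen (Set.range ic.left) := by
      rw [← hr, heq, Over.comp_left]
      show IsOpen (Set.range (((u ⊗ₘ w) ≫ μ[G]).left ∘ (B ◁ j).left))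
      rw [Set.range_comp]
      exact ((u ⊗ₘ w) ≫ μ[G]).left.isOpenMap _ (B ◁ j).left.isOpenEmbedding.isOpen_range
    refine ⟨Set.range_eq_univ.1 ?_⟩
    rw [hr]
    exact IsClopen.eq_univ ⟨ic.left.isClosedEmbedding.isClosed_range, hopen⟩
      ⟨_, Groth.L25.Component.one C, rfl⟩
  · let t : pullback u.left (j ≫ w).left ⟶ pullback u.left w.left :=
      pullback.lift (pullback.fst _ _) (pullback.snd _ _ ≫ j.left)
        (by rw [Category.assoc, ← Over.comp_left]; exact pullback.condition)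
    haveI : IsClosedImmersion (t ≫ pullback.fst u.left w.left) := by rw [pullback.lift_fst]; infer_instance
    haveI : IsClosedImmersion t := IsClosedImmersion.of_comp t (pullback.fst u.left w.left)
    haveI := hfin
    rw [show pullback.fst u.left (j ≫ w).left ≫ B.hom = t ≫ pullback.fst u.left w.left ≫ B.hom by
      rw [pullback.lift_fst_assoc]]
    infer_instance

end Groth.L08.Chev
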