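import Groth.Agent.L08.Chev.AntiAffine
import Groth.Agent.L08.IdentityComponent
import Groth.Agent.L07.DVRProper
import Mathlib.Topology.KrullDimension

/-!
# Reduction to the identity component
-/

set_option autoImplicit false
set_option backward.isDefEq.respectTransparency.types false
set_option linter.style.haveILetI false
set_option linter.unusedSectionVars false

universe u

open CategoryTheory CategoryTheory.Limits MonoidalCategory CartesianMonoidalCategory MonObj GrpObj AlgebraicGeometry

noncomputable section

namespace Groth.L08.Chev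

theorem dim_pos_of_specializes {X : Type*} [TopologicalSpace X] [T0Space X] {η' p' : X} (h : η' ⤳ p')
    (hne : η' ≠ p') : 0 < topologicalKrullDim X := by
  let a : TopologicalSpace.IrreducibleCloseds X :=
    ⟨closure {p'}, isIrreducible_singleton.closure, isClosed_closure⟩
  let b : TopologicalSpace.IrreducibleCloseds X :=
    ⟨closure {η'}, isIrreducible_singleton.closure, isClosed_closure⟩
  have hab : a < b := by
    refine lt_of_le_of_ne (show closure {p'} ⊆ closure {η'} from specializes_iff_closure_subset.1 h) fun e => hne ?_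
    have e' : closure ({p'} : Set X) = closure {η'} := congrArg (fun s : TopologicalSpace.IrreducibleCloseds X => (s : Set X)) e
    exact (h.antisymm (specializes_iff_closure_subset.2 e'.symm.subset)).eq
  refine lt_of_lt_of_le (show (0 : WithBot ℕ∞) < 1 by norm_num) ?_
  show (1 : WithBot ℕ∞) ≤ Order.krullDim (TopologicalSpace.IrreducibleCloseds X)
  exact le_iSup_of_le ⟨1, ![a, b], fun i => by fin_cases i; exact hab⟩ le_rfl

variable {k : Type u} [Field k] [IsAlgClosed k]

theorem isProper_of_component (G : Over (Spec (CommRingCat.of k))) [GrpObj G] [LocallyOfFiniteType G.hom]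
    [QuasiCompact G.hom] [IsSeparated G.hom] {N : Over (Spec (CommRingCat.of k))} (j : N ⟶ G)
    (hrange : Set.range j.left = connectedComponent (Groth.L25.Component.one G)) (hN : IsProper N.hom) :
    IsProper G.hom := by
  classical
  haveI := hN
  haveI : IsLocallyNoetherian G.left := LocallyOfFiniteType.isLocallyNoetherian G.hom
  haveI : CompactSpace G.left := QuasiCompact.compactSpace_of_compactSpace G.hom
  have hopen : ∀ x : G.left, IsOpen (connectedComponent x) := fun x =>
    Groth.L25.Component.isOpen_of_mem G (Groth.L25.Component.connectedComponent_mem G x)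
  obtain ⟨T, hT⟩ := isCompact_univ.elim_finite_subcover (fun x : G.left => connectedComponent x) hopen
    (fun x _ => Set.mem_iUnion.2 ⟨x, mem_connectedComponent⟩)
  have hpt : ∀ x : G.left, ∃ g : SP k k ⟶ G, pt g ∈ connectedComponent x := fun x =>
    exists_point_mem (hopen x).isLocallyClosed ⟨x, mem_connectedComponent⟩
  choose g hg using hpt
  let τ : (SP k k ⟶ G) → (G ⟶ G) := fun h => (str G ≫ h) * 𝟙 G
  have hτ : ∀ h, τ h⁻¹ ≫ τ h = 𝟙 G := fun h => by
    rw [MonObj.comp_mul, Category.comp_id, ← Category.assoc, hom_to_SP_ext (τ h⁻¹ ≫ str G) (str G)]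
    show (str G ≫ h) * ((str G ≫ h⁻¹) * 𝟙 G) = 𝟙 G
    rw [← _root_.mul_assoc, ← MonObj.comp_mul, _root_.mul_inv_cancel, MonObj.comp_one, _root_.one_mul]
  haveI : UniversallyClosed G.hom := by
    refine Groth.L07.DVRProper.universallyClosed_of_finite_cover G.hom (κ := T) (fun _ => N.left)
      (fun x => (j ≫ τ (g x)).left) (fun y => ?_) (fun x => ?_)
    · obtain ⟨x, hxT, hy⟩ := Set.mem_iUnion₂.1 (hT (Set.mem_univ y))
      have hmem : (τ (g x)⁻¹).left y ∈ connectedComponent (Groth.L25.Component.one G) := by
        refine (isPreconnected_connectedComponent.image _ (τ (g x)⁻¹).left.continuous.continuousOn).subset_connectedComponent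
          ⟨pt (g x), hg x, ?_⟩ ⟨y, hy, rfl⟩
        show (τ (g x)⁻¹).left (pt (g x)) = _
        rw [← Scheme.Hom.comp_apply, ← Over.comp_left, MonObj.comp_mul, Category.comp_id, ← Category.assoc,
          hom_to_SP_ext (g x ≫ str G) (𝟙 _), Category.id_comp, _root_.inv_mul_cancel, Hom.one_def]
        show η[G].left _ = η[G].left _
        congr 1

      rw [← hrange] at hmem
      obtain ⟨q, hq⟩ := hmem
      refine ⟨⟨x, hxT⟩, q, ?_⟩
      show (τ (g x)).left (j.left q) = y
      rw [hq, ← Scheme.Hom.comp_apply, ← Over.comp_left, hτ]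
      rfl
    · rw [Over.w (j ≫ τ (g x))]
      infer_instance
  exact {}

end Groth.L08.Chev
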