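import Groth.Agent.L08.IdentityComponent
import Groth.Agent.L08.GrpDim
import Groth.Agent.L08.Chev.Reduce
import Groth.Agent.L21.CurveTop
import Groth.Agent.L08.Albanese.Trace
import Groth.Prelude.Def_AlgGrp
import Groth.Agent.L26.AV.SmoothField

/-!
# Identity components: smoothness, normality, and finiteness of groups with trivial component
-/

set_option autoImplicit false
set_option backward.isDefEq.respectTransparency.types false
set_option linter.style.haveILetI false
set_option linter.unusedSectionVars false

universe u

open CategoryTheory CategoryTheory.Limits MonoidalCategory CartesianMonoidalCategory MonObj AlgebraicGeometry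
open Groth.L25 (Component.one)

noncomputable section

namespace Groth.L08.Chev

variable {k : Type u} [Field k]

/-- an identity component -/
structure IdCompData {H₀ H : Over (Spec (CommRingCat.of k))} [GrpObj H₀] [GrpObj H] (j : H₀ ⟶ H) : Prop where
  hom : IsMonHom j
  closedImm : IsClosedImmersion j.left
  openImm : IsOpenImmersion j.left
  range : Set.range j.left = connectedComponent (Groth.L25.Component.one H)

variable {H₀ H : Over (Spec (CommRingCat.of k))} [GrpObj H₀] [GrpObj H] {j : H₀ ⟶ H}

theorem exists_idComp (H : Over (Spec (CommRingCat.of k))) [GrpObj H] [LocallyOfFiniteType H.hom] :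
    ∃ (H₀ : Over (Spec (CommRingCat.of k))) (_ : GrpObj H₀) (j : H₀ ⟶ H), IdCompData j :=
  let ⟨N, g, j, a, b, c, d⟩ := IdComp.exists_identityComponent H
  ⟨N, g, j, ⟨a, b, c, d⟩⟩

theorem IdCompData.connectedSpace (hj : IdCompData j) : ConnectedSpace H₀.left := by
  haveI := hj.openImm
  rw [connectedSpace_iff_univ]
  refine ⟨?_, j.left.isOpenEmbedding.isInducing.isPreconnected_image.mp
    (by rw [Set.image_univ, hj.range]; exact isPreconnected_connectedComponent)⟩
  obtain ⟨x, -⟩ : Groth.L25.Component.one H ∈ Set.range j.left := hj.range ▸ mem_connectedComponent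
  exact ⟨x, trivial⟩

theorem IdCompData.smooth (hj : IdCompData j) [Smooth H.hom] : Smooth H₀.hom := by
  haveI := hj.openImm
  rw [← Over.w j]; infer_instance

theorem IdCompData.lft (hj : IdCompData j) [LocallyOfFiniteType H.hom] : LocallyOfFiniteType H₀.hom := by
  haveI := hj.openImm
  rw [← Over.w j]; infer_instance

theorem IdCompData.quasiCompact (hj : IdCompData j) [QuasiCompact H.hom] : QuasiCompact H₀.hom := by
  haveI := hj.closedImm
  rw [← Over.w j]; infer_instance

theorem IdCompData.isAffine (hj : IdCompData j) [IsAffine H.left] : IsAffine H₀.left := by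
  haveI := hj.closedImm
  exact isAffine_of_isAffineHom j.left

theorem IdCompData.isProper (hj : IdCompData j) [IsProper H.hom] : IsProper H₀.hom := by
  haveI := hj.closedImm
  rw [← Over.w j]; infer_instance

/-- factoring through the identity component -/
theorem IdCompData.exists_lift (hj : IdCompData j) {T : Over (Spec (CommRingCat.of k))} [PreconnectedSpace T.left]
    (f : T ⟶ H) {c : T.left} (hc : f.left c = Groth.L25.Component.one H) : ∃ z : T ⟶ H₀, z ≫ j = f := by
  haveI := hj.openImm
  have hsub : Set.range f.left ⊆ Set.range j.left := by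
    rw [hj.range]
    rintro _ ⟨x, rfl⟩
    exact IdComp.mem_component_of_preconnected f.left hc x
  refine ⟨Over.homMk (IsOpenImmersion.lift j.left f.left hsub) ?_, Over.OverMorphism.ext (IsOpenImmersion.lift_fac _ _ _)⟩
  rw [← Over.w j, IsOpenImmersion.lift_fac_assoc]
  exact Over.w f

theorem IdCompData.exists_lift_hom (hj : IdCompData j) {T : Over (Spec (CommRingCat.of k))} [GrpObj T]
    [ConnectedSpace T.left] (f : T ⟶ H) [IsMonHom f] : ∃ z : T ⟶ H₀, z ≫ j = f :=
  hj.exists_lift f (c := Groth.L25.Component.one T)
    (congr(($(IsMonHom.one_hom (f := f))).left (IsLocalRing.closedPoint k)))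

/-- the identity component of a normal subgroup of a connected group is normal -/
theorem IdCompData.normal (hj : IdCompData j) [LocallyOfFiniteType H.hom] {G : Over (Spec (CommRingCat.of k))}
    [GrpObj G] [LocallyOfFiniteType G.hom] [ConnectedSpace G.left] (h : H ⟶ G) [IsMonHom h] [Mono h]
    (hn : AlgGrp.IsNormalHom h) : AlgGrp.IsNormalHom (j ≫ h) := by
  haveI := hj.hom
  haveI := hj.connectedSpace
  haveI := hj.lft
  haveI : IsLocallyNoetherian G.left := LocallyOfFiniteType.isLocallyNoetherian G.hom
  haveI : IsLocallyNoetherian H₀.left := LocallyOfFiniteType.isLocallyNoetherian H₀.hom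
  haveI := Groth.L25.Component.irreducibleSpace G
  haveI := Groth.L25.Component.irreducibleSpace H₀
  haveI := Groth.L25.Component.geometricallyIrreducible G
  haveI : IrreducibleSpace (G ⊗ H₀).left := inferInstanceAs (IrreducibleSpace ↥(pullback G.hom H₀.hom))
  intro T g b
  obtain ⟨c, hc⟩ := hn _ (fst G H₀) (snd G H₀ ≫ j)
  have h1 : lift η[G] η[H₀] ≫ c = η[H] := by
    rw [← cancel_mono h, Category.assoc, ← hc, MonObj.comp_mul, MonObj.comp_mul, GrpObj.comp_inv, lift_fst]
    simp only [Category.assoc, lift_snd_assoc, reassoc_of% (IsMonHom.one_hom (f := j)), IsMonHom.one_hom (f := h)]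
    rw [show η[G] = (1 : 𝟙_ (Over (Spec (CommRingCat.of k))) ⟶ G) by
      rw [Hom.one_def, toUnit_unique (toUnit (𝟙_ _)) (𝟙 _), Category.id_comp]]
    simp
  obtain ⟨z, hz⟩ := hj.exists_lift c (c := (lift η[G] η[H₀]).left (IsLocalRing.closedPoint k))
    (congr(($h1).left (IsLocalRing.closedPoint k)))
  refine ⟨lift g b ≫ z, ?_⟩
  have h2 := congrArg (fun m => lift g b ≫ m) hc
  simp only [MonObj.comp_mul, GrpObj.comp_inv, lift_fst, lift_snd_assoc, Category.assoc] at h2
  simp only [Category.assoc] at h2 ⊢
  rw [h2, reassoc_of% hz]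

/-- a group with trivial identity component is finite -/
theorem finite_of_trivial_component (hj : IdCompData j) [LocallyOfFiniteType H.hom] [QuasiCompact H.hom]
    (h : IsIso H₀.hom) : IsFinite H.hom ∧ ¬ 0 < topologicalKrullDim H.left := by
  haveI := h
  haveI := hj.openImm
  haveI : IsLocallyNoetherian H.left := LocallyOfFiniteType.isLocallyNoetherian H.hom
  have hsub : Subsingleton H₀.left := H₀.hom.homeomorph.injective.subsingleton
  have hC : connectedComponent (Groth.L25.Component.one H) = {Groth.L25.Component.one H} := by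
    refine Set.Subsingleton.eq_singleton_of_mem (hj.range ▸ ?_) mem_connectedComponent
    rintro _ ⟨a, rfl⟩ _ ⟨b, rfl⟩
    rw [Subsingleton.elim a b]
  have hone : IsOpen ({Groth.L25.Component.one H} : Set H.left) := by
    rw [← hC, ← hj.range]; exact j.left.isOpenEmbedding.isOpen_range
  have hmax : ∀ w, w ⤳ Groth.L25.Component.one H → w = Groth.L25.Component.one H :=
    fun w hw => hw.mem_open hone rfl
  obtain ⟨n, hn, hdim⟩ := Groth.L08.GrpDim.exists_dim (G := H)
  have hcl : IsClosed ({Groth.L25.Component.one H} : Set H.left) := hC ▸ isClosed_connectedComponent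
  have h0 : (n : WithBot ℕ∞) = 0 := by
    have h1 : (n : WithBot ℕ∞) ≤ 0 := by
      rw [← hn _ hmax, hcl.closure_eq]
      exact topologicalKrullDim_zero_of_discreteTopology _
    exact le_antisymm h1 (by exact_mod_cast Nat.zero_le n)
  rw [h0] at hdim
  haveI : DiscreteTopology H.left := by
    refine discreteTopology_iff_isOpen_singleton.2 fun x => ?_
    have hCx := Groth.L25.Component.connectedComponent_mem H x
    have hop := Groth.L25.Component.isOpen_of_mem H hCx
    suffices hs : connectedComponent x = {x} by rwa [hs] at hop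
    refine Set.Subsingleton.eq_singleton_of_mem (fun a ha b hb => ?_) mem_connectedComponent
    obtain ⟨ξ, hξ⟩ := QuasiSober.sober hCx.1 isClosed_connectedComponent
    have key : ∀ y ∈ connectedComponent x, ξ = y := fun y hy => by
      by_contra hne
      have := dim_pos_of_specializes (hξ.specializes hy) hne
      rw [hdim] at this
      exact lt_irrefl _ this
    rw [← key a ha, key b hb]
  haveI : CompactSpace H.left := QuasiCompact.compactSpace_of_compactSpace H.hom
  haveI : Finite H.left := finite_of_compact_of_discrete
  exact ⟨Groth.L21.CurveTop.isFinite_of_discrete H.hom, by rw [hdim]; exact lt_irrefl _⟩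

/-- a finite smooth connected group is trivial -/
theorem trivial_of_finite (B : Over (Spec (CommRingCat.of k))) [GrpObj B] [Smooth B.hom]
    [ConnectedSpace B.left] [IsFinite B.hom] : IsIso B.hom := by
  haveI : IsReduced B.left := Groth.Agent.AV.isReduced_of_smooth_field B.hom
  haveI : IsLocallyNoetherian B.left := LocallyOfFiniteType.isLocallyNoetherian B.hom
  haveI : IsClosedImmersion (η[B] : 𝟙_ (Over (Spec (CommRingCat.of k))) ⟶ B).left :=
    Groth.L08.AbelianGrp.isClosedImmersion_one B
  haveI : IsAffine B.left := isAffine_of_isAffineHom B.hom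
  obtain ⟨_, _⟩ := Groth.L08.Albanese.finite_discrete B.hom
  haveI : Subsingleton B.left := Set.subsingleton_univ_iff.1 isPreconnected_univ.subsingleton
  haveI : Surjective (η[B] : 𝟙_ (Over (Spec (CommRingCat.of k))) ⟶ B).left :=
    ⟨fun x => ⟨IsLocalRing.closedPoint k, Subsingleton.elim _ _⟩⟩
  haveI := isIso_of_isClosedImmersion_of_surjective (η[B] : 𝟙_ (Over (Spec (CommRingCat.of k))) ⟶ B).left
  have h1 : η[B].left ≫ B.hom = 𝟙 _ := Over.w η[B]
  exact IsIso.of_isIso_fac_left h1

end Groth.L08.Chev
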