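import Groth.Agent.L08.Chev.Transfer
import Groth.Agent.L19.AlgGrpBasic.SubgroupWords
import Groth.Agent.L19.AlgGrpBasic.RatClosure

/-!
# A subgroup along which the valuation is regular
-/

set_option autoImplicit false
set_option backward.isDefEq.respectTransparency.types false
set_option linter.style.haveILetI false
set_option linter.unusedSectionVars false

universe u

open CategoryTheory CategoryTheory.Limits MonoidalCategory CartesianMonoidalCategory MonObj GrpObj AlgebraicGeometry TensorProduct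
open Groth.L19.AlgGrpBasic (word wordSet prs pw)

noncomputable section

namespace Groth.L08.Chev

variable {k : Type u} [Field k] [IsAlgClosed k]

theorem SP_hom_id : (SP k k).hom = 𝟙 _ := Spec.map_id _

theorem exists_point_mem {X : Over (Spec (CommRingCat.of k))} [LocallyOfFiniteType X.hom] {O : Set X.left}
    (hO : IsLocallyClosed O) (hne : O.Nonempty) : ∃ t : SP k k ⟶ X, pt t ∈ O := by
  haveI : JacobsonSpace X.left := LocallyOfFiniteType.jacobsonSpace X.hom
  obtain ⟨p, hp, hpc⟩ := nonempty_inter_closedPoints hne hO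
  let s := (pointEquivClosedPoint X.hom).symm ⟨p, hpc⟩
  refine ⟨Over.homMk s.1 (s.2.trans (SP_hom_id (k := k)).symm), ?_⟩
  show s.1 (IsLocalRing.closedPoint k) ∈ O
  rw [show s.1 (IsLocalRing.closedPoint k) = p from
    congrArg Subtype.val ((pointEquivClosedPoint X.hom).apply_symm_apply ⟨p, hpc⟩)]
  exact hp

theorem point_ext {X : Over (Spec (CommRingCat.of k))} [LocallyOfFiniteType X.hom] {s t : SP k k ⟶ X}
    (h : pt s = pt t) : s = t := by
  refine Over.OverMorphism.ext (ext_of_apply_closedPoint_eq X.hom ?_ ?_ h)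
  · exact (Over.w s).trans SP_hom_id
  · exact (Over.w t).trans SP_hom_id

theorem geometricallyReduced_of_reduced (X : Over (Spec (CommRingCat.of k))) [IsReduced X.left]
    [LocallyOfFiniteType X.hom] : GeometricallyReduced X.hom := by
  refine Groth.L19.AlgGrpBasic.geometricallyReduced_of_dense_points X.hom
    (fun s : SP k k ⟶ X => s.left) (fun s => (Over.w s).trans SP_hom_id) ?_
  refine dense_iff_inter_open.2 fun U hU hne => ?_
  obtain ⟨t, ht⟩ := exists_point_mem hU.isLocallyClosed hne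
  exact ⟨_, ht, t, rfl⟩

theorem word_mem_of_points {X G : Over (Spec (CommRingCat.of k))} [GrpObj G] (φ : X ⟶ G) (S : Set (SP k k ⟶ G))
    (h1 : (1 : SP k k ⟶ G) ∈ S) (hmul : ∀ a b, a ∈ S → b ∈ S → a * b ∈ S) (hφ : ∀ x : SP k k ⟶ X, x ≫ φ ∈ S)
    (l : List (SP k k ⟶ X)) : word φ l ∈ S := by
  induction l with
  | nil => simpa [word] using h1
  | cons x l ih =>
    have : word φ (x :: l) = (x ≫ φ) * word φ l := by simp [word]
    rw [this]
    exact hmul _ _ (hφ x) ih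

variable {G : Over (Spec (CommRingCat.of k))}

/-- the integral scheme of a prime, inside a chart, minus the zeros of a function -/
theorem exists_curve_scheme {R : Type u} [CommRing R] [Algebra k R] [Algebra.FiniteType k R] (j : SP k R ⟶ G)
    [IsOpenImmersion j.left] (P : Ideal R) [P.IsPrime] (hP : ¬ P.IsMaximal) (fz : R) (γ₀ : R →ₐ[k] k)
    (hγP : P ≤ RingHom.ker γ₀.toRingHom) (hγ : γ₀ fz ≠ 0) :
    ∃ (X : Over (Spec (CommRingCat.of k))) (_ : LocallyOfFiniteType X.hom) (_ : IsIntegral X.left) (c : X ⟶ G)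
      (b₀ : SP k k ⟶ X), b₀ ≫ c = spA γ₀ ≫ j ∧ Function.Injective c.left ∧ genericPoint X.left ≠ pt b₀ ∧
      ∀ x : SP k k ⟶ X, ∃ γ : R →ₐ[k] k, x ≫ c = spA γ ≫ j ∧ P ≤ RingHom.ker γ.toRingHom ∧ γ fz ≠ 0 := by
  let B := Localization.Away (Ideal.Quotient.mk P fz)
  have hne : Ideal.Quotient.mk P fz ≠ 0 := fun h0 => hγ (hγP (Ideal.Quotient.eq_zero_iff_mem.1 h0))
  haveI : IsDomain B := IsLocalization.isDomain_localization (M := Submonoid.powers (Ideal.Quotient.mk P fz))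
    (powers_le_nonZeroDivisors_of_noZeroDivisors hne)
  haveI : Algebra.FiniteType k (R ⧸ P) :=
    Algebra.FiniteType.of_surjective (Ideal.Quotient.mkₐ k P) Ideal.Quotient.mk_surjective
  haveI : Algebra.FiniteType (R ⧸ P) B :=
    IsLocalization.finiteType_of_monoid_fg (Submonoid.powers (Ideal.Quotient.mk P fz)) B
  haveI : Algebra.FiniteType k B := Algebra.FiniteType.trans (S := R ⧸ P) inferInstance inferInstance
  let q : R →ₐ[k] B := (IsScalarTower.toAlgHom k (R ⧸ P) B).comp (Ideal.Quotient.mkₐ k P)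
  obtain ⟨χ₀, hχ₀⟩ : ∃ χ : B →ₐ[k] k, χ.comp q = γ₀ := by
    let γb : R ⧸ P →ₐ[k] k := Ideal.Quotient.liftₐ P γ₀ hγP
    have hu : ∀ y : Submonoid.powers (Ideal.Quotient.mk P fz), IsUnit (γb y) := by
      rintro ⟨_, m, rfl⟩
      rw [map_pow]
      exact (isUnit_iff_ne_zero.2 (show γ₀ fz ≠ 0 from hγ)).pow m
    exact ⟨IsLocalization.liftAlgHom hu, AlgHom.ext fun r => IsLocalization.lift_eq _ _⟩
  haveI : IsIntegral (SP k B).left := inferInstanceAs (IsIntegral (Spec (CommRingCat.of B)))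
  refine ⟨SP k B, ?_, inferInstance, spA q ≫ j, spA χ₀, ?_, ?_, fun h => hP ?_, fun x => ?_⟩
  · show LocallyOfFiniteType (Spec.map _)
    rw [HasRingHomProperty.Spec_iff (P := @LocallyOfFiniteType)]
    exact RingHom.finiteType_algebraMap.2 inferInstance
  · rw [← Category.assoc, ← spA_comp, hχ₀]
  · haveI : IsPreimmersion (spA q).left := by
      haveI : IsClosedImmersion (Spec.map (CommRingCat.ofHom (Ideal.Quotient.mk P))) :=
        IsClosedImmersion.spec_of_surjective _ Ideal.Quotient.mk_surjective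
      haveI : IsOpenImmersion (Spec.map (CommRingCat.ofHom (algebraMap (R ⧸ P) B))) :=
        IsOpenImmersion.of_isLocalization (Ideal.Quotient.mk P fz)
      have e : (spA q).left = Spec.map (CommRingCat.ofHom (algebraMap (R ⧸ P) B)) ≫
          Spec.map (CommRingCat.ofHom (Ideal.Quotient.mk P)) := by
        rw [← Spec.map_comp]; rfl
      rw [e]; infer_instance
    intro a b hab
    rw [Over.comp_left, Scheme.Hom.comp_apply, Scheme.Hom.comp_apply] at hab
    exact (spA q).left.isEmbedding.injective (j.left.isEmbedding.injective hab)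
  · have h4 : RingHom.ker χ₀.toRingHom = ⊥ := by
      have h5 := congrArg PrimeSpectrum.asIdeal h
      rw [show genericPoint (SP k B).left = ⟨⊥, Ideal.isPrime_bot⟩ from genericPoint_eq_bot_of_affine _] at h5
      have h6 : (⊥ : Ideal B) = Ideal.comap χ₀.toRingHom (IsLocalRing.maximalIdeal k) := h5
      rw [IsLocalRing.maximalIdeal_eq_bot] at h6
      exact h6.symm
    have h7 : RingHom.ker γ₀.toRingHom ≤ P := fun r hr => by
      have h8 : q r ∈ RingHom.ker χ₀.toRingHom := by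
        show χ₀ (q r) = 0
        rw [show χ₀ (q r) = γ₀ r from DFunLike.congr_fun hχ₀ r]
        exact hr
      rw [h4, Ideal.mem_bot] at h8
      refine Ideal.Quotient.eq_zero_iff_mem.1 ?_
      exact IsLocalization.injective B (powers_le_nonZeroDivisors_of_noZeroDivisors hne) (h8.trans (map_zero _).symm)
    rw [le_antisymm hγP h7]
    exact RingHom.ker_isMaximal_of_surjective _ fun c => ⟨algebraMap k R c, γ₀.commutes c⟩
  · obtain ⟨χ, hχ⟩ := exists_factor_open (𝟙 (SP k B)) x ⟨_, rfl⟩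
    rw [Category.comp_id] at hχ
    refine ⟨χ.comp q, by rw [← hχ, ← Category.assoc, ← spA_comp], fun r hr => ?_, ?_⟩
    · show χ (q r) = 0
      simp [q, Ideal.Quotient.eq_zero_iff_mem.2 hr]
    · exact ((IsLocalization.map_units B (⟨_, Submonoid.mem_powers (Ideal.Quotient.mk P fz)⟩ :
        Submonoid.powers (Ideal.Quotient.mk P fz))).map χ).ne_zero

theorem exists_chart_point {R : Type u} [CommRing R] [Algebra k R] (j : SP k R ⟶ G) [IsOpenImmersion j.left]
    (fz : R) (g : SP k k ⟶ G) :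
    pt g ∈ j.left '' (PrimeSpectrum.basicOpen fz : Set (PrimeSpectrum R)) ↔
      ∃ γ : R →ₐ[k] k, spA γ ≫ j = g ∧ γ fz ≠ 0 := by
  constructor
  · rintro ⟨x, hx, hxg⟩
    obtain ⟨γ, hγ⟩ := exists_factor_open j g ⟨x, hxg⟩
    refine ⟨γ, hγ, ?_⟩
    have e : x = (spA γ).left (IsLocalRing.closedPoint k) := by
      apply j.left.isEmbedding.injective
      rw [← Scheme.Hom.comp_apply, ← Over.comp_left, hγ]
      exact hxg
    intro h0
    refine hx ?_
    rw [e]
    show fz ∈ Ideal.comap γ.toRingHom (IsLocalRing.maximalIdeal k)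
    rw [Ideal.mem_comap, IsLocalRing.maximalIdeal_eq_bot, Ideal.mem_bot]
    exact h0
  · rintro ⟨γ, rfl, hγ⟩
    refine ⟨(spA γ).left (IsLocalRing.closedPoint k), ?_, rfl⟩
    intro h
    have h' : fz ∈ Ideal.comap γ.toRingHom (IsLocalRing.maximalIdeal k) := h
    rw [Ideal.mem_comap, IsLocalRing.maximalIdeal_eq_bot, Ideal.mem_bot] at h'
    exact hγ h'

variable [GrpObj G]

/-- the subgroup generated by a family of quotients -/
theorem exists_words [LocallyOfFiniteType G.hom] {X : Over (Spec (CommRingCat.of k))} [LocallyOfFiniteType X.hom]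
    [IsIntegral X.left] (c : X ⟶ G) (b₀ : SP k k ⟶ X) (hc : Function.Injective c.left)
    (hb : genericPoint X.left ≠ pt b₀) (S : Set (SP k k ⟶ G)) (h1 : (1 : SP k k ⟶ G) ∈ S)
    (hmul : ∀ a b, a ∈ S → b ∈ S → a * b ∈ S) (hS : ∀ x x' : SP k k ⟶ X, (x' ≫ c)⁻¹ * (x ≫ c) ∈ S) :
    ∃ (E : Over (Spec (CommRingCat.of k))) (_ : GrpObj E) (jE : E ⟶ G),
      IsMonHom jE ∧ IsClosedImmersion jE.left ∧ IsReduced E.left ∧
      (∀ (h : SP k k ⟶ E) (O : Set G.left), IsOpen O → pt (h ≫ jE) ∈ O → ∃ w ∈ S, pt w ∈ O) ∧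
      ∃ η' p' : E.left, η' ⤳ p' ∧ η' ≠ p' := by
  let φ : X ⊗ X ⟶ G := (snd X X ≫ c)⁻¹ * (fst X X ≫ c)
  haveI := geometricallyReduced_of_reduced X
  haveI := Groth.L19.AlgGrpBasic.lft_tensor X X
  haveI := Groth.L19.AlgGrpBasic.geometricallyReduced_tensor X X
  have hinv : Set.range (φ ≫ ι[G]).left.base ⊆ Set.range φ.left.base := by
    have e : φ ≫ ι[G] = lift (snd X X) (fst X X) ≫ φ := by
      rw [← Hom.inv_def, MonObj.comp_mul, GrpObj.comp_inv, lift_snd_assoc, lift_fst_assoc, _root_.mul_inv_rev,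
        _root_.inv_inv]
    rintro _ ⟨x, rfl⟩
    exact ⟨(lift (snd X X) (fst X X)).left x, by rw [e]; rfl⟩
  obtain ⟨E, gE, jE, hjE, hcl, hred, hrange, φ', hφ'⟩ := Groth.L19.AlgGrpBasic.exists_wordSubgroup φ hinv
  refine ⟨E, gE, jE, hjE, hcl, hred, fun h O hO hhO => ?_, ?_⟩
  · have hcl' : pt (h ≫ jE) ∈ closure (wordSet φ) := hrange.subset ⟨pt h, rfl⟩
    obtain ⟨p, hpO, hp⟩ := mem_closure_iff.1 hcl' O hO hhO
    obtain ⟨m, t, rfl⟩ := Groth.L19.AlgGrpBasic.exists_prs_of_mem φ hp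
    haveI := Groth.L19.AlgGrpBasic.pw_lft (X := X ⊗ X) m
    obtain ⟨t', ht'⟩ := exists_point_mem (O := (word φ (prs (X ⊗ X) m)).left ⁻¹' O)
      (hO.preimage (word φ (prs (X ⊗ X) m)).left.continuous).isLocallyClosed ⟨t, hpO⟩
    refine ⟨t' ≫ word φ (prs (X ⊗ X) m), ?_, ht'⟩
    rw [Groth.L19.AlgGrpBasic.comp_word]
    refine word_mem_of_points φ S h1 hmul (fun x => ?_) _
    have := hS (x ≫ fst X X) (x ≫ snd X X)
    rwa [Category.assoc, Category.assoc, ← GrpObj.comp_inv, ← MonObj.comp_mul] at this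
  · let s : X ⟶ X ⊗ X := lift (𝟙 X) (str X ≫ b₀)
    let τ : G ⟶ G := (str G ≫ (b₀ ≫ c)⁻¹) * 𝟙 G
    let τ' : G ⟶ G := (str G ≫ (b₀ ≫ c)) * 𝟙 G
    have hτ : τ ≫ τ' = 𝟙 G := by
      rw [MonObj.comp_mul, Category.comp_id, ← Category.assoc, hom_to_SP_ext (τ ≫ str G) (str G)]
      show (str G ≫ (b₀ ≫ c)) * ((str G ≫ (b₀ ≫ c)⁻¹) * 𝟙 G) = 𝟙 G
      rw [← _root_.mul_assoc, ← MonObj.comp_mul, _root_.mul_inv_cancel, MonObj.comp_one, _root_.one_mul]
    have hf : s ≫ φ = c ≫ τ := by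
      simp only [s, φ, τ]
      rw [MonObj.comp_mul, GrpObj.comp_inv, lift_snd_assoc, lift_fst_assoc, Category.id_comp, MonObj.comp_mul,
        Category.comp_id, ← Category.assoc c, hom_to_SP_ext (c ≫ str G) (str X), GrpObj.comp_inv, Category.assoc]
    refine ⟨(s ≫ φ').left (genericPoint X.left), (s ≫ φ').left (pt b₀),
      ((genericPoint_spec X.left).specializes trivial).map (s ≫ φ').left.continuous, fun heq => hb (hc ?_)⟩
    have h2 := congrArg (fun e => τ'.left (jE.left e)) heq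
    simp only [← Scheme.Hom.comp_apply, ← Over.comp_left, Category.assoc] at h2
    rw [reassoc_of% hφ', reassoc_of% hf, hτ, Category.comp_id] at h2
    exact h2

variable [IsIntegral G.left] [Smooth G.hom] [QuasiCompact G.hom]

theorem exists_orbit_subgroup (hG : ¬ IsProper G.hom) :
    ∃ (A : Subalgebra k (KG G)) (_ : IsFractionRing A (KG G)) (_ : Algebra.FiniteType k A) (z : A →ₐ[k] k)
      (g₀ : SP k k ⟶ G) (E : Over (Spec (CommRingCat.of k))) (_ : GrpObj E) (jE : E ⟶ G),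
      IsMonHom jE ∧ IsClosedImmersion jE.left ∧ IsReduced E.left ∧
      (∀ h : SP k k ⟶ E, ∀ a : A, ∃ c, GoodAt A z (g₀ * (h ≫ jE)) a c) ∧
      ∃ η' p' : E.left, η' ⤳ p' ∧ η' ≠ p' := by
  obtain ⟨n, ⟨M⟩⟩ := exists_datum hG
  obtain ⟨R, _, _, _, σ0, j, _, hj0, hι, hfrac0, hft⟩ := exists_chart G (genericPoint G.left)
  haveI : Algebra.FiniteType k R := hft inferInstance
  let κ : R →ₐ[k] KG G := (toKG (genericPoint G.left)).comp σ0
  have hj : spA κ ≫ j = ξ G := by rw [spA_comp, Category.assoc, hj0, spA_toKG]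
  obtain ⟨F, z, w₀, P, hgood, hP, hPmax, ⟨γ₀, hγ₀P, hγ₀⟩, hw⟩ := M.exists_curve (κ := κ) hι hfrac0 j hj
  obtain ⟨X, _, _, c, b₀, hb₀, hc, hb, hX⟩ := exists_curve_scheme j P hPmax (M.evA z F) γ₀ hγ₀P
    (by rwa [M.γ_evA])
  obtain ⟨E, gE, jE, hjE, hcl, hred, hwords, htwo⟩ := exists_words c b₀ hc hb {s | Move M.A z s z} (Move.one z)
    (fun a b ha hb => Move.mul hb ha) (fun x x' => by
      obtain ⟨γ, hγ, hγP, hγF⟩ := hX x
      obtain ⟨γ', hγ', hγP', hγF'⟩ := hX x'
      rw [M.γ_evA] at hγF hγF'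
      show Move M.A z _ z
      rw [hγ, hγ']
      exact Move.mul (hw γ hγP hγF).2.1 (hw γ' hγP' hγF').2.2)
  refine ⟨M.A, M.frac, M.A.fg_iff_finiteType.1 M.fg, z, spA γ₀ ≫ j, E, gE, jE, hjE, hcl, hred, fun h a => ?_, htwo⟩
  let ν : G ⟶ G := (str G ≫ ((spA γ₀ ≫ j) * (h ≫ jE))) * (𝟙 G)⁻¹
  have hν : ∀ w : SP k k ⟶ G, ν.left (pt w) = pt ((spA γ₀ ≫ j) * (h ≫ jE) * w⁻¹) := by
    intro w
    rw [← Scheme.Hom.comp_apply, ← Over.comp_left, MonObj.comp_mul, GrpObj.comp_inv, Category.comp_id,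
      ← Category.assoc, hom_to_SP_ext (w ≫ str G) (𝟙 _), Category.id_comp]
  let D : Set G.left := j.left '' (PrimeSpectrum.basicOpen (M.evA z F) : Set (PrimeSpectrum R))
  have hD : IsOpen D := j.left.isOpenEmbedding.isOpenMap _ (PrimeSpectrum.basicOpen (M.evA z F)).isOpen
  obtain ⟨w, hwS, hwO⟩ := hwords h (ν.left ⁻¹' D) (hD.preimage ν.left.continuous) (by
    show ν.left (pt (h ≫ jE)) ∈ D
    rw [hν, mul_inv_cancel_right]
    exact (exists_chart_point j _ _).2 ⟨γ₀, rfl, by rwa [M.γ_evA]⟩)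
  have hmem : pt ((spA γ₀ ≫ j) * (h ≫ jE) * w⁻¹) ∈ D := by rw [← hν]; exact hwO
  obtain ⟨γ, hγ, hγF⟩ := (exists_chart_point j _ _).1 hmem
  rw [M.γ_evA] at hγF
  obtain ⟨v, hv⟩ := hgood γ hγF
  have h1 := (GoodAt.of_chart j hj (hv a)).translate hwS
  rw [hγ, inv_mul_cancel_right] at h1
  exact ⟨_, h1⟩

end Groth.L08.Chev
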