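import Groth.Agent.L08.Chev.Comp
import Groth.Agent.L08.Rosen.Compl
import Groth.Agent.L08.Centre.Basic
import Groth.Agent.S11397
import Groth.Agent.S7982

/-!
# A group without normal affine smooth connected subgroups is proper (Chevalley)
-/

set_option autoImplicit false
set_option backward.isDefEq.respectTransparency.types false
set_option linter.style.haveILetI false
set_option linter.unusedSectionVars false

universe u

open CategoryTheory CategoryTheory.Limits MonoidalCategory CartesianMonoidalCategory MonObj GrpObj AlgebraicGeometry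

noncomputable section

namespace Groth.L08.Chev

variable {k : Type u} [Field k] [IsAlgClosed k]

/-- every normal affine smooth connected subgroup is trivial -/
def NoAff (Q : Over (Spec (CommRingCat.of k))) [GrpObj Q] : Prop :=
  ∀ (N : Over (Spec (CommRingCat.of k))) [GrpObj N] (i : N ⟶ Q) [IsMonHom i] [IsClosedImmersion i.left]
    [Smooth N.hom] [ConnectedSpace N.left] [IsAffine N.left], AlgGrp.IsNormalHom i → IsIso N.hom

variable {Q : Over (Spec (CommRingCat.of k))} [GrpObj Q]

theorem isProper_of_central (hQ : NoAff Q) {K : Over (Spec (CommRingCat.of k))} [GrpObj K] [Smooth K.hom]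
    [QuasiCompact K.hom] (u : K ⟶ Q) [IsMonHom u] [IsClosedImmersion u.left]
    (hc : ∀ (T : Over (Spec (CommRingCat.of k))) (g : T ⟶ Q) (x : T ⟶ K), g * (x ≫ u) = (x ≫ u) * g) :
    IsProper K.hom := by
  by_contra hK
  obtain ⟨H, gH, m, _, _, _, _, hdim⟩ := Groth.Agent.S11397.result k K hK
  obtain ⟨H₀, gH₀, j, hj⟩ := exists_idComp H
  haveI := hj.hom
  haveI := hj.closedImm
  haveI := hj.smooth
  haveI := hj.connectedSpace
  haveI := hj.isAffine
  haveI : QuasiCompact H.hom := by rw [← Over.w m]; infer_instance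
  haveI : IsClosedImmersion ((j ≫ m) ≫ u).left :=
    inferInstanceAs (IsClosedImmersion ((j.left ≫ m.left) ≫ u.left))
  have htriv : IsIso H₀.hom := hQ H₀ ((j ≫ m) ≫ u) fun T g x => ⟨x, by
    rw [← Category.assoc x (j ≫ m) u, hc T g (x ≫ j ≫ m), mul_inv_cancel_right]⟩
  exact (finite_of_trivial_component hj htriv).2 hdim

omit [IsAlgClosed k] in
theorem isKernel_of_mono {N G C Q' : Over (Spec (CommRingCat.of k))} [GrpObj Q'] [GrpObj C]
    {κ : N ⟶ G} {w : G ⟶ Q'} (h : AlgGrp.IsKernel κ w) {p : G ⟶ C} {ic : C ⟶ Q'} [IsMonHom ic] [Mono ic]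
    (hp : p ≫ ic = w) : AlgGrp.IsKernel κ p :=
  IsPullback.mk'
    (by rw [← cancel_mono ic, Category.assoc, Category.assoc, hp, IsMonHom.one_hom]; exact h.w)
    (fun _ _ _ e e' => h.hom_ext e e')
    (fun _ a b e => by
      obtain ⟨l, h1, h2⟩ := h.exists_lift a b (by rw [← hp, reassoc_of% e, IsMonHom.one_hom])
      exact ⟨l, h1, h2⟩)

omit [IsAlgClosed k] in
theorem finite_of_surjective_closedImmersion {X Y : Over (Spec (CommRingCat.of k))} (r : X ⟶ Y)
    [IsClosedImmersion r.left] [Surjective r.left] [IsFinite X.hom] [LocallyOfFiniteType Y.hom] :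
    IsFinite Y.hom := by
  obtain ⟨_, _⟩ := Groth.L08.Albanese.finite_discrete X.hom
  haveI : Finite Y.left := Finite.of_surjective _ r.left.surjective
  haveI : DiscreteTopology Y.left := discreteTopology_iff_forall_isClosed.2 fun S => by
    rw [← Set.image_preimage_eq S r.left.surjective]
    exact r.left.isClosedEmbedding.isClosedMap _ (isClosed_discrete _)
  exact Groth.L21.CurveTop.isFinite_of_discrete Y.hom

omit [IsAlgClosed k] in
theorem isMonHom_of_comp {X Y Z : Over (Spec (CommRingCat.of k))} [GrpObj X] [GrpObj Y] [GrpObj Z]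
    (f : X ⟶ Y) (g : Y ⟶ Z) [Mono g] [IsMonHom g] [IsMonHom (f ≫ g)] : IsMonHom f where
  one_hom := by rw [← cancel_mono g, Category.assoc, IsMonHom.one_hom, IsMonHom.one_hom]
  mul_hom := by
    rw [← cancel_mono g, Category.assoc, Category.assoc, IsMonHom.mul_hom, IsMonHom.mul_hom,
      tensorHom_comp_tensorHom_assoc]

omit [IsAlgClosed k] in
theorem isProper_of_surjective {X Y : Over (Spec (CommRingCat.of k))} (f : X ⟶ Y) [Surjective f.left]
    [IsProper X.hom] [IsSeparated Y.hom] [LocallyOfFiniteType Y.hom] : IsProper Y.hom := by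
  haveI : UniversallyClosed (f.left ≫ Y.hom) := by rw [Over.w]; infer_instance
  haveI := UniversallyClosed.of_comp_surjective f.left Y.hom
  exact { }

variable [Smooth Q.hom] [QuasiCompact Q.hom] [ConnectedSpace Q.left]

/-- **Chevalley's core statement**: no normal affine part means proper. -/
theorem isProper_of_noAff (hQ : NoAff Q) : IsProper Q.hom := by
  haveI : IsSeparated Q.hom := Groth.Agent.AV.isSeparated_of_grpObj Q
  haveI : IsReduced Q.left := Groth.Agent.AV.isReduced_of_smooth_field Q.hom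
  -- the centre and the affine quotient by it
  obtain ⟨Z, gZ, iZ, _, _, hZ⟩ := Groth.L08.Centre.exists_centre Q
  haveI : Mono iZ := Over.mono_of_mono_left iZ
  have hcomm : ∀ (T : Over (Spec (CommRingCat.of k))) (g : T ⟶ Q) (z : T ⟶ Z), g * (z ≫ iZ) = (z ≫ iZ) * g :=
    fun T g z => by
      have h := (hZ.2.2 T (z ≫ iZ)).1 ⟨z, rfl⟩ T (𝟙 T) g
      rw [Category.id_comp, Category.comp_id] at h
      exact h.symm
  have hZn : AlgGrp.IsNormalHom iZ := fun T g z => ⟨z, by rw [hcomm T g z, mul_inv_cancel_right]⟩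
  haveI : LocallyOfFiniteType Z.hom := by rw [← Over.w iZ]; infer_instance
  haveI : QuasiCompact Z.hom := by rw [← Over.w iZ]; infer_instance
  obtain ⟨Y, p₀, _, _, _, sqp⟩ := GQuot.exists_quotient_field iZ
  obtain ⟨Q', π, _, _, _, sqq, hlft, -, hqc, -, -⟩ := GQuot.exists_struct p₀ sqp
  obtain ⟨gQ', _, hkerπ⟩ := GQuot.exists_grp hZn π sqq
  haveI := hlft inferInstance
  haveI := hqc inferInstance
  haveI : IsAffine Q'.left := Groth.L08.Centre.isAffine_quotient iZ hZ π hkerπ
  -- the abelian variety in the centre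
  obtain ⟨R, gR, r, _, _, _, _, _, -⟩ := Rosen.exists_red_subgroup iZ hZn
  haveI : IsClosedImmersion (r ≫ iZ).left := inferInstanceAs (IsClosedImmersion (r.left ≫ iZ.left))
  haveI : QuasiCompact R.hom := by rw [← Over.w r]; infer_instance
  haveI : IsProper R.hom := isProper_of_central hQ (r ≫ iZ) fun T g x => by
    rw [← Category.assoc]; exact hcomm T g (x ≫ r)
  obtain ⟨A, gA, a, ha⟩ := exists_idComp R
  haveI := ha.hom
  haveI := ha.closedImm
  haveI := ha.smooth
  haveI := ha.connectedSpace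
  haveI := ha.isProper
  let i : A ⟶ Q := a ≫ r ≫ iZ
  haveI : IsMonHom i := inferInstanceAs (IsMonHom (a ≫ r ≫ iZ))
  haveI : IsClosedImmersion i.left := inferInstanceAs (IsClosedImmersion (a.left ≫ (r ≫ iZ).left))
  -- its almost complement
  obtain ⟨W, gW, jW, _, _, hWn, -, -, hsurj, hfin, hWsm⟩ := Rosen.exists_compl i
  haveI := hWsm inferInstance
  haveI : QuasiCompact W.hom := by rw [← Over.w jW]; infer_instance
  haveI : Mono jW := Over.mono_of_mono_left jW
  obtain ⟨W₀, gW₀, w₀, hw₀⟩ := exists_idComp W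
  haveI := hw₀.hom
  haveI := hw₀.closedImm
  haveI := hw₀.smooth
  haveI := hw₀.connectedSpace
  haveI := hw₀.quasiCompact
  haveI : IsClosedImmersion (w₀ ≫ jW).left := inferInstanceAs (IsClosedImmersion (w₀.left ≫ jW.left))
  haveI : IsReduced W₀.left := Groth.Agent.AV.isReduced_of_smooth_field W₀.hom
  -- the kernel of the map to the quotient is finite
  obtain ⟨K, gK, κ, _, _, -, hκ⟩ := Groth.L08.AbelianGrp.exists_kernel ((w₀ ≫ jW) ≫ π)
  haveI : LocallyOfFiniteType K.hom := by rw [← Over.w κ]; infer_instance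
  haveI : QuasiCompact K.hom := by rw [← Over.w κ]; infer_instance
  have hκn : AlgGrp.IsNormalHom κ := fun T g b => by
    obtain ⟨z, hz, -⟩ := hκ.exists_lift (g * (b ≫ κ) * g⁻¹) (toUnit T) (by
      rw [MonObj.mul_comp, MonObj.mul_comp, GrpObj.inv_comp, Category.assoc b κ, hκ.w, ← Category.assoc b,
        toUnit_unique (b ≫ toUnit K) (toUnit T), ← Hom.one_def, _root_.mul_one, mul_inv_cancel])
    exact ⟨z, hz.symm⟩
  obtain ⟨Rk, gRk, rk, _, _, _, _, _, -⟩ := Rosen.exists_red_subgroup κ hκn
  haveI : IsClosedImmersion (rk ≫ κ).left := inferInstanceAs (IsClosedImmersion (rk.left ≫ κ.left))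
  haveI : QuasiCompact Rk.hom := by rw [← Over.w rk]; infer_instance
  let u : Rk ⟶ Q := (rk ≫ κ) ≫ w₀ ≫ jW
  haveI : IsMonHom u := inferInstanceAs (IsMonHom ((rk ≫ κ) ≫ w₀ ≫ jW))
  haveI : IsClosedImmersion u.left := inferInstanceAs (IsClosedImmersion ((rk ≫ κ).left ≫ (w₀ ≫ jW).left))
  obtain ⟨zu, hzu, -⟩ := hkerπ.exists_lift u (toUnit Rk) (by
    show ((rk ≫ κ) ≫ w₀ ≫ jW) ≫ π = _
    rw [Category.assoc (rk ≫ κ), Category.assoc rk, hκ.w, ← Category.assoc,
      toUnit_unique (rk ≫ toUnit K) (toUnit Rk)])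
  haveI : IsProper Rk.hom := isProper_of_central hQ u fun T g x => by
    rw [← hzu, ← Category.assoc]; exact hcomm T g (x ≫ zu)
  obtain ⟨B, gB, b, hb⟩ := exists_idComp Rk
  haveI := hb.hom
  haveI := hb.closedImm
  haveI := hb.smooth
  haveI := hb.connectedSpace
  haveI : IsReduced B.left := Groth.Agent.AV.isReduced_of_smooth_field B.hom
  obtain ⟨zb, hzb⟩ := Rosen.exists_factor_red r (b ≫ zu)
  have hzbQ : zb ≫ r ≫ iZ = b ≫ u := by rw [reassoc_of% hzb, hzu]
  haveI : Mono (r ≫ iZ) := Over.mono_of_mono_left _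
  haveI : IsMonHom (zb ≫ r ≫ iZ) := by rw [hzbQ]; infer_instance
  haveI := isMonHom_of_comp zb (r ≫ iZ)
  obtain ⟨bA, hbA⟩ := ha.exists_lift_hom zb
  have hcond : bA ≫ i = (b ≫ (rk ≫ κ) ≫ w₀) ≫ jW := by
    show bA ≫ a ≫ r ≫ iZ = _
    rw [reassoc_of% hbA, hzbQ]
    simp only [u, Category.assoc]
  haveI : IsClosedImmersion bA.left := by
    haveI : IsClosedImmersion (bA.left ≫ i.left) := by
      rw [← Over.comp_left, show bA ≫ i = b ≫ u by rw [← hzbQ, ← hbA, Category.assoc]]
      exact inferInstanceAs (IsClosedImmersion (b.left ≫ u.left))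
    exact IsClosedImmersion.of_comp bA.left i.left
  let l : B.left ⟶ pullback i.left jW.left :=
    pullback.lift bA.left (b ≫ (rk ≫ κ) ≫ w₀).left (congrArg (fun m => m.left) hcond)
  haveI : IsClosedImmersion (l ≫ pullback.fst i.left jW.left) := by rw [pullback.lift_fst]; infer_instance
  haveI : IsClosedImmersion l := IsClosedImmersion.of_comp l (pullback.fst i.left jW.left)
  haveI := hfin
  haveI : IsFinite B.hom := by
    have e : B.hom = l ≫ pullback.fst i.left jW.left ≫ A.hom := by rw [pullback.lift_fst_assoc, Over.w]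
    rw [e]; infer_instance
  haveI := (finite_of_trivial_component hb (trivial_of_finite B)).1
  haveI := finite_of_surjective_closedImmersion rk
  haveI : IsAffine K.left := isAffine_of_isAffineHom K.hom
  -- so the complement is affine, hence finite
  obtain ⟨C, gC, p, ic, _, _, hpic, _, _, _, _⟩ := Groth.L08.AbelianGrp.exists_image ((w₀ ≫ jW) ≫ π)
  haveI : IsAffine C.left := isAffine_of_isAffineHom ic.left
  haveI : LocallyOfFiniteType C.hom := by rw [← Over.w ic]; infer_instance
  haveI : QuasiCompact C.hom := by rw [← Over.w ic]; infer_instance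
  haveI : Mono ic := Over.mono_of_mono_left ic
  haveI : IsAffine W₀.left :=
    (Groth.Agent.S7982.result k K W₀ C κ p (isKernel_of_mono hκ hpic)).1 ‹_› ‹_›
  have hW₀ : IsIso W₀.hom := hQ W₀ (w₀ ≫ jW) (hw₀.normal jW hWn)
  haveI := (finite_of_trivial_component hw₀ hW₀).1
  haveI : IsProper (A ⊗ W).hom := inferInstanceAs (IsProper (pullback.fst A.hom W.hom ≫ A.hom))
  haveI := hsurj
  exact isProper_of_surjective ((i ⊗ₘ jW) ≫ μ[Q])

end Groth.L08.Chev
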