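import Groth.Agent.L08.Chev.Orbit
import Groth.Agent.L08.AffHull.Crit
import Groth.Agent.L08.AffHull.Smooth
import Groth.Agent.L08.UnitChar

/-!
# Anti-affine families of regular translations are constant; the affine subgroup
-/

set_option autoImplicit false
set_option backward.isDefEq.respectTransparency.types false
set_option linter.style.haveILetI false
set_option linter.unusedSectionVars false

universe u

open CategoryTheory CategoryTheory.Limits MonoidalCategory CartesianMonoidalCategory MonObj GrpObj AlgebraicGeometry TensorProduct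

noncomputable section

namespace Groth.L08.Chev

variable {k : Type u} [Field k]

theorem exists_spSt (X : Over (Spec (CommRingCat.of k))) {y x : X.left} (h : y ⤳ x) :
    ∃ e : St X x →ₐ[k] St X y, spA e ≫ ptSt X x = ptSt X y := by
  have hfac : Spec.map (X.left.presheaf.stalkSpecializes h) ≫ fss X x = (ptSt X y).left :=
    Scheme.SpecMap_stalkSpecializes_fromSpecStalk h
  exact ⟨{ ((X.left.presheaf.stalkSpecializes h).hom : St X x →+* St X y) with
      commutes' := algebraMap_St_comp _ (p := ptSt X y) hfac }, Over.OverMorphism.ext hfac⟩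

theorem algebraMap_St_eq (X : Over (Spec (CommRingCat.of k))) (x : X.left) :
    CommRingCat.ofHom (algebraMap k (St X x)) =
      (Scheme.ΓSpecIso (CommRingCat.of k)).inv ≫ X.hom.appTop ≫ X.left.presheaf.germ ⊤ x trivial := by
  have h := congrArg Scheme.Hom.appTop (map_algebraMap_St X x)
  rw [Scheme.Hom.comp_appTop, show (fss X x).appTop = _ from Scheme.fromSpecStalk_appTop] at h
  have h2 := congrArg (fun e => e ≫ (Scheme.ΓSpecIso (CommRingCat.of (St X x))).hom) h
  rw [Scheme.ΓSpecIso_naturality] at h2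
  rw [← cancel_epi (Scheme.ΓSpecIso (CommRingCat.of k)).hom]
  erw [Iso.hom_inv_id_assoc]
  refine h2.trans ?_
  ext y
  have hmap : (Spec (X.left.presheaf.stalk x)).presheaf.map (homOfLE (le_top : (⊤ : (Spec (X.left.presheaf.stalk x)).Opens) ≤ ⊤)).op = 𝟙 _ :=
    CategoryTheory.Functor.map_id _ _
  simp only [CategoryTheory.comp_apply]
  erw [hmap]
  exact Iso.inv_hom_id_apply (Scheme.ΓSpecIso (X.left.presheaf.stalk x)) _

variable [IsAlgClosed k]

/-- a function regular at all rational points of an anti-affine variety is constant -/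
theorem const_of_stalks (X : Over (Spec (CommRingCat.of k))) [AlgebraicGeometry.IsIntegral X.left] [LocallyOfFiniteType X.hom]
    (hO : IsIso X.hom.appTop) (f : KG X) (h : ∀ m : SP k k ⟶ X, ∃ a, toKG (pt m) a = f) :
    ∃ c : k, f = algebraMap k (KG X) c := by
  classical
  choose a ha using h
  choose U hU s hs using fun m => X.left.presheaf.exists_germ_eq (x := pt m) (a m)
  have hcov : (⊤ : X.left.Opens) ≤ iSup U := by
    by_contra hne
    have hne' : ((iSup U : X.left.Opens) : Set X.left)ᶜ.Nonempty := by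
      rw [Set.nonempty_compl]
      exact fun h0 => hne fun x _ => (h0.symm ▸ trivial : x ∈ ((iSup U : X.left.Opens) : Set X.left))
    obtain ⟨t, ht⟩ := exists_point_mem (iSup U).2.isClosed_compl.isLocallyClosed hne'
    exact ht (TopologicalSpace.Opens.mem_iSup.2 ⟨t, hU t⟩)
  have hgen : ∀ m, genericPoint X.left ∈ U m := fun m =>
    ((genericPoint_spec X.left).specializes trivial).mem_open (U m).2 (hU m)
  have hgerm : ∀ m, X.left.presheaf.germ (U m) _ (hgen m) (s m) = f := fun m => by
    rw [← ha m, ← hs m]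
    exact (X.left.presheaf.germ_stalkSpecializes_apply (hU m)
      ((genericPoint_spec X.left).specializes trivial) (s m)).symm
  have hcompat : TopCat.Presheaf.IsCompatible X.left.presheaf U s := by
    intro i j
    have hij : genericPoint X.left ∈ U i ⊓ U j := ⟨hgen i, hgen j⟩
    refine germ_injective_of_isIntegral X.left (genericPoint X.left) hij ?_
    rw [X.left.presheaf.germ_res_apply, X.left.presheaf.germ_res_apply, hgerm, hgerm]
  obtain ⟨g, hg, -⟩ := X.left.sheaf.existsUnique_gluing' U ⊤ (fun m => homOfLE le_top) hcov s hcompat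
  obtain ⟨c', hc'⟩ := (ConcreteCategory.bijective_of_isIso X.hom.appTop).2 g
  refine ⟨(Scheme.ΓSpecIso (CommRingCat.of k)).hom c', ?_⟩
  obtain ⟨m, -⟩ := exists_point_mem (X := X) (O := Set.univ) isOpen_univ.isLocallyClosed ⟨genericPoint X.left, trivial⟩
  have h1 := ConcreteCategory.congr_hom (algebraMap_St_eq X (genericPoint X.left))
    ((Scheme.ΓSpecIso (CommRingCat.of k)).hom c')
  refine Eq.trans ?_ h1.symm
  rw [← hgerm m, ← hg m]
  refine (X.left.presheaf.germ_res_apply _ _ _ _).trans ?_
  show _ = X.left.presheaf.germ ⊤ _ trivial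
    (X.hom.appTop ((Scheme.ΓSpecIso (CommRingCat.of k)).inv ((Scheme.ΓSpecIso (CommRingCat.of k)).hom c')))
  rw [show (Scheme.ΓSpecIso (CommRingCat.of k)).inv ((Scheme.ΓSpecIso (CommRingCat.of k)).hom c') = c' from
    Iso.hom_inv_id_apply _ _, hc']

/-- units in `O ⊗ W` are detected modulo the nilpotent augmentation -/
theorem isUnit_of_aug {O W : Type u} [CommRing O] [Algebra k O] [CommRing W] [Algebra k W] (zb : W →ₐ[k] k)
    (hnil : ∀ w, zb w = 0 → IsNilpotent w) (x : O ⊗[k] W)
    (hx : IsUnit (Algebra.TensorProduct.lift (AlgHom.id k O) ((Algebra.ofId k O).comp zb) (fun _ _ => Commute.all _ _) x)) :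
    IsUnit x := by
  have key : ∀ y : O ⊗[k] W, IsNilpotent (y -
      Algebra.TensorProduct.lift (AlgHom.id k O) ((Algebra.ofId k O).comp zb) (fun _ _ => Commute.all _ _) y ⊗ₜ 1) := by
    intro y
    induction y using TensorProduct.induction_on with
    | zero => simp
    | tmul o w =>
      rw [Algebra.TensorProduct.lift_tmul]
      have e : o ⊗ₜ[k] w - (AlgHom.id k O o * ((Algebra.ofId k O).comp zb) w) ⊗ₜ[k] (1 : W) =
          (o ⊗ₜ 1) * ((1 : O) ⊗ₜ (w - algebraMap k W (zb w))) := by
        rw [tmul_sub, mul_sub, Algebra.TensorProduct.tmul_mul_tmul, Algebra.TensorProduct.tmul_mul_tmul,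
          _root_.mul_one, _root_.one_mul, _root_.one_mul]
        congr 1
        rw [show ((Algebra.ofId k O).comp zb) w = algebraMap k O (zb w) from rfl, Algebra.algebraMap_eq_smul_one (A := W),
          Algebra.algebraMap_eq_smul_one (A := O), AlgHom.id_apply, mul_smul_comm, _root_.mul_one, smul_tmul]
      rw [e]
      exact (Commute.all _ _).isNilpotent_mul_left ((hnil (w - algebraMap k W (zb w)) (by rw [map_sub, AlgHom.commutes]; simp)).map (Algebra.TensorProduct.includeRight (R := k) (A := O)))
    | add y y' hy hy' =>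
      rw [map_add, add_tmul, add_sub_add_comm]
      exact (Commute.all _ _).isNilpotent_add hy hy'
  have h1 := (key x).isUnit_add_left_of_commute
    (hx.map (Algebra.TensorProduct.includeLeft (R := k) (S := k) (B := W))) (Commute.all _ _)
  simpa using h1

variable {G : Over (Spec (CommRingCat.of k))} [GrpObj G] [AlgebraicGeometry.IsIntegral G.left] [Smooth G.hom]
  {A : Subalgebra k (KG G)} {z : A →ₐ[k] k}

theorem JA_map {S S' : Type u} [CommRing S] [Algebra k S] [CommRing S'] [Algebra k S'] {κ : S →ₐ[k] KG G}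
    {κ' : S' →ₐ[k] KG G} (e : S →ₐ[k] S') (he : κ'.comp e = κ) (x : S ⊗[k] A) :
    JA κ' A (Algebra.TensorProduct.map e (AlgHom.id k A) x) = JA κ A x := by
  induction x using TensorProduct.induction_on with
  | zero => simp
  | tmul s a => rw [Algebra.TensorProduct.map_tmul, JA_tmul, JA_tmul, ← he]; rfl
  | add x y hx hy => simp [hx, hy]

theorem π_map {S S' B B' : Type u} [CommRing S] [Algebra k S] [CommRing S'] [Algebra k S'] [CommRing B]
    [Algebra k B] [CommRing B'] [Algebra k B'] (e : S →ₐ[k] S') (q : B →ₐ[k] B') (γ : S →ₐ[k] k) (γ' : S' →ₐ[k] k)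
    (he : γ'.comp e = γ) (x : S ⊗[k] B) : π γ' (Algebra.TensorProduct.map e q x) = q (π γ x) := by
  induction x using TensorProduct.induction_on with
  | zero => simp
  | tmul s b => rw [Algebra.TensorProduct.map_tmul, π_tmul, π_tmul, map_smul, ← he]; rfl
  | add x y hx hy => simp [hx, hy]

theorem π_aug {S B : Type u} [CommRing S] [Algebra k S] [CommRing B] [Algebra k B] (zb : B →ₐ[k] k)
    (γ : S →ₐ[k] k) (x : S ⊗[k] B) :
    γ (Algebra.TensorProduct.lift (AlgHom.id k S) ((Algebra.ofId k S).comp zb) (fun _ _ => Commute.all _ _) x) =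
      zb (π γ x) := by
  induction x using TensorProduct.induction_on with
  | zero => simp
  | tmul r a => simp [π_tmul]
  | add x y hx hy => simp [hx, hy]

set_option maxHeartbeats 1600000 in
/-- **regular translations along an anti-affine variety are constant** -/
theorem const_translate [Algebra.FiniteType k A] [IsFractionRing A (KG G)] (X : Over (Spec (CommRingCat.of k)))
    [AlgebraicGeometry.IsIntegral X.left] [LocallyOfFiniteType X.hom] (hO : IsIso X.hom.appTop) (c : X ⟶ G)
    (hgood : ∀ (m : SP k k ⟶ X) (a : A), ∃ v, GoodAt A z (m ≫ c) a v) (m₁ m₂ : SP k k ⟶ X) :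
    tr (m₁ ≫ c) = tr (m₂ ≫ c) := by
  classical
  refine IsLocalization.algHom_ext (nonZeroDivisors A) (AlgHom.ext fun a => ?_)
  show tr (m₁ ≫ c) (a : KG G) = tr (m₂ ≫ c) (a : KG G)
  choose v hv using fun m => hgood m a
  choose n f hf hJ hn using hv
  have hspec : ∀ m, tr (m ≫ c) (a : KG G) * ((π (ev (m ≫ c)) (f m) : A) : KG G) =
      ((π (ev (m ≫ c)) (n m) : A) : KG G) := by
    intro m
    have h2 : tr (spA (ev (m ≫ c)) ≫ ptSt G (pt (m ≫ c))) (a : KG G) *
        ((π (ev (m ≫ c)) (f m) : A) : KG G) = ((π (ev (m ≫ c)) (n m) : A) : KG G) := by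
      rw [← π_val, ← π_val]
      exact spec_eq (toKG_injective (x := pt (m ≫ c))) (ev (m ≫ c)) (ptSt G (pt (m ≫ c))) (δ G)
        (by rw [spA_comp, Category.assoc, spA_toKG, spA_δ]) (hJ m)
    rwa [spA_ev] at h2
  let M := RingHom.ker z.toRingHom
  have hpow : ∀ N : ℕ, π (ev (m₁ ≫ c)) (n m₁) * π (ev (m₂ ≫ c)) (f m₂) -
      π (ev (m₂ ≫ c)) (n m₂) * π (ev (m₁ ≫ c)) (f m₁) ∈ M ^ (N + 1) := by
    intro N
    let W := A ⧸ M ^ (N + 1)
    let q : A →ₐ[k] W := Ideal.Quotient.mkₐ k _
    let zb : W →ₐ[k] k := Ideal.Quotient.liftₐ _ z fun x hx => Ideal.pow_le_self (Nat.succ_ne_zero N) hx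
    have hnil : ∀ w, zb w = 0 → IsNilpotent w := by
      intro w hw
      obtain ⟨x, rfl⟩ := Ideal.Quotient.mk_surjective w
      exact ⟨N + 1, by rw [← map_pow, Ideal.Quotient.eq_zero_iff_mem]; exact Ideal.pow_mem_pow hw _⟩
    let y := c.left (genericPoint X.left)
    have hspz : ∀ m : SP k k ⟶ X, y ⤳ pt (m ≫ c) := fun m =>
      ((genericPoint_spec X.left).specializes trivial).map c.left.continuous
    choose σ hσ using fun m => exists_spSt G (hspz m)
    obtain ⟨ey, -, hey⟩ := exists_hom_St (x := y) (ξ X ≫ c) (by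
      rw [Over.comp_left, Scheme.Hom.comp_apply, ptSt_closedPoint])
    choose em hem' hem using fun m : SP k k ⟶ X => exists_hom_St (x := pt (m ≫ c)) (ptSt X (pt m) ≫ c) (by
      rw [Over.comp_left, Scheme.Hom.comp_apply, ptSt_closedPoint]; rfl)
    have i1 : ∀ m, (ev m).comp (em m) = ev (m ≫ c) := fun m => hom_ext_St (by
      rw [spA_comp, Category.assoc, hem, ← Category.assoc, spA_ev, spA_ev])
    have i2 : ∀ m, (toKG (pt m)).comp (em m) = ey.comp (σ m) := fun m => hom_ext_St (by
      rw [spA_comp, Category.assoc, hem, spA_comp, Category.assoc, hσ, hey, ← Category.assoc, spA_toKG])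
    have i3 : ∀ m, (toKG y).comp (σ m) = toKG (pt (m ≫ c)) := fun m => hom_ext_St (by
      rw [spA_comp, Category.assoc, hσ, spA_toKG, spA_toKG])
    have hfu : ∀ m, IsUnit (Algebra.TensorProduct.map (em m) q (f m)) := by
      intro m
      refine isUnit_of_aug zb hnil _ ((IsLocalRing.notMem_maximalIdeal).1 fun hmem => hf m ?_)
      have h1 : ev m (Algebra.TensorProduct.lift (AlgHom.id k _) ((Algebra.ofId k _).comp zb)
          (fun _ _ => Commute.all _ _) (Algebra.TensorProduct.map (em m) q (f m))) = 0 := by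
        by_contra h0
        exact (IsLocalRing.mem_maximalIdeal _).1 hmem
          ((inferInstance : IsLocalHom (ev m).toRingHom).map_nonunit _ (isUnit_iff_ne_zero.2 h0))
      rw [π_aug, π_map _ _ _ _ (i1 m)] at h1
      exact h1
    let α : ∀ m : SP k k ⟶ X, St X (pt m) ⊗[k] W :=
      fun m => Algebra.TensorProduct.map (em m) q (n m) * ↑(hfu m).unit⁻¹
    have hα : ∀ m, α m * Algebra.TensorProduct.map (em m) q (f m) = Algebra.TensorProduct.map (em m) q (n m) :=
      fun m => by rw [_root_.mul_assoc, IsUnit.val_inv_mul, _root_.mul_one]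
    let β : ∀ m : SP k k ⟶ X, KG X ⊗[k] W :=
      fun m => Algebra.TensorProduct.map (toKG (pt m)) (AlgHom.id k W) (α m)
    have hmap : ∀ m (x : St G (pt (m ≫ c)) ⊗[k] A),
        Algebra.TensorProduct.map (toKG (pt m)) (AlgHom.id k W) (Algebra.TensorProduct.map (em m) q x) =
          Algebra.TensorProduct.map ey q (Algebra.TensorProduct.map (σ m) (AlgHom.id k A) x) := by
      intro m x
      induction x using TensorProduct.induction_on with
      | zero => simp
      | tmul s b =>
        simp only [Algebra.TensorProduct.map_tmul, AlgHom.id_apply]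
        rw [show toKG (pt m) (em m s) = ey (σ m s) from DFunLike.congr_fun (i2 m) s]
      | add x y hx hy => simp only [map_add, hx, hy]
    have hβ : ∀ m m', β m = β m' := by
      intro m m'
      let sm := fun x => Algebra.TensorProduct.map (σ m) (AlgHom.id k A) x
      let sm' := fun x => Algebra.TensorProduct.map (σ m') (AlgHom.id k A) x
      have e : sm (n m) * sm' (f m') = sm' (n m') * sm (f m) := JA_injective (toKG y) A toKG_injective (by
        simp only [sm, sm', map_mul, JA_map _ (i3 m), JA_map _ (i3 m'), ← hJ]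
        ring)
      have e1 := congrArg (Algebra.TensorProduct.map ey q) e
      simp only [sm, sm', map_mul, ← hmap] at e1
      have u1 := (hfu m).map (Algebra.TensorProduct.map (toKG (pt m)) (AlgHom.id k W))
      have u2 := (hfu m').map (Algebra.TensorProduct.map (toKG (pt m')) (AlgHom.id k W))
      refine (u1.mul u2).mul_right_cancel ?_
      simp only [β]
      calc Algebra.TensorProduct.map (toKG (pt m)) (AlgHom.id k W) (α m) *
            (Algebra.TensorProduct.map (toKG (pt m)) (AlgHom.id k W) (Algebra.TensorProduct.map (em m) q (f m)) *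
              Algebra.TensorProduct.map (toKG (pt m')) (AlgHom.id k W) (Algebra.TensorProduct.map (em m') q (f m')))
          = Algebra.TensorProduct.map (toKG (pt m)) (AlgHom.id k W) (Algebra.TensorProduct.map (em m) q (n m)) *
              Algebra.TensorProduct.map (toKG (pt m')) (AlgHom.id k W) (Algebra.TensorProduct.map (em m') q (f m')) := by
            rw [← _root_.mul_assoc, ← map_mul, hα]
        _ = Algebra.TensorProduct.map (toKG (pt m')) (AlgHom.id k W) (Algebra.TensorProduct.map (em m') q (n m')) *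
              Algebra.TensorProduct.map (toKG (pt m)) (AlgHom.id k W) (Algebra.TensorProduct.map (em m) q (f m)) := e1
        _ = _ := by
            rw [← hα m', map_mul]
            ring
    let co : ∀ (O : Type u) [CommRing O] [Algebra k O], Module.Dual k W → (O ⊗[k] W →ₗ[k] O) :=
      fun O _ _ l => (TensorProduct.rid k O).toLinearMap ∘ₗ l.lTensor O
    have hco : ∀ (m : SP k k ⟶ X) (l : Module.Dual k W) (x : St X (pt m) ⊗[k] W),
        toKG (pt m) (co _ l x) = co _ l (Algebra.TensorProduct.map (toKG (pt m)) (AlgHom.id k W) x) ∧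
          ev m (co _ l x) = l (π (ev m) x) := by
      intro m l x
      induction x using TensorProduct.induction_on with
      | zero => simp
      | tmul s w =>
        refine ⟨?_, ?_⟩
        · simp only [co, LinearMap.comp_apply, LinearMap.lTensor_tmul, LinearEquiv.coe_coe, TensorProduct.rid_tmul,
            Algebra.TensorProduct.map_tmul, AlgHom.id_apply, map_smul]
        · simp only [co, LinearMap.comp_apply, LinearMap.lTensor_tmul, LinearEquiv.coe_coe, TensorProduct.rid_tmul,
            π_tmul, map_smul, smul_eq_mul]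
          exact mul_comm _ _
      | add x y hx hy => simp only [map_add, hx.1, hx.2, hy.1, hy.2, and_self]
    have hval : ∀ l : Module.Dual k W, l (π (ev m₁) (α m₁)) = l (π (ev m₂) (α m₂)) := by
      intro l
      obtain ⟨cl, hcl⟩ := const_of_stalks X hO (co _ l (β m₁)) fun m =>
        ⟨co _ l (α m), by rw [(hco m l (α m)).1, hβ m₁ m]⟩
      have : ∀ m, l (π (ev m) (α m)) = cl := fun m => by
        have e : co _ l (α m) = algebraMap k _ cl := toKG_injective (G := X) (by
          rw [(hco m l (α m)).1, AlgHom.commutes, ← hcl, hβ m₁ m])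
        rw [← (hco m l (α m)).2, e, AlgHom.commutes]
        rfl
      rw [this, this]
    haveI : Module.Free k W := Module.Free.of_divisionRing k W
    haveI : Module.Projective k W := Module.Projective.of_free
    have hw : π (ev m₁) (α m₁) = π (ev m₂) (α m₂) :=
      sub_eq_zero.1 ((Module.forall_dual_apply_eq_zero_iff k _).1 fun l => by rw [map_sub, hval, sub_self])
    have hq : ∀ m, π (ev m) (α m) * q (π (ev (m ≫ c)) (f m)) = q (π (ev (m ≫ c)) (n m)) := fun m => by
      have := congrArg (π (ev m)) (hα m)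
      rwa [map_mul, π_map _ _ _ _ (i1 m), π_map _ _ _ _ (i1 m)] at this
    rw [← Ideal.Quotient.eq_zero_iff_mem]
    show q _ = 0
    rw [map_sub, map_mul, map_mul, ← hq m₁, ← hq m₂, hw]
    ring
  haveI : IsNoetherianRing A := Algebra.FiniteType.isNoetherianRing k A
  have hne : M ≠ ⊤ := RingHom.ker_ne_top _
  have h0 : π (ev (m₁ ≫ c)) (n m₁) * π (ev (m₂ ≫ c)) (f m₂) -
      π (ev (m₂ ≫ c)) (n m₂) * π (ev (m₁ ≫ c)) (f m₁) = 0 := by
    rw [← Ideal.mem_bot, ← Ideal.iInf_pow_eq_bot_of_isDomain M hne, Submodule.mem_iInf]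
    intro i
    exact Ideal.pow_le_pow_right (Nat.le_succ i) (hpow i)
  have h0' := congrArg (fun x : A => (x : KG G)) (sub_eq_zero.1 h0)
  simp only [MulMemClass.coe_mul, ← hspec] at h0'
  have hne' : ∀ m, ((π (ev (m ≫ c)) (f m) : A) : KG G) ≠ 0 := fun m h1 => hf m (by
    rw [show π (ev (m ≫ c)) (f m) = 0 from Subtype.ext h1, map_zero])
  refine mul_right_cancel₀ (mul_ne_zero (hne' m₁) (hne' m₂)) ?_
  linear_combination h0'

variable (G) in
/-- **a nonproper connected group has an affine subgroup of positive dimension** -/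
theorem exists_affine_pos [QuasiCompact G.hom] (hG : ¬ IsProper G.hom) :
    ∃ (H : Over (Spec (CommRingCat.of k))) (_ : GrpObj H) (j : H ⟶ G), IsMonHom j ∧ IsClosedImmersion j.left ∧
      Smooth H.hom ∧ IsAffine H.left ∧ ∃ η' p' : H.left, η' ⤳ p' ∧ η' ≠ p' := by
  obtain ⟨A, _, _, z, g₀, E, gE, jE, hjE, hcl, hred, hgood, htwo⟩ := exists_orbit_subgroup hG
  haveI : IsSeparated G.hom := Groth.Agent.AV.isSeparated_of_grpObj G
  haveI : LocallyOfFiniteType E.hom := by rw [← Over.w jE]; infer_instance
  haveI : QuasiCompact E.hom := by rw [← Over.w jE]; infer_instance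
  haveI : Smooth E.hom := by
    haveI : GrpObj (Over.mk E.hom) := ‹GrpObj E›
    exact Groth.L25.GrpDeriv.smooth_of_isReduced_of_isAlgClosed E.hom
  refine ⟨E, gE, jE, hjE, hcl, inferInstance, ?_, htwo⟩
  obtain ⟨K, gK, iK, hiK, hiKc, hKO, hKA⟩ := Groth.L08.AffHull.exists_antiAffinePart E
  refine hKA ?_
  haveI : LocallyOfFiniteType K.hom := by rw [← Over.w iK]; infer_instance
  haveI : QuasiCompact K.hom := by rw [← Over.w iK]; infer_instance
  haveI : IsSeparated K.hom := Groth.Agent.AV.isSeparated_of_grpObj K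
  haveI := Groth.L08.AffHull.smooth_of_antiAffine K hKO
  haveI := Groth.L08.AffHull.connectedSpace_of_antiAffine K hKO
  haveI := Groth.L08.UnitChar.isIntegral_left K
  let i : K ⟶ G := iK ≫ jE
  let c : K ⟶ G := (str K ≫ g₀) * i
  have hc : ∀ m : SP k k ⟶ K, m ≫ c = g₀ * ((m ≫ iK) ≫ jE) := fun m => by
    rw [MonObj.comp_mul, ← Category.assoc, hom_to_SP_ext (m ≫ str K) (𝟙 _), Category.id_comp, Category.assoc]
  have hpts : ∀ m m' : SP k k ⟶ K, m = m' := fun m m' => by
    have h := eq_of_tr_eq (const_translate K hKO c (fun m a => by rw [hc]; exact hgood (m ≫ iK) a) m m')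
    rw [hc, hc, mul_right_inj] at h
    haveI : Mono jE := Groth.L19.AlgGrpBasic.mono_of_closed jE
    haveI : Mono iK := Groth.L19.AlgGrpBasic.mono_of_closed iK
    rwa [cancel_mono, cancel_mono] at h
  have hη : K.hom ≫ η[K].left = 𝟙 K.left := by
    haveI : LocallyOfFiniteType ((K.hom ≫ η[K].left) ≫ K.hom) := by
      rw [Category.assoc, Over.w η[K]]
      show LocallyOfFiniteType (K.hom ≫ 𝟙 _)
      infer_instance
    refine ext_of_apply_eq K.hom Set.univ isOpen_univ.isLocallyClosed dense_univ (fun x _ hx => ?_) ?_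
    · obtain ⟨t, rfl⟩ : ∃ t : SP k k ⟶ K, pt t = x := by
        obtain ⟨t, ht⟩ := exists_point_mem (X := K) hx.isLocallyClosed (Set.singleton_nonempty x)
        exact ⟨t, ht⟩
      have h1 := congrArg pt (hpts (str (SP k k) ≫ spA (AlgHom.id k k) ≫ (1 : SP k k ⟶ K)) t)
      have h2 : pt (1 : SP k k ⟶ K) = pt t := congrArg pt (hpts 1 t)
      show η[K].left (K.hom (pt t)) = pt t
      refine Eq.trans ?_ h2
      rw [Hom.one_def]
      show η[K].left _ = η[K].left _
      congr 1
      exact Subsingleton.elim (α := PrimeSpectrum k) _ _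
    · rw [Category.assoc, Over.w η[K], Category.id_comp]
      exact Category.comp_id _
  exact ⟨η[K].left, hη, Over.w η[K]⟩

end Groth.L08.Chev
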