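import Groth.Agent.L08.Chev.Invariant
import Groth.Agent.L22.AffineDim
import Groth.Agent.L01.NagataFiniteType
import Groth.Agent.L18.NormalizationField
import Groth.Agent.S2353
import Mathlib.RingTheory.DiscreteValuationRing.TFAE

/-!
# Divisorial valuations without centre, and their models
-/

set_option autoImplicit false
set_option backward.isDefEq.respectTransparency.types false
set_option linter.style.haveILetI false
set_option linter.unusedSectionVars false

universe u

open CategoryTheory CategoryTheory.Limits MonoidalCategory CartesianMonoidalCategory MonObj GrpObj AlgebraicGeometry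

noncomputable section

namespace Groth.L08.Chev

variable {k : Type u} [Field k] {G : Over (Spec (CommRingCat.of k))} [IsIntegral G.left]

variable (G) in
/-- an affine chart, inside the function field -/
theorem exists_model [LocallyOfFiniteType G.hom] :
    ∃ A : Subalgebra k (KG G), A.FG ∧ ∀ a : KG G, ∃ n d : KG G, n ∈ A ∧ d ∈ A ∧ d ≠ 0 ∧ a * d = n := by
  obtain ⟨_, ⟨U, hU, rfl⟩, hxU, -⟩ :=
    G.left.isBasis_affineOpens.exists_subset_of_mem_open (Set.mem_univ (genericPoint G.left)) isOpen_univ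
  replace hU : IsAffineOpen U := hU
  haveI : Nonempty U := ⟨⟨_, hxU⟩⟩
  letI : Algebra k Γ(G.left, U) := (Spec.preimage (hU.fromSpec ≫ G.hom)).hom.toAlgebra
  have hw : Spec.map (CommRingCat.ofHom (algebraMap k Γ(G.left, U))) = hU.fromSpec ≫ G.hom := Spec.map_preimage _
  haveI : Algebra.FiniteType k Γ(G.left, U) := by
    have h : LocallyOfFiniteType (hU.fromSpec ≫ G.hom) := inferInstance
    rw [← hw, HasRingHomProperty.Spec_iff (P := @LocallyOfFiniteType)] at h
    exact RingHom.finiteType_algebraMap.1 h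
  have hfac : Spec.map (G.left.presheaf.germ U (genericPoint G.left) hxU) ≫ hU.fromSpec = fss G (genericPoint G.left) :=
    hU.fromSpecStalk_eq_fromSpecStalk hxU
  let r : Γ(G.left, U) →ₐ[k] KG G :=
    { ((G.left.germToFunctionField U).hom : Γ(G.left, U) →+* KG G) with
      commutes' := fun c => by
        have h1 : Spec.map (CommRingCat.ofHom (algebraMap k Γ(G.left, U)) ≫
            G.left.presheaf.germ U (genericPoint G.left) hxU) =
            Spec.map (CommRingCat.ofHom (algebraMap k (KG G))) := by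
          refine (Spec.map_comp _ _).trans ?_
          rw [hw, map_algebraMap_St, ← hfac]
          exact (Category.assoc _ _ _).symm
        exact ConcreteCategory.congr_hom (Spec.map_injective h1) c }
  refine ⟨r.range, ?_, fun a => ?_⟩
  · rw [← Algebra.map_top]
    exact Subalgebra.FG.map r Algebra.FiniteType.out
  · haveI := functionField_isFractionRing_of_isAffineOpen G.left U hU
    obtain ⟨n, d, hd, he⟩ := IsFractionRing.div_surjective (A := Γ(G.left, U)) (K := G.left.functionField) a
    have hd0 : (r d : KG G) ≠ 0 := fun h0 => nonZeroDivisors.ne_zero hd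
      (G.left.germToFunctionField_injective U (h0.trans (map_zero r).symm))
    refine ⟨r n, r d, ⟨n, rfl⟩, ⟨d, rfl⟩, hd0, ?_⟩
    rw [← he]
    exact div_mul_cancel₀ _ hd0

theorem exists_trdeg [LocallyOfFiniteType G.hom] : ∃ n : ℕ, Algebra.trdeg k (KG G) = n := by
  obtain ⟨A, hA, hfrac⟩ := exists_model G
  haveI : Algebra.FiniteType k A := A.fg_iff_finiteType.1 hA
  haveI : IsFractionRing A (KG G) := IsFractionRing.of_field A (KG G) fun a => by
    obtain ⟨n, d, hn, hd, hd0, he⟩ := hfrac a
    exact ⟨⟨n, hn⟩, ⟨d, hd⟩, ((div_eq_iff hd0).2 he.symm).symm⟩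
  obtain ⟨d, -, -, -, hd, -⟩ := Groth.L22.AffineDim.exists_normalization k A
  exact ⟨d, Groth.L22.AffineDim.trdeg_fractionRing k A (KG G) hd⟩

/-- finitely many witnesses of the absence of a centre -/
theorem exists_witness [CompactSpace G.left] (V : ValuationSubring (KG G))
    (hk : ∀ c : k, algebraMap k (KG G) c ∈ V) (hV : NoCentre G V) :
    ∃ W : Finset (KG G), (∀ x ∈ W, x ≠ 0 ∧ V.valuation x < 1) ∧
      ∀ V' : ValuationSubring (KG G), (∀ x ∈ W, V'.valuation x < 1) → NoCentre G V' := by
  classical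
  have hch : ∀ x : G.left, ∃ (R : Type u) (_ : CommRing R) (_ : Algebra k R) (j : SP k R ⟶ G)
      (σ : R →ₐ[k] KG G) (r : R), IsOpenImmersion j.left ∧ x ∈ Set.range j.left ∧ spA σ ≫ j = ξ G ∧ σ r ∉ V := by
    intro x
    obtain ⟨R, _, _, _, σ, j, hj, hfac, -⟩ := exists_chart G x
    have hfac' : spA ((toKG x).comp σ) ≫ j = ξ G := by rw [spA_comp, Category.assoc, hfac, spA_toKG]
    have hr : ∃ r, (toKG x).comp σ r ∉ V := by
      by_contra h
      push Not at h
      refine hV ⟨hk, spA (((toKG x).comp σ).codRestrict (vsub V hk) h) ≫ j, ?_⟩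
      rw [← Category.assoc, ← spA_comp]
      exact hfac'
    obtain ⟨r, hr⟩ := hr
    refine ⟨R, inferInstance, inferInstance, j, (toKG x).comp σ, r, hj,
      ⟨(spA σ).left (IsLocalRing.closedPoint (St G x)), ?_⟩, hfac', hr⟩
    rw [← Scheme.Hom.comp_apply, ← Over.comp_left, hfac]
    exact ptSt_closedPoint G x
  choose R iR iA j σ r hj hmem hfac hr using hch
  obtain ⟨T, hT⟩ := isCompact_univ.elim_finite_subcover (fun x : G.left => Set.range (j x).left)
    (fun x => (j x).left.opensRange.isOpen) (fun x _ => Set.mem_iUnion.2 ⟨x, hmem x⟩)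
  refine ⟨T.image fun x => (σ x (r x))⁻¹, fun w hw => ?_, fun V' hV' => ?_⟩
  · obtain ⟨x, -, rfl⟩ := Finset.mem_image.1 hw
    refine ⟨inv_ne_zero fun h0 => hr x (by rw [h0]; exact V.zero_mem), ?_⟩
    rw [← ValuationSubring.mem_nonunits_iff, ValuationSubring.inv_mem_nonunits_iff]
    exact Or.inr (hr x)
  rintro ⟨hk', q, hq⟩
  obtain ⟨x, hxT, hx⟩ := Set.mem_iUnion₂.1 (hT (Set.mem_univ (q.left (IsLocalRing.closedPoint (vsub V' hk')))))
  have hrange : Set.range q.left ⊆ Set.range (j x).left := by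
    rintro _ ⟨y, rfl⟩
    exact ((IsLocalRing.specializes_closedPoint y).map q.left.continuous).mem_open
      (j x).left.opensRange.isOpen hx
  let l : SP k (vsub V' hk') ⟶ SP k (R x) := Over.homMk (IsOpenImmersion.lift (j x).left q.left hrange) (by
    show _ ≫ (SP k (R x)).hom = _
    rw [← Over.w (j x), IsOpenImmersion.lift_fac_assoc, Over.w q])
  have hl : l ≫ j x = q := Over.OverMorphism.ext (IsOpenImmersion.lift_fac _ _ _)
  let φ := Spec.preimage l.left
  have h1 : (spA (vsub V' hk').val ≫ l).left ≫ (j x).left = (spA (σ x)).left ≫ (j x).left := by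
    rw [← Over.comp_left, ← Over.comp_left, Category.assoc, hl, hq, hfac x]
  rw [cancel_mono] at h1
  have h2 : σ x (r x) ∈ V' := by
    have e : Spec.map (φ ≫ CommRingCat.ofHom (vsub V' hk').val.toRingHom) =
        Spec.map (CommRingCat.ofHom (σ x).toRingHom) := by
      rw [Spec.map_comp]
      show Spec.map _ ≫ Spec.map φ = _
      rw [Spec.map_preimage]
      exact h1
    have := ConcreteCategory.congr_hom (Spec.map_injective e) (r x)
    show (σ x).toRingHom (r x) ∈ V'
    rw [show (σ x).toRingHom (r x) = ((φ.hom (r x) : vsub V' hk') : KG G) from this.symm]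
    exact (φ.hom (r x)).2
  have h3 := hV' _ (Finset.mem_image.2 ⟨x, hxT, rfl⟩)
  rw [← ValuationSubring.mem_nonunits_iff, ValuationSubring.inv_mem_nonunits_iff] at h3
  rcases h3 with h3 | h3
  · exact hr x (by rw [h3]; exact V.zero_mem)
  · exact h3 h2

/-- a nonproper scheme has a valuation ring without centre -/
theorem exists_noCentre [LocallyOfFiniteType G.hom] [QuasiCompact G.hom] [IsSeparated G.hom]
    (hG : ¬ IsProper G.hom) :
    ∃ V : ValuationSubring (KG G), (∀ c : k, algebraMap k (KG G) c ∈ V) ∧ NoCentre G V := by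
  by_contra hall
  push Not at hall
  haveI : G.left.IsSeparated := ⟨by
    rw [← terminal.comp_from G.hom]; infer_instance⟩
  haveI : IsDominant G.hom := ⟨fun y => subset_closure
    ⟨genericPoint G.left, Subsingleton.elim (α := PrimeSpectrum k) _ _⟩⟩
  refine hG (Groth.Agent.S2353.result G.hom fun R _ y hy hR => ?_)
  let φ : (Spec (CommRingCat.of k)).presheaf.stalk y ⟶ G.left.functionField :=
    (Spec (CommRingCat.of k)).presheaf.stalkSpecializes hy ≫ G.hom.stalkMap (genericPoint G.left)
  have hφ : Spec.map φ ≫ (Spec (CommRingCat.of k)).fromSpecStalk y = fss G (genericPoint G.left) ≫ G.hom := by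
    rw [Spec.map_comp, Category.assoc, Scheme.SpecMap_stalkSpecializes_fromSpecStalk]
    exact Scheme.SpecMap_stalkMap_fromSpecStalk G.hom
  let R' : ValuationSubring (KG G) := R
  have hk : ∀ c : k, algebraMap k (KG G) c ∈ R' := by
    intro c
    let ψ := Spec.preimage ((Spec (CommRingCat.of k)).fromSpecStalk y)
    have e : Spec.map (ψ ≫ φ) = Spec.map (CommRingCat.ofHom (algebraMap k (KG G))) := by
      rw [Spec.map_comp, Spec.map_preimage, hφ, map_algebraMap_St]
    rw [show algebraMap k (KG G) c = φ.hom (ψ.hom c) from (ConcreteCategory.congr_hom (Spec.map_injective e) c).symm]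
    exact hR.1 _
  obtain ⟨hk', q, hq⟩ : ExtOver R' (ξ G) := not_not.1 (hall R' hk)
  obtain ⟨e, he, hfac⟩ := exists_hom_St q rfl
  have h1 : (vsub R' hk').val.comp e = toKG _ :=
    hom_ext_St (by rw [spA_comp, Category.assoc, hfac, hq, spA_toKG])
  refine ⟨q.left (IsLocalRing.closedPoint _), fun a => ?_, fun a ha => ?_⟩
  · show toKG _ a ∈ R'
    rw [← h1]; exact (e a).2
  · show R'.valuation (toKG _ a) < 1
    rw [← h1]
    exact (mem_maximal_vsub (e a)).1 ((IsLocalRing.mem_maximalIdeal _).2 fun hu =>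
      (IsLocalRing.mem_maximalIdeal _).1 ha (he.map_nonunit a hu))

theorem not_noCentre_top : ¬ NoCentre G (⊤ : ValuationSubring (KG G)) := fun h => h (by
  have h1 := ExtOver.of_constants (V := (⊤ : ValuationSubring (KG G))) (AlgHom.id k (KG G))
    (fun e => ValuationSubring.mem_top e) (ξ G)
  rwa [spA_id, Category.id_comp] at h1)

/-- fields of definition inside a valuation ring -/
theorem exists_gens [LocallyOfFiniteType G.hom] (V : ValuationSubring (KG G)) :
    ∃ s : Finset (KG G), (∀ x ∈ s, x ∈ V) ∧ ∀ (A : Subalgebra k (KG G)), (↑s : Set (KG G)) ⊆ A →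
      IsFractionRing A (KG G) := by
  classical
  obtain ⟨B, ⟨b, hb⟩, hfrac⟩ := exists_model G
  refine ⟨b.image fun x => if x ∈ V then x else x⁻¹, fun x hx => ?_, fun A hA => IsFractionRing.of_field A _ fun a => ?_⟩
  · obtain ⟨y, -, rfl⟩ := Finset.mem_image.1 hx
    split_ifs with h
    · exact h
    · exact (V.mem_or_inv_mem y).resolve_left h
  let L : IntermediateField k (KG G) := IntermediateField.adjoin k (A : Set (KG G))
  have hBL : B ≤ L.toSubalgebra := by
    rw [← hb]
    refine Algebra.adjoin_le fun y hy => ?_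
    have h := hA (Finset.mem_coe.2 (Finset.mem_image_of_mem _ hy))
    split_ifs at h with hV
    · exact IntermediateField.subset_adjoin k _ h
    · have := L.inv_mem (IntermediateField.subset_adjoin k (A : Set (KG G)) h)
      rwa [_root_.inv_inv] at this
  obtain ⟨n, d, hn, hd, hd0, he⟩ := hfrac a
  have haL : a ∈ L := by
    rw [eq_div_iff_mul_eq hd0 |>.2 he]
    exact L.div_mem (hBL hn) (hBL hd)
  obtain ⟨r, hr, s, hs, rfl⟩ := IntermediateField.mem_adjoin_iff_div.1 haL
  rw [Algebra.adjoin_eq] at hr hs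
  exact ⟨⟨r, hr⟩, ⟨s, hs⟩, rfl⟩

theorem dim_eq {n : ℕ} (hn : Algebra.trdeg k (KG G) = n) (A : Subalgebra k (KG G)) [Algebra.FiniteType k A]
    [IsFractionRing A (KG G)] (P : Ideal A) [P.IsPrime] :
    ∃ h e : ℕ, P.height = h ∧ ringKrullDim (A ⧸ P) = (e : WithBot ℕ∞) ∧ h + e = n := by
  obtain ⟨h, e, d, hh, he, hd, hsum⟩ := Groth.L22.AffineDim.dim_formula k A P
  have h2 := Groth.L22.AffineDim.trdeg_fractionRing k A (KG G) hd
  rw [hn] at h2
  exact ⟨h, e, hh, he, hsum.trans (by exact_mod_cast h2.symm)⟩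

/-- **a divisorial valuation without centre** -/
theorem exists_divisorial [LocallyOfFiniteType G.hom] [QuasiCompact G.hom] [IsSeparated G.hom] {n : ℕ}
    (hn : Algebra.trdeg k (KG G) = n) (hG : ¬ IsProper G.hom) :
    ∃ V₀ : ValuationSubring (KG G), (∀ c : k, algebraMap k (KG G) c ∈ V₀) ∧ NoCentre G V₀ ∧
      ∃ t : Fin (n - 1) → KG G, IndepMod k V₀ t := by
  classical
  haveI : CompactSpace G.left := QuasiCompact.compactSpace_of_compactSpace G.hom
  obtain ⟨V, hk, hV⟩ := exists_noCentre hG
  obtain ⟨W, hW, hWV⟩ := exists_witness V hk hV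
  obtain ⟨s, hs, hfr⟩ := exists_gens V
  by_cases hWne : W.Nonempty
  swap
  · rw [Finset.not_nonempty_iff_eq_empty] at hWne
    exact absurd (hWV ⊤ (by simp [hWne])) not_noCentre_top
  obtain ⟨x₀, hx₀, hmax⟩ := W.exists_max_image (fun x => V.valuation x) hWne
  let A : Subalgebra k (KG G) := Algebra.adjoin k (↑(s ∪ insert x₀ (W.image fun x => x / x₀)) : Set (KG G))
  haveI : Algebra.FiniteType k A := A.fg_iff_finiteType.1 ⟨_, rfl⟩
  haveI : IsFractionRing A (KG G) := hfr A fun x hx => Algebra.subset_adjoin (by simp [Finset.mem_coe.1 hx])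
  have hAV : ∀ a : A, (a : KG G) ∈ V := by
    intro a
    refine Algebra.adjoin_le (S := vsub V hk) (fun x hx => ?_) a.2
    simp only [Finset.coe_union, Finset.coe_insert, Finset.coe_image, Set.mem_union, Set.mem_insert_iff,
      Set.mem_image, Finset.mem_coe] at hx
    rcases hx with hx | rfl | ⟨y, hy, rfl⟩
    · exact hs x hx
    · exact (V.valuation_le_one_iff _).1 (hW x hx₀).2.le
    · show y / x₀ ∈ V
      rw [← V.valuation_le_one_iff, map_div₀]
      exact div_le_one_of_le₀ (hmax y hy) zero_le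
  let a₀ : A := ⟨x₀, Algebra.subset_adjoin (by simp)⟩
  have hprop : Ideal.span {a₀} ≠ ⊤ := by
    intro h
    obtain ⟨b, hb⟩ := Ideal.mem_span_singleton'.1 ((Ideal.eq_top_iff_one _).1 h)
    have hb' : (b : KG G) * x₀ = 1 := congrArg Subtype.val hb
    have h1 := congrArg V.valuation hb'
    rw [map_mul, map_one] at h1
    exact absurd h1 (mul_lt_one_of_nonneg_of_lt_one_right ((V.valuation_le_one_iff _).2 (hAV b))
      zero_le (hW x₀ hx₀).2).ne
  obtain ⟨M, hM, hle⟩ := Ideal.exists_le_maximal _ hprop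
  obtain ⟨P, hPmin, -⟩ := Ideal.exists_minimalPrimes_le hle
  haveI := hPmin.isPrime
  haveI : IsNoetherianRing A := Algebra.FiniteType.isNoetherianRing k A
  haveI : (Ideal.span {a₀}).IsPrincipal := ⟨⟨a₀, rfl⟩⟩
  obtain ⟨h, e, hh, he, hsum⟩ := dim_eq hn A P
  have hh1 : h ≤ 1 := by
    have := Ideal.height_le_one_of_isPrincipal_of_mem_minimalPrimes _ _ hPmin
    rw [hh] at this
    exact_mod_cast this
  haveI : IsLocalRing (Localization.AtPrime P) := inferInstance
  let f : Localization.AtPrime P →+* KG G := IsLocalization.lift (M := P.primeCompl) (g := algebraMap A (KG G))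
    (fun y => isUnit_iff_ne_zero.2 fun h0 => y.2 (by
      have : (y : A) = 0 := IsFractionRing.injective A (KG G) (h0.trans (map_zero _).symm)
      rw [this]; exact P.zero_mem))
  obtain ⟨V₀, hV₀, hloc⟩ := IsLocalRing.exists_factor_valuationRing (R := Localization.AtPrime P) f
  have hmem : ∀ a : A, (a : KG G) ∈ V₀ := fun a => by
    have := hV₀ (algebraMap _ _ a)
    rwa [IsLocalization.lift_eq] at this
  have hcentre : ∀ a : A, V₀.valuation (a : KG G) < 1 ↔ a ∈ P := by
    intro a
    have h1 : f (algebraMap _ _ a) = (a : KG G) := IsLocalization.lift_eq _ a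
    rw [← h1, ← IsLocalization.AtPrime.to_map_mem_maximal_iff (Localization.AtPrime P) P a]
    refine (V₀.valuation_lt_one_iff (f.codRestrict V₀.toSubring hV₀ (algebraMap _ _ a))).symm.trans ?_
    rw [IsLocalRing.mem_maximalIdeal, IsLocalRing.mem_maximalIdeal, mem_nonunits_iff, mem_nonunits_iff]
    exact not_congr ⟨fun h => hloc.map_nonunit _ h, fun h => h.map _⟩
  have hk₀ : ∀ c : k, algebraMap k (KG G) c ∈ V₀ := fun c => hmem ⟨_, A.algebraMap_mem c⟩
  refine ⟨V₀, hk₀, hWV V₀ fun x hx => ?_, ?_⟩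
  · have hP0 : a₀ ∈ P := hPmin.le (Ideal.mem_span_singleton_self a₀)
    let c : A := ⟨x / x₀, Algebra.subset_adjoin (by simp [hx]; right; right; exact ⟨x, hx, rfl⟩)⟩
    have hx' : ((c * a₀ : A) : KG G) = x := div_mul_cancel₀ _ (hW x₀ hx₀).1
    rw [← hx', hcentre]
    exact P.mul_mem_left _ hP0
  obtain ⟨e', g, hg, -, he', -⟩ := Groth.L22.AffineDim.exists_normalization k (A ⧸ P)
  have hee : e' = e := by
    have := he'.symm.trans he
    exact_mod_cast this
  subst hee
  choose t ht using fun i : Fin e' => Ideal.Quotient.mk_surjective (I := P) (g (MvPolynomial.X i))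
  have hind : IndepMod k V₀ (fun i => (t i : KG G)) := by
    refine ⟨fun i => hmem _, fun Q hQ hlt => hQ (hg ?_)⟩
    rw [show MvPolynomial.aeval (fun i => (t i : KG G)) Q = ((MvPolynomial.aeval t Q : A) : KG G) from
      (DFunLike.congr_fun (MvPolynomial.comp_aeval t A.val) Q).symm, hcentre] at hlt
    rw [map_zero, ← Ideal.Quotient.eq_zero_iff_mem.2 hlt,
      show Ideal.Quotient.mk P (MvPolynomial.aeval t Q) = MvPolynomial.aeval (fun i => Ideal.Quotient.mkₐ k P (t i)) Q
        from DFunLike.congr_fun (MvPolynomial.comp_aeval t (Ideal.Quotient.mkₐ k P)) Q]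
    rw [show (fun i => Ideal.Quotient.mkₐ k P (t i)) = fun i => g (MvPolynomial.X i) from funext ht,
      ← MvPolynomial.comp_aeval]
    simp
  refine ⟨fun i => (t (Fin.castLE (by omega) i) : KG G), fun i => hind.1 _, fun Q hQ => ?_⟩
  have := hind.2 (MvPolynomial.rename (Fin.castLE (by omega : n - 1 ≤ e')) Q)
    (fun h => hQ (MvPolynomial.rename_injective _ (Fin.castLE_injective _) (h.trans (map_zero _).symm)))
  rw [MvPolynomial.aeval_rename] at this
  exact this

/-- **normal models of divisorial valuations** -/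
theorem exists_divModel [LocallyOfFiniteType G.hom] {n : ℕ} (hn : Algebra.trdeg k (KG G) = n)
    (V : ValuationSubring (KG G)) (hk : ∀ c : k, algebraMap k (KG G) c ∈ V) (hV : NoCentre G V)
    {t : Fin (n - 1) → KG G} (ht : IndepMod k V t) :
    ∃ A : Subalgebra k (KG G), A.FG ∧ IsFractionRing A (KG G) ∧ (∀ a : A, (a : KG G) ∈ V) ∧
      (∀ a : KG G, a ∈ V → ∃ x d : KG G, x ∈ A ∧ d ∈ A ∧ V.valuation d = 1 ∧ a * d = x) ∧
      ∃ p : Ideal A, p.IsPrime ∧ (∀ a : A, a ∈ p ↔ V.valuation (a : KG G) < 1) ∧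
        ∃ e : ℕ, ringKrullDim (A ⧸ p) = (e : WithBot ℕ∞) ∧ e + 1 = n := by
  classical
  obtain ⟨x, hx0, hx⟩ : ∃ x : KG G, x ≠ 0 ∧ V.valuation x < 1 := by
    by_contra h
    push Not at h
    refine not_noCentre_top (G := G) ?_
    rwa [show V = ⊤ from ?_] at hV
    refine eq_top_iff.2 fun a _ => ?_
    by_contra ha
    have ha0 : a⁻¹ ≠ 0 := inv_ne_zero fun h0 => ha (by rw [h0]; exact V.zero_mem)
    refine (h _ ha0).not_gt ?_
    rw [← ValuationSubring.mem_nonunits_iff, ValuationSubring.inv_mem_nonunits_iff]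
    exact Or.inr ha
  obtain ⟨s, hs, hfr⟩ := exists_gens V
  let A₀ : Subalgebra k (KG G) := Algebra.adjoin k (↑(s ∪ insert x (Finset.univ.image t)) : Set (KG G))
  haveI : Algebra.FiniteType k A₀ := A₀.fg_iff_finiteType.1 ⟨_, rfl⟩
  haveI : IsFractionRing A₀ (KG G) := hfr A₀ fun z hz => Algebra.subset_adjoin (by simp [Finset.mem_coe.1 hz])
  have hA₀ : ∀ a : A₀, (a : KG G) ∈ V := by
    intro a
    refine Algebra.adjoin_le (S := vsub V hk) (fun z hz => ?_) a.2
    simp only [Finset.coe_union, Finset.coe_insert, Finset.coe_image, Finset.coe_univ, Set.image_univ,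
      Set.mem_union, Set.mem_insert_iff, Set.mem_range, Finset.mem_coe] at hz
    rcases hz with hz | rfl | ⟨i, rfl⟩
    · exact hs z hz
    · exact (V.valuation_le_one_iff _).1 hx.le
    · exact ht.1 i
  -- normalisation
  have hN2 : CAlg.IsN2 A₀ := Groth.L01.Nagata.isN2_of_isNagata
    (Groth.L01.Nagata.isNagata_of_finiteType (R := k) (Groth.L18.NormField.isNagata_field k))
  letI : Algebra (FractionRing A₀) (KG G) := (FractionRing.algEquiv A₀ (KG G)).toAlgHom.toRingHom.toAlgebra
  haveI : IsScalarTower A₀ (FractionRing A₀) (KG G) :=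
    IsScalarTower.of_algebraMap_eq fun a => ((FractionRing.algEquiv A₀ (KG G)).commutes a).symm
  haveI : Module.Finite A₀ (integralClosure A₀ (KG G)) :=
    hN2 (KG G) (Module.Finite.of_surjective (Algebra.linearMap (FractionRing A₀) (KG G))
      (FractionRing.algEquiv A₀ (KG G)).surjective)
  let A : Subalgebra k (KG G) := (integralClosure A₀ (KG G)).restrictScalars k
  haveI : Algebra.FiniteType k (integralClosure A₀ (KG G)) := Algebra.FiniteType.trans (S := A₀) inferInstance inferInstance
  have hAfg : A.FG := A.fg_iff_finiteType.2 (inferInstanceAs (Algebra.FiniteType k (integralClosure A₀ (KG G))))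
  haveI : Algebra.FiniteType k A := A.fg_iff_finiteType.1 hAfg
  have hle : ∀ z, z ∈ A₀ → z ∈ A := fun z hz => (isIntegral_algebraMap (x := (⟨z, hz⟩ : A₀)) : _root_.IsIntegral A₀ z)
  haveI : IsFractionRing A (KG G) := hfr A fun z hz => hle z (Algebra.subset_adjoin (by simp [Finset.mem_coe.1 hz]))
  have hA : ∀ a : A, (a : KG G) ∈ V := by
    rintro ⟨a, ha⟩
    obtain ⟨P, hP, hP'⟩ := (ha : _root_.IsIntegral A₀ a)
    let j : A₀ →+* V := A₀.val.toRingHom.codRestrict V.toSubring hA₀
    have hint : _root_.IsIntegral V a := ⟨P.map j, hP.map j, by rw [Polynomial.eval₂_map]; exact hP'⟩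
    obtain ⟨y, hy⟩ := IsIntegrallyClosed.isIntegral_iff.1 hint
    show a ∈ V
    rw [← hy]
    exact y.2
  let p : Ideal A :=
    { carrier := {a | V.valuation (a : KG G) < 1}
      add_mem' := fun {a b} ha hb => lt_of_le_of_lt (V.valuation.map_add _ _) (max_lt ha hb)
      zero_mem' := by simp
      smul_mem' := fun c a ha => by
        show V.valuation ((c : KG G) * (a : KG G)) < 1
        rw [map_mul]
        exact lt_of_le_of_lt (mul_le_of_le_one_left zero_le ((V.valuation_le_one_iff _).2 (hA c))) ha }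
  have hp : ∀ a : A, a ∈ p ↔ V.valuation (a : KG G) < 1 := fun a => Iff.rfl
  haveI : p.IsPrime := by
    refine ⟨fun h => ?_, fun {a b} hab => ?_⟩
    · have := (hp 1).1 ((Ideal.eq_top_iff_one p).1 h)
      simp at this
    · by_contra hne
      push Not at hne
      rw [hp, MulMemClass.coe_mul, map_mul] at hab
      have e1 : V.valuation (a : KG G) = 1 := le_antisymm ((V.valuation_le_one_iff _).2 (hA a)) (not_lt.1 hne.1)
      have e2 : V.valuation (b : KG G) = 1 := le_antisymm ((V.valuation_le_one_iff _).2 (hA b)) (not_lt.1 hne.2)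
      rw [e1, e2, _root_.mul_one] at hab
      exact lt_irrefl _ hab
  obtain ⟨h, e, hh, he, hsum⟩ := dim_eq hn A p
  let xA : A := ⟨x, hle x (Algebra.subset_adjoin (by simp))⟩
  have hpne : p ≠ ⊥ := fun h0 => hx0 (by
    have : xA ∈ p := hx
    rw [h0, Ideal.mem_bot] at this
    exact congrArg Subtype.val this)
  have hh1 : 1 ≤ h := by
    by_contra hlt
    have : p.height = 0 := by rw [hh]; exact_mod_cast (by omega : h = 0)
    exact hpne (Ideal.height_eq_zero_iff_eq_bot.1 this)
  have he1 : n - 1 ≤ e := by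
    let tA : Fin (n - 1) → A := fun i => ⟨t i, hle _ (Algebra.subset_adjoin (by simp))⟩
    have hai : AlgebraicIndependent k (fun i => Ideal.Quotient.mkₐ k p (tA i)) := by
      rw [algebraicIndependent_iff]
      intro Q hQ
      by_contra hQ0
      rw [← MvPolynomial.comp_aeval, AlgHom.comp_apply, Ideal.Quotient.mkₐ_eq_mk, Ideal.Quotient.eq_zero_iff_mem, hp,
        show ((MvPolynomial.aeval tA Q : A) : KG G) = MvPolynomial.aeval t Q from
          DFunLike.congr_fun (MvPolynomial.comp_aeval tA A.val) Q] at hQ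
      exact ht.2 Q hQ0 hQ
    obtain ⟨e', g, -, -, he', htr⟩ := Groth.L22.AffineDim.exists_normalization k (A ⧸ p)
    have hee : e' = e := by
      have := he'.symm.trans he
      exact_mod_cast this
    have h1 := hai.lift_cardinalMk_le_trdeg
    rw [Cardinal.mk_fin, Cardinal.lift_natCast, Cardinal.lift_id', htr, hee] at h1
    exact_mod_cast h1
  refine ⟨A, hAfg, inferInstance, hA, fun a ha => ?_, p, inferInstance, hp, e, he, by omega⟩
  -- the local ring at `p` is the valuation ring
  haveI : IsNoetherianRing A := Algebra.FiniteType.isNoetherianRing k A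
  haveI : IsIntegrallyClosed A := by
    refine (isIntegrallyClosed_iff (KG G)).2 fun {z} hz => ?_
    haveI : Algebra.IsIntegral A₀ (integralClosure A₀ (KG G)) := inferInstance
    have hz' : _root_.IsIntegral (integralClosure A₀ (KG G)) z := hz
    exact ⟨⟨z, (isIntegral_trans (R := A₀) z hz' : _root_.IsIntegral A₀ z)⟩, rfl⟩
  let Ap := Localization.AtPrime p
  haveI : IsIntegrallyClosed Ap :=
    isIntegrallyClosed_of_isLocalization Ap p.primeCompl p.primeCompl_le_nonZeroDivisors
  have hdim : ∀ Q : Ideal Ap, Q ≠ ⊥ → Q.IsPrime → Q = IsLocalRing.maximalIdeal Ap := by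
    intro Q hQ0 hQ
    by_contra hne
    have h1 := Ideal.height_add_one_le_of_lt_of_isPrime
      (lt_of_le_of_ne (IsLocalRing.le_maximalIdeal hQ.ne_top) hne)
    have h2 : (IsLocalRing.maximalIdeal Ap).height = (h : ℕ∞) := by
      have h3 := IsLocalization.AtPrime.ringKrullDim_eq_height p Ap
      rw [← IsLocalRing.maximalIdeal_height_eq_ringKrullDim, hh] at h3
      exact_mod_cast h3
    have h3 : (1 : ℕ∞) ≤ Q.height := ENat.one_le_iff_ne_zero.2 fun h => hQ0 (Ideal.height_eq_zero_iff_eq_bot.1 h)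
    have h4 := (add_le_add h3 le_rfl).trans (h1.trans_eq h2)
    have h5 : h ≤ 1 := by omega
    norm_cast at h4
    omega
  haveI : ValuationRing Ap := ((tfae_of_isNoetherianRing_of_isLocalRing_of_isDomain Ap).out 3 1).mp
    (show IsIntegrallyClosed Ap ∧ _ from ⟨inferInstance, hdim⟩)
  let f : Ap →+* KG G := IsLocalization.lift (M := p.primeCompl) (g := algebraMap A (KG G))
    (fun y => isUnit_iff_ne_zero.2 fun h0 => y.2 (by
      have : (y : A) = 0 := IsFractionRing.injective A (KG G) (h0.trans (map_zero _).symm)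
      rw [this]; exact p.zero_mem))
  obtain ⟨u, v, hv, rfl⟩ := IsFractionRing.div_surjective (A := A) a
  have hv0 : (v : KG G) ≠ 0 := fun h0 => nonZeroDivisors.ne_zero hv (Subtype.ext h0)
  obtain ⟨c, hc | hc⟩ := ValuationRing.cond (algebraMap A Ap v) (algebraMap A Ap u)
  · obtain ⟨⟨c₁, c₂⟩, hc'⟩ := IsLocalization.surj p.primeCompl c
    refine ⟨(c₁ : KG G), (c₂ : A), c₁.2, (c₂ : A).2,
      le_antisymm ((V.valuation_le_one_iff _).2 (hA _)) (not_lt.1 fun hlt => c₂.2 ((hp _).2 hlt)), ?_⟩
    have e1 := congrArg f hc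
    have e2 := congrArg f hc'
    rw [map_mul, IsLocalization.lift_eq, IsLocalization.lift_eq] at e1 e2
    show (u : KG G) / (v : KG G) * _ = _
    rw [← show (v : KG G) * f c = (u : KG G) from e1, mul_div_cancel_left₀ _ hv0]
    exact e2
  · obtain ⟨⟨c₁, c₂⟩, hc'⟩ := IsLocalization.surj p.primeCompl c
    have hv1 : V.valuation ((c₂ : A) : KG G) = 1 :=
      le_antisymm ((V.valuation_le_one_iff _).2 (hA _)) (not_lt.1 fun hlt => c₂.2 ((hp _).2 hlt))
    have e1 := congrArg f hc
    have e2 := congrArg f hc'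
    rw [map_mul, IsLocalization.lift_eq, IsLocalization.lift_eq] at e1 e2
    have e3 : (u : KG G) * (c₁ : KG G) = (v : KG G) * ((c₂ : A) : KG G) := by
      rw [show (c₁ : KG G) = f c * ((c₂ : A) : KG G) from e2.symm, ← _root_.mul_assoc]
      congr 1
    have hc20 : ((c₂ : A) : KG G) ≠ 0 := fun h0 => by simp [h0] at hv1
    have hu0 : (u : KG G) ≠ 0 := fun h0 => by
      rw [h0, zero_mul] at e3
      exact mul_ne_zero hv0 hc20 e3.symm
    have hc10 : (c₁ : KG G) ≠ 0 := fun h0 => by
      rw [h0, mul_zero] at e3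
      exact mul_ne_zero hv0 hc20 e3.symm
    have hval : V.valuation (c₁ : KG G) = 1 := by
      refine le_antisymm ((V.valuation_le_one_iff _).2 (hA _)) ?_
      have h6 := (V.valuation_le_one_iff _).2 ha
      rw [show algebraMap A (KG G) u / algebraMap A (KG G) v = ((c₂ : A) : KG G) / (c₁ : KG G) from by
        show (u : KG G) / (v : KG G) = _
        rw [div_eq_div_iff hv0 hc10]; exact e3.trans (mul_comm _ _), map_div₀, hv1, one_div,
        inv_le_one₀ (by rw [zero_lt_iff]; simpa using hc10)] at h6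
      exact h6
    refine ⟨((c₂ : A) : KG G), (c₁ : KG G), (c₂ : A).2, c₁.2, hval, ?_⟩
    show (u : KG G) / (v : KG G) * (c₁ : KG G) = _
    rw [div_mul_eq_mul_div, e3, mul_div_cancel_left₀ _ hv0]

end Groth.L08.Chev
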