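import Groth.Agent.L08.Chev.Pairs
import Groth.Agent.L08.KrullHopf

/-!
# A curve of translations preserving a local ring
-/

set_option autoImplicit false
set_option backward.isDefEq.respectTransparency.types false
set_option linter.style.haveILetI false
set_option linter.unusedSectionVars false

universe u

open CategoryTheory CategoryTheory.Limits MonoidalCategory CartesianMonoidalCategory MonObj GrpObj AlgebraicGeometry TensorProduct

noncomputable section

namespace Groth.L08.Chev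

variable {k : Type u} [Field k] {G : Over (Spec (CommRingCat.of k))} [GrpObj G] [IsIntegral G.left]
  [Smooth G.hom] [IsAlgClosed k]

theorem exists_pair {R A : Type u} [CommRing R] [IsDomain R] [Algebra k R] [Algebra.FiniteType k R]
    [CommRing A] [Algebra k A] [Algebra.FiniteType k A] (p : Ideal A) [p.IsPrime] (F : R ⊗[k] A)
    (hF : Algebra.TensorProduct.map (AlgHom.id k R) (Ideal.Quotient.mkₐ k p) F ≠ 0) :
    ∃ (γ : R →ₐ[k] k) (z : A →ₐ[k] k), (∀ a ∈ p, z a = 0) ∧ z (π γ F) ≠ 0 := by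
  haveI : Algebra.FiniteType k (A ⧸ p) :=
    Algebra.FiniteType.of_surjective (Ideal.Quotient.mkₐ k p) Ideal.Quotient.mk_surjective
  haveI : Algebra.FiniteType R (R ⊗[k] (A ⧸ p)) := Algebra.FiniteType.baseChange R
  haveI : Algebra.FiniteType k (R ⊗[k] (A ⧸ p)) := Algebra.FiniteType.trans (S := R) inferInstance inferInstance
  haveI : IsDomain (R ⊗[k] (A ⧸ p)) := Groth.L25.GeomIrred.isDomain_tensorProduct
  haveI : (⊥ : Ideal (R ⊗[k] (A ⧸ p))).IsPrime := Ideal.isPrime_bot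
  obtain ⟨χ, -, hχ⟩ := Groth.L08.KrullHopf.exists_point_notMem k (B := R ⊗[k] (A ⧸ p)) ⊥
    (a := Algebra.TensorProduct.map (AlgHom.id k R) (Ideal.Quotient.mkₐ k p) F) (by rwa [Ideal.mem_bot])
  let γ₀ : R →ₐ[k] k := χ.comp Algebra.TensorProduct.includeLeft
  let z : A →ₐ[k] k := (χ.comp Algebra.TensorProduct.includeRight).comp (Ideal.Quotient.mkₐ k p)
  have hχ' : ∀ x, χ (Algebra.TensorProduct.map (AlgHom.id k R) (Ideal.Quotient.mkₐ k p) x) = z (π γ₀ x) := by
    intro x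
    induction x using TensorProduct.induction_on with
    | zero => simp
    | tmul r a =>
      rw [Algebra.TensorProduct.map_tmul, π_tmul, map_smul]
      show χ _ = γ₀ r * z a
      simp only [γ₀, z, AlgHom.comp_apply, ← map_mul]
      simp
    | add x y hx hy => simp [hx, hy]
  exact ⟨γ₀, z, fun a ha => by simp [z, Ideal.Quotient.eq_zero_iff_mem.2 ha], (hχ' F) ▸ hχ⟩

namespace Datum

variable {n : ℕ} (M : Datum G n) {R : Type u} [CommRing R] [Algebra k R] {κ : R →ₐ[k] KG G}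

theorem w_vanish (hκ : Function.Injective κ) {γ : R →ₐ[k] k} {z w : M.A →ₐ[k] k} (hz : ∀ a ∈ M.p, z a = 0)
    (hw : ∀ a : M.A, Good κ M.A γ z (δ G) a (w a)) {a : M.A} (ha : a ∈ M.p) : w a = 0 := by
  obtain ⟨N, D, hD, e, hN⟩ := hw a
  have h1 : M.V₁.valuation (JA κ M.A N) < 1 := by
    rw [← e, map_mul]
    exact lt_of_le_of_lt (mul_le_of_le_one_right zero_le ((M.V₁.valuation_le_one_iff _).2 (M.JA_mem _)))
      (M.δ_lt ((M.mem_p a).1 ha))
  rw [M.eval_eq_zero hκ h1 γ hz] at hN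
  exact (mul_eq_zero.1 hN.symm).resolve_left hD

/-- **the regular pairs** -/
theorem exists_regular (hκ : Function.Injective κ) (hfrac : ∀ a : KG G, ∃ n d : R, κ d ≠ 0 ∧ a * κ d = κ n)
    (j : SP k R ⟶ G) (hj : spA κ ≫ j = ξ G) (T : Finset M.A) (hT : Algebra.adjoin k (T : Set M.A) = ⊤) :
    ∃ (F : R ⊗[k] M.A) (N D : M.A → R ⊗[k] M.A), M.V₁.valuation (JA κ M.A F) = 1 ∧
      ∀ (γ : R →ₐ[k] k) (z : M.A →ₐ[k] k), (∀ a ∈ M.p, z a = 0) → z (π γ F) ≠ 0 →
        ∃ w : M.A →ₐ[k] k, (∀ a ∈ M.p, w a = 0) ∧ (∀ a : M.A, Good κ M.A γ z (δ G) a (w a)) ∧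
          Move M.A z (spA γ ≫ j) w ∧ Move M.A w (spA γ ≫ j)⁻¹ z ∧
          ∀ a ∈ T, z (π γ (D a)) ≠ 0 ∧ z (π γ (N a)) = z (π γ (D a)) * w a := by
  classical
  choose N D N' D' Nf Df hval hN hN' hNf using fun a : M.A => M.exists_fraction_data a hfrac hκ
  refine ⟨∏ a ∈ T, D a * Df a * Nf a, N, D, ?_, fun γ z hz hF => ?_⟩
  · rw [map_prod, map_prod]
    exact Finset.prod_eq_one fun a _ => hval a
  simp only [map_prod, map_mul, Finset.prod_ne_zero_iff, mul_ne_zero_iff] at hF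
  have hgood : ∀ a ∈ (T : Set M.A), ∃ c, Good κ M.A γ z (δ G) a c := fun a ha =>
    ⟨z (π γ (N a)) / z (π γ (D a)), N a, D a, (hF a ha).1.1, hN a, (mul_div_cancel₀ _ (hF a ha).1.1).symm⟩
  obtain ⟨w, hw⟩ := exists_hom_good hκ (T : Set M.A) hT hgood
  have hδ : spA (δ G) ≫ ξ G = (spA ((e₁ G).comp κ) ≫ j) * (spA (e₂ G) ≫ ξ G) := by
    rw [spA_comp, Category.assoc, hj, spA_δ]
  have hψ : spA (ψ G) ≫ ξ G = (spA ((e₁ G).comp κ) ≫ j⁻¹) * (spA (e₂ G) ≫ ξ G) := by
    rw [GrpObj.comp_inv, spA_comp, Category.assoc, hj, spA_ψ]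
  have hm : Move M.A z (spA γ ≫ j) w := fun b => (hw b).inLoc hκ j hδ
  have hgood' : ∀ a ∈ (T : Set M.A), ∃ c, Good κ M.A γ w (ψ G) a c := by
    intro a ha
    have hD' : w (π γ (D' a)) ≠ 0 := by
      intro h0
      obtain ⟨N₀, D₀, hD₀, e, hN₀⟩ := M.good_shear hw (D' a)
      have h1 : N₀ * Df a = Nf a * D₀ := JA_injective κ M.A hκ (by rw [map_mul, map_mul, ← e, ← hNf a]; ring)
      have h2 := congrArg (fun x => z (π γ x)) h1
      simp only [map_mul, hN₀, h0, mul_zero, zero_mul] at h2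
      exact mul_ne_zero (hF a ha).2 hD₀ h2.symm
    exact ⟨w (π γ (N' a)) / w (π γ (D' a)), N' a, D' a, hD', hN' a, (mul_div_cancel₀ _ hD').symm⟩
  obtain ⟨v, hv⟩ := exists_hom_good hκ (T : Set M.A) hT hgood'
  have hm' : Move M.A w (spA γ ≫ j)⁻¹ v := fun b => by
    rw [← GrpObj.comp_inv]
    exact (hv b).inLoc hκ j⁻¹ hψ
  have hzv : z = v := by
    refine Move.eq ?_
    have := Move.mul hm hm'
    rwa [_root_.inv_mul_cancel] at this
  refine ⟨w, fun a ha => M.w_vanish hκ hz hw ha, hw, hm, hzv ▸ hm', fun a ha => ⟨(hF a ha).1.1, ?_⟩⟩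
  have := Good.unique hκ (hw a) ⟨N a, D a, (hF a ha).1.1, hN a, (mul_div_cancel₀ _ (hF a ha).1.1).symm⟩
  rw [this, mul_div_cancel₀ _ (hF a ha).1.1]

/-- evaluation at a point of the second factor -/
def evA (z : M.A →ₐ[k] k) : R ⊗[k] M.A →ₐ[k] R :=
  Algebra.TensorProduct.lift (AlgHom.id k R) ((Algebra.ofId k R).comp z) (fun _ _ => Commute.all _ _)

theorem γ_evA (γ : R →ₐ[k] k) (z : M.A →ₐ[k] k) (x : R ⊗[k] M.A) : γ (M.evA z x) = z (π γ x) := by
  induction x using TensorProduct.induction_on with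
  | zero => simp
  | tmul r a => simp [evA, π_tmul]
  | add x y hx hy => simp [hx, hy]

include M in
theorem height_ker (R : Type u) [CommRing R] [IsDomain R] [Algebra k R] [Algebra.FiniteType k R] (κ : R →ₐ[k] KG G)
    (hκ : Function.Injective κ) (hfrac : ∀ a : KG G, ∃ n d : R, κ d ≠ 0 ∧ a * κ d = κ n) (γ : R →ₐ[k] k) :
    (RingHom.ker γ.toRingHom).height = n := by
  letI : Algebra R (KG G) := κ.toRingHom.toAlgebra
  haveI : IsScalarTower k R (KG G) := IsScalarTower.of_algebraMap_eq fun c => (κ.commutes c).symm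
  haveI : FaithfulSMul R (KG G) := (faithfulSMul_iff_algebraMap_injective R (KG G)).2 hκ
  haveI : IsFractionRing R (KG G) := IsFractionRing.of_field R _ fun a => by
    obtain ⟨x, d, hd, he⟩ := hfrac a
    exact ⟨x, d, ((div_eq_iff hd).2 he.symm).symm⟩
  haveI : (RingHom.ker γ.toRingHom).IsPrime := RingHom.ker_isPrime _
  haveI hmax : (RingHom.ker γ.toRingHom).IsMaximal :=
    RingHom.ker_isMaximal_of_surjective _ fun c => ⟨algebraMap k R c, γ.commutes c⟩
  obtain ⟨h, e, d, hh, he, hd, hsum⟩ := Groth.L22.AffineDim.dim_formula k R (RingHom.ker γ.toRingHom)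
  have h0 : ringKrullDim (R ⧸ RingHom.ker γ.toRingHom) = 0 := by
    letI := Ideal.Quotient.field (RingHom.ker γ.toRingHom)
    exact ringKrullDim_eq_zero_of_field _
  rw [h0] at he
  have he0 : e = 0 := by exact_mod_cast he.symm
  have h2 := Groth.L22.AffineDim.trdeg_fractionRing k R (KG G) hd
  rw [M.trdeg] at h2
  have hnd : n = d := by exact_mod_cast h2
  rw [hh]
  exact_mod_cast (by omega : h = n)

set_option maxHeartbeats 1600000 in
/-- **the curve** -/
theorem exists_curve [IsDomain R] [Algebra.FiniteType k R] (hκ : Function.Injective κ)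
    (hfrac : ∀ a : KG G, ∃ n d : R, κ d ≠ 0 ∧ a * κ d = κ n) (j : SP k R ⟶ G) (hj : spA κ ≫ j = ξ G) :
    ∃ (F : R ⊗[k] M.A) (z w₀ : M.A →ₐ[k] k) (P : Ideal R),
      (∀ (γ : R →ₐ[k] k), z (π γ F) ≠ 0 →
        ∃ w : M.A →ₐ[k] k, ∀ a : M.A, Good κ M.A γ z (δ G) a (w a)) ∧
      P.IsPrime ∧ ¬ P.IsMaximal ∧ (∃ γ : R →ₐ[k] k, P ≤ RingHom.ker γ.toRingHom ∧ z (π γ F) ≠ 0) ∧
      (∀ (γ : R →ₐ[k] k), P ≤ RingHom.ker γ.toRingHom → z (π γ F) ≠ 0 →
        (∀ a : M.A, Good κ M.A γ z (δ G) a (w₀ a)) ∧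
        Move M.A z (spA γ ≫ j) w₀ ∧ Move M.A w₀ (spA γ ≫ j)⁻¹ z) := by
  classical
  haveI := M.isPrime
  haveI : Algebra.FiniteType k M.A := M.A.fg_iff_finiteType.1 M.fg
  haveI : Algebra.FiniteType k (M.A ⧸ M.p) :=
    Algebra.FiniteType.of_surjective (Ideal.Quotient.mkₐ k M.p) Ideal.Quotient.mk_surjective
  obtain ⟨e', g, -, hgfin, hdime, -⟩ := Groth.L22.AffineDim.exists_normalization k (M.A ⧸ M.p)
  have hee : e' = M.e := by
    have := hdime.symm.trans M.dim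
    exact_mod_cast this
  choose y hy using fun i : Fin e' => Ideal.Quotient.mk_surjective (I := M.p) (g (MvPolynomial.X i))
  obtain ⟨s, hs⟩ := (Algebra.FiniteType.out : (⊤ : Subalgebra k M.A).FG)
  let T : Finset M.A := s ∪ Finset.univ.image y
  have hT : Algebra.adjoin k (T : Set M.A) = ⊤ :=
    eq_top_iff.2 (hs.symm.le.trans (Algebra.adjoin_mono (by simp [T])))
  obtain ⟨F, N, D, hF, hreg⟩ := M.exists_regular hκ hfrac j hj T hT
  -- a first pair
  obtain ⟨γ₀, z, hz, hF₀⟩ := exists_pair M.p F (M.image_ne_zero hF)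
  obtain ⟨w₁, hw₁p, -, -, -, hw₁T⟩ := hreg γ₀ z hz hF₀
  -- the equations
  let eqn : M.A → k → R := fun a c => M.evA z (N a) - c • M.evA z (D a)
  have heqn : ∀ (γ : R →ₐ[k] k) (a : M.A) (c : k), γ (eqn a c) = z (π γ (N a)) - c * z (π γ (D a)) := by
    intro γ a c
    simp [eqn, γ_evA]
  let E : Finset R := Finset.univ.image fun i => eqn (y i) (w₁ (y i))
  have hE : Ideal.span (E : Set R) ≤ RingHom.ker γ₀.toRingHom := by
    rw [Ideal.span_le]
    intro x hx
    obtain ⟨i, -, rfl⟩ := Finset.mem_image.1 (Finset.mem_coe.1 hx)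
    show γ₀ (eqn (y i) (w₁ (y i))) = 0
    rw [heqn, (hw₁T (y i) (by simp [T])).2]
    ring
  haveI : (RingHom.ker γ₀.toRingHom).IsPrime := RingHom.ker_isPrime _
  obtain ⟨P, hPmin, hPle⟩ := Ideal.exists_minimalPrimes_le hE
  haveI := hPmin.isPrime
  haveI : IsNoetherianRing R := Algebra.FiniteType.isNoetherianRing k R
  have hPmax : ¬ P.IsMaximal := by
    intro hmax
    have h1 : P = RingHom.ker γ₀.toRingHom := hmax.eq_of_le Ideal.IsPrime.ne_top' hPle
    have h2 := Ideal.height_le_card_of_mem_minimalPrimes_span_finset hPmin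
    rw [h1, M.height_ker R κ hκ hfrac γ₀] at h2
    have h3 : E.card ≤ M.e := hee ▸ (Finset.card_image_le.trans (by simp))
    have h4 : n ≤ E.card := by exact_mod_cast h2
    have := M.he
    omega
  -- the values are finite in number
  have hroots : ∀ a : M.A, ∃ S : Finset k, ∀ w : M.A →ₐ[k] k, (∀ b ∈ M.p, w b = 0) →
      (∀ i, w (y i) = w₁ (y i)) → w a ∈ S := by
    intro a
    obtain ⟨Q, hQ, hQ'⟩ := hgfin.to_isIntegral (Ideal.Quotient.mk M.p a)
    let c : MvPolynomial (Fin e') k →ₐ[k] k := MvPolynomial.aeval fun i => w₁ (y i)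
    refine ⟨(Q.map c.toRingHom).roots.toFinset, fun w hw hwy => ?_⟩
    let wb : M.A ⧸ M.p →ₐ[k] k := Ideal.Quotient.liftₐ M.p w hw
    have hc : wb.comp g = c := MvPolynomial.algHom_ext fun i => by
      rw [AlgHom.comp_apply, ← hy i, MvPolynomial.aeval_X, ← hwy i]
      rfl
    rw [Multiset.mem_toFinset, Polynomial.mem_roots (hQ.map _).ne_zero, Polynomial.IsRoot, Polynomial.eval_map,
      ← hc]
    have h2 := congrArg wb hQ'
    rw [map_zero] at h2
    rw [show wb (Polynomial.eval₂ g.toRingHom (Ideal.Quotient.mk M.p a) Q) =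
      Polynomial.eval₂ (wb.toRingHom.comp g.toRingHom) (wb.toRingHom (Ideal.Quotient.mk M.p a)) Q
      from Polynomial.hom_eval₂ Q g.toRingHom wb.toRingHom _] at h2
    exact h2
  choose S hS using hroots
  -- a single value at each generator
  have hconst : ∀ a ∈ T, ∃ c, eqn a c ∈ P := by
    intro a ha
    by_contra h
    push Not at h
    let q := M.evA z F * ∏ c ∈ S a, eqn a c
    have hq : q ∉ P := by
      intro hmem
      rcases (Ideal.IsPrime.mem_or_mem ‹P.IsPrime›) hmem with hmem | hmem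
      · exact hF₀ ((γ_evA M γ₀ z F).symm.trans (hPle hmem))
      · obtain ⟨c, -, hc⟩ := (Ideal.IsPrime.prod_mem_iff).1 hmem
        exact h c hc
    obtain ⟨γ, hγP, hγq⟩ := Groth.L08.KrullHopf.exists_point_notMem k P hq
    rw [map_mul, mul_ne_zero_iff, γ_evA, map_prod, Finset.prod_ne_zero_iff] at hγq
    obtain ⟨w, hwp, -, -, -, hwT⟩ := hreg γ z hz hγq.1
    have hwy : ∀ i, w (y i) = w₁ (y i) := fun i => by
      obtain ⟨hD, hN⟩ := hwT (y i) (by simp [T])
      have h1 : γ (eqn (y i) (w₁ (y i))) = 0 :=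
        hγP (hPmin.1.2 (Ideal.subset_span (Finset.mem_image_of_mem _ (Finset.mem_univ i))))
      rw [heqn, hN] at h1
      refine mul_left_cancel₀ hD ?_
      linear_combination h1
    refine hγq.2 (w a) (hS a w hwp hwy) ?_
    rw [heqn, (hwT a ha).2]
    ring
  choose c hc using hconst
  have hval : ∀ (γ : R →ₐ[k] k), P ≤ RingHom.ker γ.toRingHom → ∀ w : M.A →ₐ[k] k,
      (∀ a ∈ T, z (π γ (D a)) ≠ 0 ∧ z (π γ (N a)) = z (π γ (D a)) * w a) → ∀ a (ha : a ∈ T), w a = c a ha := by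
    intro γ hγ w hw a ha
    obtain ⟨hD, hN⟩ := hw a ha
    have h1 : γ (eqn a (c a ha)) = 0 := hγ (hc a ha)
    rw [heqn, hN] at h1
    refine mul_left_cancel₀ hD ?_
    linear_combination h1
  obtain ⟨w₀, -, hg₀, hm₀, hm₀', hT₀⟩ := hreg γ₀ z hz hF₀
  refine ⟨F, z, w₀, P, fun γ hγ => ?_, inferInstance, hPmax, ⟨γ₀, hPle, hF₀⟩, fun γ hγP hγ => ?_⟩
  · obtain ⟨w, -, hw, -⟩ := hreg γ z hz hγ
    exact ⟨w, hw⟩
  · obtain ⟨w, -, hw, hm, hm', hwT⟩ := hreg γ z hz hγ
    have hww : w = w₀ := AlgHom.ext_of_adjoin_eq_top hT fun a ha =>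
      (hval γ hγP w hwT a ha).trans (hval γ₀ hPle w₀ hT₀ a ha).symm
    subst hww
    exact ⟨hw, hm, hm'⟩

end Datum

end Groth.L08.Chev
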