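import Groth.Agent.L08.Chev.Core
import Groth.Agent.S11398
import Groth.Agent.S7983

/-!
# Chevalley's theorem over an algebraically closed field
-/

set_option autoImplicit false
set_option backward.isDefEq.respectTransparency.types false
set_option linter.style.haveILetI false
set_option linter.unusedSectionVars false

universe u

open CategoryTheory CategoryTheory.Limits MonoidalCategory CartesianMonoidalCategory MonObj GrpObj AlgebraicGeometry

noncomputable section

namespace Groth.L08.Chev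

variable {k : Type u} [Field k]

theorem isKernel_congr {N N' G Q : Over (Spec (CommRingCat.of k))} [GrpObj Q] {i : N ⟶ G} {i' : N' ⟶ G}
    [Mono i'] (f : N ⟶ N') (g : N' ⟶ N) (hf : f ≫ i' = i) (hg : g ≫ i = i') {q : G ⟶ Q}
    (h : AlgGrp.IsKernel i q) : AlgGrp.IsKernel i' q :=
  IsPullback.mk'
    (by rw [← hg, Category.assoc, h.w, ← Category.assoc, toUnit_unique (g ≫ toUnit N) (toUnit N')])
    (fun _ _ _ e _ => (cancel_mono i').1 e)
    (fun _ a b e => by
      obtain ⟨l, h1, -⟩ := h.exists_lift a b e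
      exact ⟨l ≫ f, by rw [Category.assoc, hf, h1], toUnit_unique _ _⟩)

/-- normalised morphisms to abelian varieties are homomorphisms -/
theorem isMonHom_of_unit {G B : Over (Spec (CommRingCat.of k))} [GrpObj G] [GrpObj B] [Smooth G.hom]
    [QuasiCompact G.hom] [ConnectedSpace G.left] [IsProper B.hom] [Smooth B.hom] [ConnectedSpace B.left]
    (f : G ⟶ B) (h : η[G] ≫ f = η[B]) : IsMonHom f := by
  haveI := Groth.L08.Albanese.geometricallyIntegral_of_smooth G
  haveI := Groth.L08.Albanese.geometricallyIntegral_of_smooth B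
  haveI : IsSeparated G.hom := Groth.Agent.AV.isSeparated_of_grpObj G
  haveI : IsCommMonObj B := isCommMonObj_of_isProper_of_geometricallyIntegral B
  have h1 : (1 : G ⟶ G) ≫ f = 1 := by
    rw [Hom.one_def, Category.assoc, h, ← Hom.one_def]
  let d : G ⊗ G ⟶ B := ((fst G G * snd G G) ≫ f) * ((fst G G ≫ f) * (snd G G ≫ f))⁻¹
  have hd : d = 1 := by
    refine Groth.L26.Weil.eq_one_of_axes d η[G] η[G] ?_ ?_
    · simp only [d, MonObj.comp_mul, GrpObj.comp_inv, ← Category.assoc, lift_fst, lift_snd]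
      rw [← Hom.one_def, h1]
      simp
    · simp only [d, MonObj.comp_mul, GrpObj.comp_inv, ← Category.assoc, lift_fst, lift_snd]
      rw [← Hom.one_def, h1]
      simp
  refine ⟨h, ?_⟩
  rw [show μ[G] = fst G G * snd G G by rw [Hom.mul_def, lift_fst_snd, Category.id_comp],
    show (f ⊗ₘ f) ≫ μ[B] = (fst G G ≫ f) * (snd G G ≫ f) by rw [Hom.mul_def]; congr 1]
  exact mul_inv_eq_one.1 hd


/-- an affine smooth connected group maps trivially to proper groups -/
theorem hom_to_proper_eq_one {H B : Over (Spec (CommRingCat.of k))} [GrpObj H] [GrpObj B] [Smooth H.hom]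
    [ConnectedSpace H.left] [IsAffine H.left] [IsProper B.hom] (f : H ⟶ B) [IsMonHom f] : f = 1 := by
  haveI : QuasiCompact H.hom := inferInstance
  obtain ⟨C, gC, p, i, _, _, hpi, _, _, _, _⟩ := Groth.L08.AbelianGrp.exists_image f
  haveI : IsProper C.hom := by rw [← Over.w i]; infer_instance
  obtain ⟨h1, h2, h3⟩ := Groth.Agent.S7983.result k H C p
  haveI := h1 ‹_›
  haveI := h2 ‹_›
  haveI := h3 ‹_›
  haveI : IsAffineHom C.hom := inferInstance
  haveI : IsFinite C.hom := IsFinite.iff_isProper_and_isAffineHom.2 ⟨‹_›, ‹_›⟩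
  haveI := trivial_of_finite C
  haveI : Mono (toUnit C) := by
    haveI : Mono (toUnit C).left := by
      rw [show (toUnit C).left = C.hom from (Category.comp_id _).symm.trans (Over.w (toUnit C))]; infer_instance
    exact Over.mono_of_mono_left _
  have hp : p = 1 := by rw [← cancel_mono (toUnit C)]; exact toUnit_unique _ _
  rw [← hpi, hp, MonObj.one_comp]

variable [IsAlgClosed k]

variable {G : Over (Spec (CommRingCat.of k))} [GrpObj G] [Smooth G.hom] [QuasiCompact G.hom] [ConnectedSpace G.left]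

/-- a quotient by the largest affine part is proper -/
theorem isProper_of_kernel_gaff {N : Over (Spec (CommRingCat.of k))} [GrpObj N] (i : N ⟶ G) [IsMonHom i]
    [IsClosedImmersion i.left] [Smooth N.hom] [ConnectedSpace N.left] [IsAffine N.left]
    (hN : AlgGrp.IsNormalHom i)
    (hNmax : ∀ (N' : Over (Spec (CommRingCat.of k))) [GrpObj N'] (i' : N' ⟶ G) [IsMonHom i'] [IsClosedImmersion i'.left]
      [Smooth N'.hom] [ConnectedSpace N'.left] [IsAffine N'.left], AlgGrp.IsNormalHom i' → ∃ f : N' ⟶ N, f ≫ i = i')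
    {Q : Over (Spec (CommRingCat.of k))} [GrpObj Q] [Smooth Q.hom] [QuasiCompact Q.hom] [ConnectedSpace Q.left]
    (q : G ⟶ Q) [IsMonHom q] [Surjective q.left] [Flat q.left] (hker : AlgGrp.IsKernel i q) : IsProper Q.hom := by
  have hlft : LocallyOfFiniteType Q.hom := inferInstance
  haveI : Mono i := Over.mono_of_mono_left i
  refine isProper_of_noAff ?_
  obtain ⟨N₁, gN₁, i₁, ⟨_, _, _, _, _, hn₁⟩, hmax₁, hquot⟩ := Groth.Agent.S11398.result k G
  obtain ⟨f, hf⟩ := hNmax N₁ i₁ hn₁
  obtain ⟨g, hg⟩ := hmax₁ N i hN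
  haveI : Mono i₁ := Over.mono_of_mono_left i₁
  have hker₁ := isKernel_congr g f hg hf hker
  intro N'' _ i'' _ _ _ _ _ hn''
  haveI : LocallyOfFiniteType Q.hom := inferInstanceAs (LocallyOfFiniteType Q.hom)
  exact hquot Q q hker₁ N'' i'' hn''

/-- the quotient by the largest affine part is an abelian variety -/
theorem exists_quotient_av {N : Over (Spec (CommRingCat.of k))} [GrpObj N] (i : N ⟶ G) [IsMonHom i]
    [IsClosedImmersion i.left] [Smooth N.hom] [ConnectedSpace N.left] [IsAffine N.left]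
    (hN : AlgGrp.IsNormalHom i)
    (hNmax : ∀ (N' : Over (Spec (CommRingCat.of k))) [GrpObj N'] (i' : N' ⟶ G) [IsMonHom i'] [IsClosedImmersion i'.left]
      [Smooth N'.hom] [ConnectedSpace N'.left] [IsAffine N'.left], AlgGrp.IsNormalHom i' → ∃ f : N' ⟶ N, f ≫ i = i') :
    ∃ (Q : Over (Spec (CommRingCat.of k))) (_ : GrpObj Q) (q : G ⟶ Q), IsMonHom q ∧ Surjective q.left ∧ Flat q.left ∧
      LocallyOfFinitePresentation q.left ∧ AlgGrp.IsKernel i q ∧ IsProper Q.hom ∧ Smooth Q.hom ∧
      ConnectedSpace Q.left := by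
  haveI : Mono i := Over.mono_of_mono_left i
  haveI : LocallyOfFiniteType N.hom := by rw [← Over.w i]; infer_instance
  obtain ⟨Y, p₀, _, _, _, sqp⟩ := GQuot.exists_quotient_field i
  obtain ⟨Q, q, _, _, _, sqq, hlft, -, hqc, hsm, -⟩ := GQuot.exists_struct p₀ sqp
  obtain ⟨gQ, _, hker⟩ := GQuot.exists_grp hN q sqq
  haveI := hlft inferInstance
  haveI := hqc inferInstance
  haveI := hsm inferInstance
  haveI : ConnectedSpace Q.left := q.left.surjective.connectedSpace q.left.continuous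
  exact ⟨Q, gQ, q, ‹_›, ‹_›, ‹_›, ‹_›, hker, isProper_of_kernel_gaff i hN hNmax q hker, ‹_›, ‹_›⟩

variable (G) in
/-- **Chevalley's theorem over an algebraically closed field.** -/
theorem exists_chevalley :
    ∃ (N : Over (Spec (CommRingCat.of k))) (_ : GrpObj N) (i : N ⟶ G) (Q : Over (Spec (CommRingCat.of k))) (_ : GrpObj Q)
      (q : G ⟶ Q), IsMonHom i ∧ IsClosedImmersion i.left ∧ Smooth N.hom ∧ ConnectedSpace N.left ∧ IsAffine N.left ∧
      AlgGrp.IsNormalHom i ∧ IsMonHom q ∧ Surjective q.left ∧ Flat q.left ∧ LocallyOfFinitePresentation q.left ∧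
      AlgGrp.IsKernel i q ∧ IsProper Q.hom ∧ Smooth Q.hom ∧ ConnectedSpace Q.left := by
  obtain ⟨N, gN, i, ⟨_, _, _, _, _, hn⟩, hmax, -⟩ := Groth.Agent.S11398.result k G
  obtain ⟨Q, gQ, q, h1, h2, h3, h4, h5, h6, h7, h8⟩ := exists_quotient_av i hn hmax
  exact ⟨N, gN, i, Q, gQ, q, ‹_›, ‹_›, ‹_›, ‹_›, ‹_›, hn, h1, h2, h3, h4, h5, h6, h7, h8⟩

/-- **The largest affine part contains every affine smooth connected group mapping to `G`.** -/
theorem exists_factor_affine {N : Over (Spec (CommRingCat.of k))} [GrpObj N] (i : N ⟶ G) [IsMonHom i]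
    [IsClosedImmersion i.left] [Smooth N.hom] [ConnectedSpace N.left] [IsAffine N.left]
    (hN : AlgGrp.IsNormalHom i)
    (hNmax : ∀ (N' : Over (Spec (CommRingCat.of k))) [GrpObj N'] (i' : N' ⟶ G) [IsMonHom i'] [IsClosedImmersion i'.left]
      [Smooth N'.hom] [ConnectedSpace N'.left] [IsAffine N'.left], AlgGrp.IsNormalHom i' → ∃ f : N' ⟶ N, f ≫ i = i')
    {H : Over (Spec (CommRingCat.of k))} [GrpObj H] (h : H ⟶ G) [IsMonHom h] [Smooth H.hom] [ConnectedSpace H.left]
    [IsAffine H.left] : ∃ f : H ⟶ N, f ≫ i = h := by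
  obtain ⟨Q, gQ, q, _, _, _, _, hker, _, _, _⟩ := exists_quotient_av i hN hNmax
  obtain ⟨f, hf, -⟩ := hker.exists_lift h (toUnit H) (by rw [hom_to_proper_eq_one (h ≫ q), Hom.one_def])
  exact ⟨f, hf⟩

/-- **The quotient by the affine part is the Albanese morphism.** -/
theorem existsUnique_albanese {N A B : Over (Spec (CommRingCat.of k))} [GrpObj N] [GrpObj A] [GrpObj B]
    (i : N ⟶ G) [IsMonHom i] [Smooth N.hom] [ConnectedSpace N.left] [IsAffine N.left] [IsProper A.hom]
    (α : G ⟶ A) [IsMonHom α] [Surjective α.left] [Flat α.left] (hker : AlgGrp.IsKernel i α)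
    [IsProper B.hom] [Smooth B.hom] [ConnectedSpace B.left] (f : G ⟶ B) : ∃! g : A ⟶ B, α ≫ g = f := by
  haveI : QuasiCompact α.left := by
    haveI : QuasiCompact (α.left ≫ A.hom) := by rw [Over.w]; infer_instance
    exact .of_comp α.left A.hom
  haveI : Epi α := (Over.forget _).epi_of_epi_map (inferInstanceAs (Epi α.left))
  let c : 𝟙_ _ ⟶ B := η[G] ≫ f
  let f' : G ⟶ B := f * (toUnit G ≫ c)⁻¹
  have hf' : η[G] ≫ f' = η[B] := by
    simp only [f', MonObj.comp_mul, GrpObj.comp_inv, ← Category.assoc,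
      toUnit_unique (η[G] ≫ toUnit G) (𝟙 _), Category.id_comp]
    show c * c⁻¹ = _
    rw [mul_inv_cancel, Hom.one_def, toUnit_unique (toUnit (𝟙_ _)) (𝟙 _), Category.id_comp]
  haveI := isMonHom_of_unit f' hf'
  have hi : i ≫ f' = 1 := hom_to_proper_eq_one (i ≫ f')
  obtain ⟨g', hg', -⟩ := Groth.L25.Actions.existsUnique_desc α f' fun T g₁ g₂ e => by
    obtain ⟨z, hz, -⟩ := hker.exists_lift (g₁ * g₂⁻¹) (toUnit T) (by
      rw [MonObj.mul_comp, GrpObj.inv_comp, e, mul_inv_cancel, Hom.one_def])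
    rw [show g₁ = (z ≫ i) * g₂ by rw [hz, inv_mul_cancel_right], MonObj.mul_comp, Category.assoc, hi,
      MonObj.comp_one, _root_.one_mul]
  have hg : α ≫ (g' * (toUnit A ≫ c)) = f := by
    rw [MonObj.comp_mul, hg', ← Category.assoc, toUnit_unique (α ≫ toUnit A) (toUnit G)]
    exact inv_mul_cancel_right f _
  exact ⟨g' * (toUnit A ≫ c), hg, fun g e => by rw [← cancel_epi α, hg]; exact e⟩

end Groth.L08.Chev
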