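import Groth.Agent.L25.GeomIrred
import Mathlib.RingTheory.Valuation.LocalSubring
import Mathlib.RingTheory.Localization.FractionRing
import Mathlib.RingTheory.Localization.AtPrime.Basic
import Mathlib.LinearAlgebra.Basis.VectorSpace
import Mathlib.LinearAlgebra.TensorProduct.Basis
import Mathlib.RingTheory.Flat.Basic

/-!
# Gauss extensions of valuation rings along extensions of the constants
-/

set_option autoImplicit false
set_option backward.isDefEq.respectTransparency.types false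
set_option linter.style.haveILetI false

universe u

open TensorProduct

noncomputable section

namespace Groth.L08.Chev

variable {k E F₀ F : Type u} [Field k] [Field E] [Field F₀] [Field F] [Algebra k E] [Algebra k F₀] [Algebra k F]

/-- `V` extends `O` with residue field linearly disjoint from the new constants -/
structure Gauss (ε : E →ₐ[k] F) (ρ : F₀ →ₐ[k] F) (O : ValuationSubring F₀) (V : ValuationSubring F) : Prop where
  mem_ε : ∀ e, ε e ∈ V
  mem_ρ : ∀ a, a ∈ O → ρ a ∈ V
  lt_ρ : ∀ a, O.valuation a < 1 → V.valuation (ρ a) < 1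
  sum_unit : ∀ (n : ℕ) (c : Fin n → E) (a : Fin n → F₀), LinearIndependent k c → (∀ i, a i ∈ O) →
    (∃ i, ¬ O.valuation (a i) < 1) → ¬ V.valuation (∑ i, ε (c i) * ρ (a i)) < 1

/-- generation by the two subfields -/
def IsGen (ε : E →ₐ[k] F) (ρ : F₀ →ₐ[k] F) : Prop :=
  ∀ f : F, ∃ n d : E ⊗[k] F₀,
    Algebra.TensorProduct.lift ε ρ (fun _ _ => Commute.all _ _) d ≠ 0 ∧
    f * Algebra.TensorProduct.lift ε ρ (fun _ _ => Commute.all _ _) d =
      Algebra.TensorProduct.lift ε ρ (fun _ _ => Commute.all _ _) n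

/-- every element of a tensor product is a sum with independent left factors -/
theorem exists_indep_sum {M : Type u} [AddCommGroup M] [Module k M] (x : E ⊗[k] M) :
    ∃ (n : ℕ) (c : Fin n → E) (a : Fin n → M), LinearIndependent k c ∧ x = ∑ i, c i ⊗ₜ[k] a i := by
  classical
  let b := Module.Basis.ofVectorSpace k E
  let z := TensorProduct.equivFinsuppOfBasisLeft b x
  let e := z.support.equivFin
  refine ⟨z.support.card, fun i => b (e.symm i).1, fun i => z (e.symm i).1,
    b.linearIndependent.comp _ (Subtype.val_injective.comp e.symm.injective), ?_⟩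
  rw [e.symm.sum_comp (fun i : z.support => b i.1 ⊗ₜ[k] z i.1), Finset.sum_coe_sort z.support (fun i => b i ⊗ₜ[k] z i)]
  refine (((TensorProduct.equivFinsuppOfBasisLeft b).symm_apply_apply x).symm).trans ?_
  rw [TensorProduct.equivFinsuppOfBasisLeft_symm_apply]
  rfl

theorem eq_zero_of_sum_tmul {M : Type u} [AddCommGroup M] [Module k M] {n : ℕ} {c : Fin n → E}
    (hc : LinearIndependent k c) {m : Fin n → M} (h : ∑ i, c i ⊗ₜ[k] m i = 0) (i : Fin n) : m i = 0 := by
  classical
  let b := Module.Basis.extend hc.linearIndepOn_id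
  have hidx : ∀ l, ∃ s, b s = c l := fun l =>
    ⟨⟨c l, LinearIndepOn.subset_extend _ _ ⟨l, rfl⟩⟩, Module.Basis.extend_apply_self _ _⟩
  choose s hs using hidx
  have hsinj : Function.Injective s := fun l l' hll => hc.injective (by rw [← hs, ← hs, hll])
  have hz := congrArg (fun g => TensorProduct.equivFinsuppOfBasisLeft b g (s i)) h
  simp only [map_sum, map_zero, Finsupp.coe_finsetSum, Finset.sum_apply, Finsupp.coe_zero, Pi.zero_apply,
    TensorProduct.equivFinsuppOfBasisLeft_apply_tmul_apply] at hz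
  rw [Finset.sum_eq_single i (fun l _ hl => by
      rw [← hs l, b.repr_self, Finsupp.single_eq_of_ne (fun h' => hl (hsinj h'.symm)), zero_smul])
    (fun h' => absurd (Finset.mem_univ i) h'), ← hs i, b.repr_self, Finsupp.single_eq_same, one_smul] at hz
  exact hz

/-- clearing the largest coefficient -/
theorem exists_scale (O : ValuationSubring F₀) {n : ℕ} (a : Fin n → F₀) (h : ∃ i, a i ≠ 0) :
    ∃ j, a j ≠ 0 ∧ ∀ i, a i / a j ∈ O := by
  classical
  obtain ⟨i₀, hi₀⟩ := h
  haveI : Nonempty (Fin n) := ⟨i₀⟩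
  obtain ⟨j, hj⟩ := Finite.exists_max fun i => O.valuation (a i)
  have hj0 : a j ≠ 0 := fun h0 => hi₀ (by
    have := hj i₀
    rw [h0, map_zero, le_zero_iff, map_eq_zero] at this
    exact this)
  refine ⟨j, hj0, fun i => ?_⟩
  rw [← O.valuation_le_one_iff, map_div₀]
  exact div_le_one_of_le₀ (hj i) zero_le

variable {ε : E →ₐ[k] F} {ρ : F₀ →ₐ[k] F} {O : ValuationSubring F₀}

/-- decomposition of a nonzero element of the span -/
theorem exists_decomp (x : E ⊗[k] F₀)
    (hx : Algebra.TensorProduct.lift ε ρ (fun _ _ => Commute.all _ _) x ≠ 0) :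
    ∃ (r : F₀) (y : F), r ≠ 0 ∧ Algebra.TensorProduct.lift ε ρ (fun _ _ => Commute.all _ _) x = ρ r * y ∧
      ∀ V : ValuationSubring F, Gauss ε ρ O V → V.valuation y = 1 := by
  classical
  obtain ⟨n, c, a, hc, rfl⟩ := exists_indep_sum x
  have ha : ∃ i, a i ≠ 0 := by
    by_contra h
    push Not at h
    exact hx (by simp [h])
  obtain ⟨j, hj, hO⟩ := exists_scale O a ha
  refine ⟨a j, ∑ i, ε (c i) * ρ (a i / a j), hj, ?_, fun V hV => ?_⟩
  · rw [map_sum, Finset.mul_sum]
    refine Finset.sum_congr rfl fun i _ => ?_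
    rw [Algebra.TensorProduct.lift_tmul, map_div₀]
    field_simp [(map_ne_zero ρ).2 hj]
  · refine le_antisymm ((V.valuation_le_one_iff _).2 (sum_mem fun i _ =>
      V.mul_mem _ _ (hV.mem_ε _) (hV.mem_ρ _ (hO i)))) ?_
    refine not_lt.1 (hV.sum_unit n c _ hc hO ⟨j, ?_⟩)
    rw [div_self hj, map_one]
    exact lt_irrefl _

/-- every element is an element of the small field times a unit -/
theorem exists_repr (hgen : IsGen ε ρ) (f : F) :
    ∃ (r : F₀) (u : F), f = ρ r * u ∧ ∀ V : ValuationSubring F, Gauss ε ρ O V → V.valuation u = 1 := by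
  by_cases hf : f = 0
  · exact ⟨0, 1, by simp [hf], fun V _ => map_one _⟩
  obtain ⟨n, d, hd, he⟩ := hgen f
  have hn : Algebra.TensorProduct.lift ε ρ (fun _ _ => Commute.all _ _) n ≠ 0 := by
    rw [← he]; exact mul_ne_zero hf hd
  obtain ⟨r, y, hr, hry, hy⟩ := exists_decomp (O := O) n hn
  obtain ⟨r', y', hr', hry', hy'⟩ := exists_decomp (O := O) d hd
  rw [hry, hry'] at he
  have hy0 : y' ≠ 0 := fun h0 => hd (by rw [hry', h0, mul_zero])
  refine ⟨r / r', y / y', ?_, fun V hV => by rw [map_div₀, hy V hV, hy' V hV, div_one]⟩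
  have h1 : ρ r' ≠ 0 := (map_ne_zero ρ).2 hr'
  rw [map_div₀]
  field_simp
  linear_combination he

theorem Gauss.valuation_ρ {V : ValuationSubring F} (hV : Gauss ε ρ O V) {a : F₀} (ha : O.valuation a = 1) :
    V.valuation (ρ a) = 1 := by
  refine le_antisymm ((V.valuation_le_one_iff _).2 (hV.mem_ρ a ((O.valuation_le_one_iff _).1 ha.le))) ?_
  have ha' : a⁻¹ ∈ O := (O.valuation_le_one_iff _).1 (by rw [map_inv₀, ha, inv_one])
  have h := (V.valuation_le_one_iff _).2 (hV.mem_ρ _ ha')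
  have h0 : a ≠ 0 := fun h0 => by simp [h0] at ha
  rw [map_inv₀, map_inv₀, inv_le_one₀ (by simpa [zero_lt_iff] using h0)] at h
  exact h

theorem Gauss.comap_eq {V : ValuationSubring F} (hV : Gauss ε ρ O V) (r : F₀) : ρ r ∈ V ↔ r ∈ O := by
  refine ⟨fun h => ?_, hV.mem_ρ r⟩
  by_contra hr
  have h1 : O.valuation r⁻¹ < 1 := by
    rw [← not_le, ← map_one O.valuation] at *
    rw [map_one, map_inv₀, one_le_inv₀]
    · intro h2; exact hr ((O.valuation_le_one_iff _).1 h2)
    · rw [zero_lt_iff]; intro h0; exact hr (by rw [(map_eq_zero _).1 h0]; exact O.zero_mem)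
  have h2 := hV.lt_ρ _ h1
  rw [map_inv₀, map_inv₀, inv_lt_one₀] at h2
  · exact h2.not_ge ((V.valuation_le_one_iff _).2 h)
  · rw [zero_lt_iff]; intro h0
    exact hr (by rw [(map_eq_zero ρ).1 ((map_eq_zero _).1 h0)]; exact O.zero_mem)

theorem Gauss.mem_iff (hgen : IsGen ε ρ) {V : ValuationSubring F} (hV : Gauss ε ρ O V) (f : F) :
    ∃ (r : F₀) (u : F), f = ρ r * u ∧ V.valuation u = 1 ∧ (f ∈ V ↔ r ∈ O) := by
  obtain ⟨r, u, rfl, hu⟩ := exists_repr (O := O) hgen f
  refine ⟨r, u, rfl, hu V hV, ?_⟩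
  rw [← hV.comap_eq, ← V.valuation_le_one_iff, ← V.valuation_le_one_iff, map_mul, hu V hV, mul_one]

/-- **uniqueness** -/
theorem Gauss.unique (hgen : IsGen ε ρ) {V W : ValuationSubring F} (hV : Gauss ε ρ O V) (hW : Gauss ε ρ O W) :
    V = W := by
  refine SetLike.ext fun f => ?_
  obtain ⟨r, u, rfl, hu⟩ := exists_repr (O := O) hgen f
  rw [← V.valuation_le_one_iff, ← W.valuation_le_one_iff, map_mul, map_mul, hu V hV, hu W hW, mul_one, mul_one,
    V.valuation_le_one_iff, W.valuation_le_one_iff, hV.comap_eq, hW.comap_eq]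

/-- **existence** -/
theorem exists_gauss [IsAlgClosed k] (ε : E →ₐ[k] F) (ρ : F₀ →ₐ[k] F)
    (hinj : Function.Injective (Algebra.TensorProduct.lift ε ρ (fun _ _ => Commute.all _ _)))
    (O : ValuationSubring F₀) (hk : ∀ c : k, algebraMap k F₀ c ∈ O) :
    ∃ V : ValuationSubring F, Gauss ε ρ O V := by
  classical
  let S : Subalgebra k F₀ := { O.toSubring with algebraMap_mem' := hk }
  haveI : IsLocalRing S := O.isLocalRing
  letI : Field (S ⧸ IsLocalRing.maximalIdeal S) := Ideal.Quotient.field _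
  haveI : IsDomain (E ⊗[k] (S ⧸ IsLocalRing.maximalIdeal S)) := Groth.L25.GeomIrred.isDomain_tensorProduct
  let π : E ⊗[k] S →ₐ[k] E ⊗[k] (S ⧸ IsLocalRing.maximalIdeal S) :=
    Algebra.TensorProduct.map (AlgHom.id k E) (Ideal.Quotient.mkₐ k _)
  let η := RingHom.ker π
  haveI : η.IsPrime := RingHom.ker_isPrime π
  let j : E ⊗[k] S →ₐ[k] F :=
    (Algebra.TensorProduct.lift ε ρ (fun _ _ => Commute.all _ _)).comp
      (Algebra.TensorProduct.map (AlgHom.id k E) S.val)
  have hj : Function.Injective j := hinj.comp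
    (Module.Flat.lTensor_preserves_injective_linearMap (M := E) S.val.toLinearMap Subtype.val_injective)
  let f : Localization.AtPrime η →+* F := IsLocalization.lift (M := η.primeCompl) (g := (j : E ⊗[k] S →+* F))
    (fun y => isUnit_iff_ne_zero.2 fun h0 => y.2 (by
      have : (y : E ⊗[k] S) = 0 := hj (by rw [map_zero]; exact h0)
      rw [this]; exact η.zero_mem))
  obtain ⟨V, hV, hloc⟩ := IsLocalRing.exists_factor_valuationRing (R := Localization.AtPrime η) f
  have hmem : ∀ x, j x ∈ V := fun x => by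
    have := hV (algebraMap _ _ x)
    rwa [IsLocalization.lift_eq] at this
  have hunit : ∀ x, (V.valuation (j x) < 1 ↔ π x = 0) := by
    intro x
    have h1 : f (algebraMap _ _ x) = j x := IsLocalization.lift_eq _ x
    have h3 := IsLocalization.AtPrime.to_map_mem_maximal_iff (Localization.AtPrime η) η x
    rw [← h1, show (π x = 0) ↔ x ∈ η from (RingHom.mem_ker).symm, ← h3]
    rw [show f (algebraMap _ _ x) = ((f.codRestrict V.toSubring hV (algebraMap _ _ x) : V.toSubring) : F) from rfl]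
    refine (V.valuation_lt_one_iff (f.codRestrict V.toSubring hV (algebraMap _ _ x))).symm.trans ?_
    rw [IsLocalRing.mem_maximalIdeal, IsLocalRing.mem_maximalIdeal, mem_nonunits_iff, mem_nonunits_iff]
    exact not_congr ⟨fun h => hloc.map_nonunit _ h, fun h => h.map _⟩
  refine ⟨V, fun e => ?_, fun a ha => ?_, fun a ha => ?_, fun n c a hc ha hne => ?_⟩
  · simpa [j] using hmem (e ⊗ₜ 1)
  · simpa [j] using hmem (1 ⊗ₜ ⟨a, ha⟩)
  · have haO : a ∈ O := (O.valuation_le_one_iff _).1 ha.le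
    have h : π (1 ⊗ₜ (⟨a, haO⟩ : S)) = 0 := by
      have h0 : Ideal.Quotient.mk (IsLocalRing.maximalIdeal S) (⟨a, haO⟩ : S) = 0 :=
        Ideal.Quotient.eq_zero_iff_mem.2 ((O.valuation_lt_one_iff ⟨a, haO⟩).2 ha)
      simp [π, h0]
    simpa [j] using (hunit _).2 h
  · intro hlt
    have h := (hunit (∑ i, c i ⊗ₜ (⟨a i, ha i⟩ : S))).1 (by simpa [j] using hlt)
    obtain ⟨i, hi⟩ := hne
    simp only [π, map_sum, Algebra.TensorProduct.map_tmul] at h
    have hz := eq_zero_of_sum_tmul hc h i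
    rw [Ideal.Quotient.mkₐ_eq_mk, Ideal.Quotient.eq_zero_iff_mem] at hz
    exact hi ((O.valuation_lt_one_iff ⟨a i, ha i⟩).1 hz)


theorem valuation_comap_lt_one {F' : Type u} [Field F'] (θ : F →+* F') (W : ValuationSubring F') (x : F) :
    (W.comap θ).valuation x < 1 ↔ W.valuation (θ x) < 1 := by
  rw [← ValuationSubring.mem_nonunits_iff, ← ValuationSubring.mem_nonunits_iff,
    ValuationSubring.mem_nonunits_iff_or, ValuationSubring.mem_nonunits_iff_or, map_eq_zero,
    ValuationSubring.mem_comap, map_inv₀]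

/-- Gauss extensions pull back along maps compatible with both structure maps -/
theorem Gauss.comap {F' : Type u} [Field F'] [Algebra k F'] {ε' : E →ₐ[k] F'} {ρ' : F₀ →ₐ[k] F'}
    {W : ValuationSubring F'} (hW : Gauss ε' ρ' O W) (θ : F →ₐ[k] F') (hε : θ.comp ε = ε') (hρ : θ.comp ρ = ρ') :
    Gauss ε ρ O (W.comap θ.toRingHom) := by
  subst hε hρ
  refine ⟨fun e => hW.mem_ε e, fun a ha => hW.mem_ρ a ha, fun a ha => ?_, fun n c a hc ha hne => ?_⟩
  · rw [valuation_comap_lt_one]
    exact hW.lt_ρ a ha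
  · rw [valuation_comap_lt_one, map_sum]
    simp only [map_mul]
    exact hW.sum_unit n c a hc ha hne

/-- automorphisms preserving the two structures preserve the extension -/
theorem Gauss.comap_eq_self (hgen : IsGen ε ρ) {V : ValuationSubring F} (hV : Gauss ε ρ O V) (θ : F →ₐ[k] F)
    (σ : E →ₐ[k] E) (hσ : Function.Injective σ) (hε : θ.comp ε = ε.comp σ) (hρ : θ.comp ρ = ρ) :
    V.comap θ.toRingHom = V := by
  refine Gauss.unique hgen ⟨fun e => ?_, fun a ha => ?_, fun a ha => ?_, fun n c a hc ha hne => ?_⟩ hV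
  · show θ (ε e) ∈ V
    rw [show θ (ε e) = ε (σ e) from DFunLike.congr_fun hε e]
    exact hV.mem_ε _
  · show θ (ρ a) ∈ V
    rw [show θ (ρ a) = ρ a from DFunLike.congr_fun hρ a]
    exact hV.mem_ρ a ha
  · rw [valuation_comap_lt_one]
    show V.valuation (θ (ρ a)) < 1
    rw [show θ (ρ a) = ρ a from DFunLike.congr_fun hρ a]
    exact hV.lt_ρ a ha
  · rw [valuation_comap_lt_one, map_sum]
    have h1 : ∀ i, θ.toRingHom (ε (c i) * ρ (a i)) = ε (σ (c i)) * ρ (a i) := fun i => by
      show θ (ε (c i) * ρ (a i)) = _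
      rw [map_mul, show θ (ε (c i)) = ε (σ (c i)) from DFunLike.congr_fun hε (c i),
        show θ (ρ (a i)) = ρ (a i) from DFunLike.congr_fun hρ (a i)]
    rw [Finset.sum_congr rfl fun i _ => h1 i]
    exact hV.sum_unit n (σ ∘ c) a (hc.map' σ.toLinearMap (LinearMap.ker_eq_bot.2 hσ)) ha hne

/-- restriction along a smaller field -/
theorem Gauss.restrict {F₁ : Type u} [Field F₁] [Algebra k F₁] {V : ValuationSubring F} (hV : Gauss ε ρ O V)
    (δ : F₁ →ₐ[k] F₀) : Gauss ε (ρ.comp δ) (O.comap δ.toRingHom) V :=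
  ⟨hV.mem_ε, fun a ha => hV.mem_ρ (δ a) ha,
    fun a ha => hV.lt_ρ (δ a) ((valuation_comap_lt_one δ.toRingHom O a).1 ha),
    fun n c a hc ha hne => hV.sum_unit n c (δ ∘ a) hc ha
      (hne.imp fun i hi h => hi ((valuation_comap_lt_one δ.toRingHom O (a i)).2 h))⟩

section Tower

variable {E₀ E₂ F₂ : Type u} [Field E₀] [Field E₂] [Field F₂] [Algebra k E₀] [Algebra k E₂] [Algebra k F₂]

/-- new constants commute with an intermediate Gauss extension -/
theorem Gauss.tower (hgen : IsGen ε ρ) {V : ValuationSubring F} (hV : Gauss ε ρ O V)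
    {ε₂ : E₂ →ₐ[k] F₂} {ρ₂ : F₀ →ₐ[k] F₂} {W : ValuationSubring F₂} (hW : Gauss ε₂ ρ₂ O W)
    (σ : F →ₐ[k] F₂) (i₁ : E →ₐ[k] E₂) (i₀ : E₀ →ₐ[k] E₂)
    (hdis : Function.Injective (Algebra.TensorProduct.lift i₀ i₁ (fun _ _ => Commute.all _ _)))
    (hσε : σ.comp ε = ε₂.comp i₁) (hσρ : σ.comp ρ = ρ₂) :
    Gauss (ε₂.comp i₀) σ V W := by
  classical
  have hpull : V = W.comap σ.toRingHom := by
    refine Gauss.unique hgen hV ⟨fun e => ?_, fun a ha => ?_, fun a ha => ?_, fun n c a hc ha hne => ?_⟩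
    · show σ (ε e) ∈ W
      rw [show σ (ε e) = ε₂ (i₁ e) from DFunLike.congr_fun hσε e]
      exact hW.mem_ε _
    · show σ (ρ a) ∈ W
      rw [show σ (ρ a) = ρ₂ a from DFunLike.congr_fun hσρ a]
      exact hW.mem_ρ a ha
    · rw [valuation_comap_lt_one]
      show W.valuation (σ (ρ a)) < 1
      rw [show σ (ρ a) = ρ₂ a from DFunLike.congr_fun hσρ a]
      exact hW.lt_ρ a ha
    · rw [valuation_comap_lt_one, map_sum]
      have h1 : ∀ i, σ.toRingHom (ε (c i) * ρ (a i)) = ε₂ (i₁ (c i)) * ρ₂ (a i) := fun i => by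
        show σ (ε (c i) * ρ (a i)) = _
        rw [map_mul, show σ (ε (c i)) = ε₂ (i₁ (c i)) from DFunLike.congr_fun hσε (c i),
          show σ (ρ (a i)) = ρ₂ (a i) from DFunLike.congr_fun hσρ (a i)]
      rw [Finset.sum_congr rfl fun i _ => h1 i]
      exact hW.sum_unit n (i₁ ∘ c) a (hc.map' i₁.toLinearMap (LinearMap.ker_eq_bot.2 i₁.toRingHom.injective))
        ha hne
  refine ⟨fun e => hW.mem_ε _, fun b hb => by rw [hpull] at hb; exact hb, fun b hb => ?_,
    fun n c b hc hb hne => ?_⟩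
  · rw [hpull, valuation_comap_lt_one] at hb
    exact hb
  obtain ⟨i, hi⟩ := hne
  have hrep : ∀ l, ∃ nn dd : E ⊗[k] F₀, (Algebra.TensorProduct.lift ε ρ (fun _ _ => Commute.all _ _) dd) ≠ 0 ∧
      b l * Algebra.TensorProduct.lift ε ρ (fun _ _ => Commute.all _ _) dd =
        Algebra.TensorProduct.lift ε ρ (fun _ _ => Commute.all _ _) nn := fun l => hgen (b l)
  choose nn dd hdd he using hrep
  let lft := Algebra.TensorProduct.lift ε ρ (fun _ _ => Commute.all _ _)
  let d : E ⊗[k] F₀ := ∏ l, dd l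
  have hd : lft d ≠ 0 := by rw [map_prod]; exact Finset.prod_ne_zero_iff.2 fun l _ => hdd l
  obtain ⟨r, y, hr, hdy, hy⟩ := exists_decomp (O := O) d hd
  have hρr : ρ r ≠ 0 := (map_ne_zero ρ).2 hr
  have hz : ∀ l, ∃ z : E ⊗[k] F₀, lft z = b l * y := fun l => by
    refine ⟨(1 : E) ⊗ₜ r⁻¹ * (nn l * ∏ m ∈ Finset.univ.erase l, dd m), ?_⟩
    have hdy' : lft d = ρ r * y := hdy
    rw [show d = dd l * ∏ m ∈ Finset.univ.erase l, dd m from
      (Finset.mul_prod_erase _ _ (Finset.mem_univ l)).symm, map_mul] at hdy'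
    rw [map_mul, map_mul, Algebra.TensorProduct.lift_tmul, map_one, one_mul, map_inv₀,
      show lft (nn l) = b l * lft (dd l) from (he l).symm, mul_assoc, hdy']
    field_simp
  choose z hz using hz
  let be := Module.Basis.ofVectorSpace k E
  let q : Fin n → (Module.Basis.ofVectorSpaceIndex k E →₀ F₀) := fun l =>
    TensorProduct.equivFinsuppOfBasisLeft be (z l)
  let J : Finset (Module.Basis.ofVectorSpaceIndex k E) := Finset.univ.biUnion fun l => (q l).support
  have hzq : ∀ l, lft (z l) = ∑ m ∈ J, ε (be m) * ρ (q l m) := fun l => by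
    conv_lhs => rw [← (TensorProduct.equivFinsuppOfBasisLeft be).symm_apply_apply (z l)]
    rw [TensorProduct.equivFinsuppOfBasisLeft_symm_apply]
    show lft ((q l).sum fun m x => be m ⊗ₜ x) = _
    rw [Finsupp.sum_of_support_subset (q l) (s := J)
      (fun m hm => Finset.mem_biUnion.2 ⟨l, Finset.mem_univ l, hm⟩) _ (fun m _ => tmul_zero _ _), map_sum]
    exact Finset.sum_congr rfl fun m _ => Algebra.TensorProduct.lift_tmul _ _ _ _ _
  -- the coefficients lie in the ring and one of them is a unit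
  have hy1 : V.valuation y = 1 := hy V hV
  have hbound : ∀ l, ∀ m ∈ J, q l m ∈ O := by
    intro l m hm
    by_cases h0 : ∀ m ∈ J, q l m = 0
    · rw [h0 m hm]; exact O.zero_mem
    push Not at h0
    obtain ⟨m₀, hm₀, hm₀'⟩ := h0
    obtain ⟨j, hj0, hj⟩ := exists_scale O (fun s => q l (J.equivFin.symm s).1) ⟨J.equivFin ⟨m₀, hm₀⟩, by simpa⟩
    let qj := q l (J.equivFin.symm j).1
    suffices hjO : qj ∈ O by
      have := O.mul_mem _ _ (hj (J.equivFin ⟨m, hm⟩)) hjO
      simp only [Equiv.symm_apply_apply, qj] at this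
      rwa [div_mul_cancel₀ _ hj0] at this
    by_contra hjO
    have hw := hV.sum_unit _ (fun s => be (J.equivFin.symm s).1)
      (fun s => q l (J.equivFin.symm s).1 / qj)
      (be.linearIndependent.comp _ (Subtype.val_injective.comp J.equivFin.symm.injective)) hj
      ⟨j, by rw [div_self hj0, map_one]; exact lt_irrefl _⟩
    apply hw
    have hsum : ∑ s, ε (be (J.equivFin.symm s).1) * ρ (q l (J.equivFin.symm s).1 / qj) = lft (z l) * (ρ qj)⁻¹ := by
      rw [hzq, Finset.sum_mul, J.equivFin.symm.sum_comp (fun s : J => ε (be s.1) * ρ (q l s.1 / qj)),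
        Finset.sum_coe_sort J (fun s => ε (be s) * ρ (q l s / qj))]
      refine Finset.sum_congr rfl fun m _ => ?_
      rw [map_div₀, div_eq_mul_inv, mul_assoc]
    rw [hsum, hz, map_mul, map_mul, hy1, mul_one]
    refine lt_of_le_of_lt (mul_le_of_le_one_left zero_le ((V.valuation_le_one_iff _).2 (hb l))) ?_
    rw [← map_inv₀ ρ]
    refine hV.lt_ρ _ ?_
    rw [← ValuationSubring.mem_nonunits_iff, ValuationSubring.inv_mem_nonunits_iff]
    exact Or.inr hjO
  obtain ⟨m₁, hm₁, hm₁'⟩ : ∃ m ∈ J, ¬ O.valuation (q i m) < 1 := by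
    by_contra hall
    push Not at hall
    apply hi
    have h1 : V.valuation (lft (z i)) < 1 := by
      rw [hzq]
      refine Valuation.map_sum_lt _ one_ne_zero fun m hm => ?_
      rw [map_mul]
      exact lt_of_le_of_lt (mul_le_of_le_one_left zero_le ((V.valuation_le_one_iff _).2 (hV.mem_ε _)))
        (hV.lt_ρ _ (hall m hm))
    rwa [hz, map_mul, hy1, mul_one] at h1
  -- expand the sum
  intro hlt
  have hσy : W.valuation (σ y) = 1 := by
    have h1 : ¬ V.valuation y < 1 := by rw [hy1]; exact lt_irrefl _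
    rw [hpull, valuation_comap_lt_one] at h1
    refine le_antisymm ((W.valuation_le_one_iff _).2 ?_) (not_lt.1 h1)
    have h2 : y ∈ V := (V.valuation_le_one_iff _).1 hy1.le
    rw [hpull] at h2
    exact h2
  let e := (finProdFinEquiv (m := n) (n := J.card)).symm
  have hcoef : LinearIndependent k (fun s => i₀ (c (e s).1) * i₁ (be (J.equivFin.symm (e s).2).1)) := by
    have h1 := (LinearIndependent.tmul_of_flat_left hc
      (be.linearIndependent.comp _ (Subtype.val_injective.comp J.equivFin.symm.injective))).map'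
      (Algebra.TensorProduct.lift i₀ i₁ (fun _ _ => Commute.all _ _)).toLinearMap (LinearMap.ker_eq_bot.2 hdis)
    refine (linearIndependent_equiv' e ?_).2 h1
    funext s
    exact Algebra.TensorProduct.lift_tmul i₀ i₁ (fun _ _ => Commute.all _ _) _ _
  have hfin := hW.sum_unit _ _ (fun s => q (e s).1 (J.equivFin.symm (e s).2).1) hcoef
    (fun s => hbound _ _ (J.equivFin.symm (e s).2).2)
    ⟨e.symm (i, J.equivFin ⟨m₁, hm₁⟩), by simpa using hm₁'⟩
  apply hfin
  rw [e.sum_comp (fun s : Fin n × Fin J.card => ε₂ (i₀ (c s.1) * i₁ (be (J.equivFin.symm s.2).1)) *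
    ρ₂ (q s.1 (J.equivFin.symm s.2).1)), Fintype.sum_prod_type]
  have hexp : ∀ l, (∑ s : Fin J.card, ε₂ (i₀ (c l) * i₁ (be (J.equivFin.symm s).1)) *
      ρ₂ (q l (J.equivFin.symm s).1)) = ε₂ (i₀ (c l)) * σ (b l) * σ y := by
    intro l
    rw [mul_assoc, ← map_mul σ, ← hz l, hzq l, map_sum, Finset.mul_sum,
      J.equivFin.symm.sum_comp (fun s : J => ε₂ (i₀ (c l) * i₁ (be s.1)) * ρ₂ (q l s.1)),
      Finset.sum_coe_sort J (fun s => ε₂ (i₀ (c l) * i₁ (be s)) * ρ₂ (q l s))]
    refine Finset.sum_congr rfl fun m _ => ?_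
    rw [map_mul σ, map_mul ε₂, show σ (ε (be m)) = ε₂ (i₁ (be m)) from DFunLike.congr_fun hσε (be m),
      show σ (ρ (q l m)) = ρ₂ (q l m) from DFunLike.congr_fun hσρ (q l m), mul_assoc]
  rw [Finset.sum_congr rfl fun l _ => hexp l, ← Finset.sum_mul, map_mul, hσy, mul_one]
  exact hlt

end Tower

end Groth.L08.Chev
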