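import Mathlib.AlgebraicGeometry.FunctionField
import Mathlib.AlgebraicGeometry.Stalk
import Mathlib.AlgebraicGeometry.Morphisms.Preimmersion
import Mathlib.CategoryTheory.Monoidal.Cartesian.Over
import Mathlib.CategoryTheory.Monoidal.Cartesian.Grp
import Mathlib.AlgebraicGeometry.Group.Affine

/-!
# Points with values in fields and local rings, and embeddings of the function field
-/

set_option autoImplicit false
set_option backward.isDefEq.respectTransparency.types false
set_option linter.style.haveILetI false

universe u

open CategoryTheory CategoryTheory.Limits AlgebraicGeometry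

noncomputable section

namespace Groth.L08.Chev

variable {k : Type u} [Field k]

/-- the spectrum of an algebra over `k` -/
abbrev SP (k : Type u) [Field k] (R : Type u) [CommRing R] [Algebra k R] : Over (Spec (CommRingCat.of k)) :=
  Over.mk (Spec.map (CommRingCat.ofHom (algebraMap k R)))

variable {R R' R'' : Type u} [CommRing R] [Algebra k R] [CommRing R'] [Algebra k R'] [CommRing R''] [Algebra k R'']

/-- the morphism of an algebra map -/
def spA (φ : R →ₐ[k] R') : SP k R' ⟶ SP k R :=
  Over.homMk (Spec.map (CommRingCat.ofHom φ.toRingHom)) (by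
    show Spec.map _ ≫ Spec.map _ = Spec.map _
    rw [← Spec.map_comp, ← CommRingCat.ofHom_comp, show φ.toRingHom.comp (algebraMap k R) = algebraMap k R' from φ.comp_algebraMap])

@[simp] theorem spA_left (φ : R →ₐ[k] R') : (spA φ).left = Spec.map (CommRingCat.ofHom φ.toRingHom) := rfl

theorem spA_comp (φ : R →ₐ[k] R') (ψ : R' →ₐ[k] R'') : spA (ψ.comp φ) = spA ψ ≫ spA φ := by
  refine Over.OverMorphism.ext ?_
  show Spec.map _ = Spec.map _ ≫ Spec.map _
  rw [← Spec.map_comp]
  rfl

theorem spA_id : spA (AlgHom.id k R) = 𝟙 (SP k R) := by
  refine Over.OverMorphism.ext ?_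
  show Spec.map (CommRingCat.ofHom (RingHom.id R)) = 𝟙 _
  exact Spec.map_id _

theorem closedPoint_spA [IsLocalRing R] [IsLocalRing R'] (φ : R →ₐ[k] R') [IsLocalHom φ.toRingHom] :
    (spA φ).left (IsLocalRing.closedPoint R') = IsLocalRing.closedPoint R :=
  IsLocalRing.comap_closedPoint φ.toRingHom

section Scheme

variable (G : Over (Spec (CommRingCat.of k))) (x : G.left)

/-- the local ring at a point, as an algebra over `k` -/
def St : Type u := G.left.presheaf.stalk x

instance : CommRing (St G x) := inferInstanceAs (CommRing (G.left.presheaf.stalk x))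
instance : IsLocalRing (St G x) := inferInstanceAs (IsLocalRing (G.left.presheaf.stalk x))
instance [IsIntegral G.left] : IsDomain (St G x) := inferInstanceAs (IsDomain (G.left.presheaf.stalk x))

/-- the canonical morphism of the local scheme -/
def fss : Spec (CommRingCat.of (St G x)) ⟶ G.left := G.left.fromSpecStalk x

instance : IsPreimmersion (fss G x) := inferInstanceAs (IsPreimmersion (G.left.fromSpecStalk x))

instance : Algebra k (St G x) := (Spec.preimage (fss G x ≫ G.hom)).hom.toAlgebra

theorem map_algebraMap_St : Spec.map (CommRingCat.ofHom (algebraMap k (St G x))) = fss G x ≫ G.hom :=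
  Spec.map_preimage _

/-- the tautological point at `x` -/
def ptSt : SP k (St G x) ⟶ G := Over.homMk (fss G x) (map_algebraMap_St G x).symm

theorem ptSt_closedPoint : (ptSt G x).left (IsLocalRing.closedPoint (St G x)) = x :=
  G.left.fromSpecStalk_closedPoint

variable {G x}

/-- maps out of the local ring are determined by the point they give -/
theorem hom_ext_St {D : Type u} [CommRing D] [Algebra k D] {e e' : St G x →ₐ[k] D}
    (h : spA e ≫ ptSt G x = spA e' ≫ ptSt G x) : e = e' := by
  have h1 : Spec.map (CommRingCat.ofHom e.toRingHom) ≫ fss G x =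
      Spec.map (CommRingCat.ofHom e'.toRingHom) ≫ fss G x := congrArg (fun m => m.left) h
  rw [cancel_mono] at h1
  have h2 := Spec.map_injective h1
  exact AlgHom.ext fun a => ConcreteCategory.congr_hom h2 a

theorem algebraMap_St_comp {D : Type u} [CommRing D] [Algebra k D] (e : St G x →+* D)
    {p : SP k D ⟶ G} (he : Spec.map (CommRingCat.ofHom e) ≫ fss G x = p.left) (c : k) :
    e (algebraMap k (St G x) c) = algebraMap k D c := by
  have h1 : Spec.map (CommRingCat.ofHom (algebraMap k (St G x)) ≫ CommRingCat.ofHom e) =
      Spec.map (CommRingCat.ofHom (algebraMap k D)) := by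
    rw [Spec.map_comp, map_algebraMap_St, ← Category.assoc, he]
    exact Over.w p
  exact ConcreteCategory.congr_hom (Spec.map_injective h1) c

/-- a point with values in a local ring factors through the local ring of the image of the closed point -/
theorem exists_hom_St {D : Type u} [CommRing D] [Algebra k D] [IsLocalRing D] (p : SP k D ⟶ G)
    (hp : p.left (IsLocalRing.closedPoint D) = x) :
    ∃ e : St G x →ₐ[k] D, IsLocalHom e.toRingHom ∧ spA e ≫ ptSt G x = p := by
  subst hp
  let φ : St G (p.left (IsLocalRing.closedPoint D)) →+* D :=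
    (Scheme.stalkClosedPointTo (R := CommRingCat.of D) p.left).hom
  have hφ : Spec.map (CommRingCat.ofHom φ) ≫ fss G _ = p.left :=
    Scheme.Spec_stalkClosedPointTo_fromSpecStalk (R := CommRingCat.of D) p.left
  exact ⟨{ φ with commutes' := algebraMap_St_comp φ hφ },
    inferInstanceAs (IsLocalHom (Scheme.stalkClosedPointTo (R := CommRingCat.of D) p.left).hom),
    Over.OverMorphism.ext hφ⟩

variable [IsIntegral G.left]

variable (G) in
/-- the function field -/
abbrev KG : Type u := St G (genericPoint G.left)

instance fieldKG : Field (KG G) := inferInstanceAs (Field G.left.functionField)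

variable (G) in
/-- the generic point -/
abbrev ξ : SP k (KG G) ⟶ G := ptSt G (genericPoint G.left)

variable (x) in
/-- the inclusion of a local ring into the function field -/
def toKG : St G x →ₐ[k] KG G :=
  { ((G.left.presheaf.stalkSpecializes ((genericPoint_spec G.left).specializes trivial)).hom :
      St G x →+* KG G) with
    commutes' := algebraMap_St_comp _ (p := ξ G) (by exact Scheme.SpecMap_stalkSpecializes_fromSpecStalk ((genericPoint_spec G.left).specializes (y := x) trivial)) }

theorem toKG_injective : Function.Injective (toKG (G := G) x) :=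
  IsFractionRing.injective (G.left.presheaf.stalk x) G.left.functionField

theorem spA_toKG : spA (toKG (G := G) x) ≫ ptSt G x = ξ G :=
  Over.OverMorphism.ext (Scheme.SpecMap_stalkSpecializes_fromSpecStalk ((genericPoint_spec G.left).specializes (y := x) trivial))

theorem exists_div_toKG (a : KG G) : ∃ n d : St G x, toKG x d ≠ 0 ∧ a * toKG x d = toKG x n := by
  obtain ⟨n, d, hd, h⟩ := IsFractionRing.div_surjective (A := G.left.presheaf.stalk x) (K := G.left.functionField) a
  have hd0 : toKG x (d : St G x) ≠ 0 := fun h0 =>
    nonZeroDivisors.ne_zero hd (toKG_injective (G := G) (h0.trans (map_zero _).symm))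
  refine ⟨n, d, hd0, ?_⟩
  rw [← h]
  exact div_mul_cancel₀ _ hd0

/-- a point over the generic point gives an embedding of the function field -/
theorem exists_emb {D : Type u} [CommRing D] [Algebra k D] [IsLocalRing D] (p : SP k D ⟶ G)
    (hp : p.left (IsLocalRing.closedPoint D) = genericPoint G.left) :
    ∃ e : KG G →ₐ[k] D, spA e ≫ ξ G = p := by
  obtain ⟨e, -, he⟩ := exists_hom_St p hp
  exact ⟨e, he⟩

theorem closedPoint_spA_ξ {D : Type u} [CommRing D] [Algebra k D] [IsLocalRing D] (e : KG G →ₐ[k] D) :
    (spA e ≫ ξ G).left (IsLocalRing.closedPoint D) = genericPoint G.left := by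
  show (ξ G).left ((spA e).left (IsLocalRing.closedPoint D)) = _
  have hsub : Subsingleton ↥(SP k (KG G)).left := inferInstanceAs (Subsingleton (PrimeSpectrum (KG G)))
  rw [Subsingleton.elim ((spA e).left (IsLocalRing.closedPoint D)) (IsLocalRing.closedPoint (KG G))]
  exact ptSt_closedPoint G _

end Scheme

end Groth.L08.Chev
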