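import Groth.Agent.L08.Chev.Gauss
import Mathlib.RingTheory.AlgebraicIndependent.TranscendenceBasis
import Mathlib.RingTheory.Valuation.ValuationSubring
import Mathlib.RingTheory.LocalRing.ResidueField.Basic
import Mathlib.LinearAlgebra.Finsupp.LinearCombination

/-!
# Residual transcendence degree of a valuation ring on a smaller field
-/

set_option autoImplicit false
set_option backward.isDefEq.respectTransparency.types false
set_option linter.style.haveILetI false

universe u

noncomputable section

namespace Groth.L08.Chev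

variable {k : Type u} [Field k] {F : Type u} [Field F] [Algebra k F]

/-- a valuation subring containing the constants, as a subalgebra -/
def vsub (V : ValuationSubring F) (hk : ∀ c : k, algebraMap k F c ∈ V) : Subalgebra k F :=
  { V.toSubring with algebraMap_mem' := hk }

instance (V : ValuationSubring F) (hk : ∀ c : k, algebraMap k F c ∈ V) : IsLocalRing (vsub V hk) :=
  inferInstanceAs (IsLocalRing V)

theorem mem_vsub {V : ValuationSubring F} {hk : ∀ c : k, algebraMap k F c ∈ V} {x : F} : x ∈ vsub V hk ↔ x ∈ V :=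
  Iff.rfl

theorem mem_maximal_vsub {V : ValuationSubring F} {hk : ∀ c : k, algebraMap k F c ∈ V} (x : vsub V hk) :
    x ∈ IsLocalRing.maximalIdeal (vsub V hk) ↔ V.valuation (x : F) < 1 :=
  V.valuation_lt_one_iff x

variable (k) in
/-- elements of the valuation ring with algebraically independent residues -/
def IndepMod (V : ValuationSubring F) {ι : Type} (t : ι → F) : Prop :=
  (∀ i, t i ∈ V) ∧ ∀ P : MvPolynomial ι k, P ≠ 0 → ¬ V.valuation (MvPolynomial.aeval t P) < 1

theorem coe_aeval_vsub {V : ValuationSubring F} {hk : ∀ c : k, algebraMap k F c ∈ V} {ι : Type*}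
    (t : ι → vsub V hk) (P : MvPolynomial ι k) :
    ((MvPolynomial.aeval t P : vsub V hk) : F) = MvPolynomial.aeval (fun i => (t i : F)) P :=
  DFunLike.congr_fun (MvPolynomial.comp_aeval t (vsub V hk).val) P

theorem residue_aeval {V : ValuationSubring F} {hk : ∀ c : k, algebraMap k F c ∈ V} {ι : Type*}
    (t : ι → vsub V hk) (P : MvPolynomial ι k) :
    MvPolynomial.aeval (fun i => IsLocalRing.residue (vsub V hk) (t i)) P =
      IsLocalRing.residue (vsub V hk) (MvPolynomial.aeval t P) :=
  (DFunLike.congr_fun (MvPolynomial.comp_aeval t (IsScalarTower.toAlgHom k (vsub V hk)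
    (IsLocalRing.ResidueField (vsub V hk)))) P).symm

theorem IndepMod.algebraicIndependent {V : ValuationSubring F} {ι : Type} {t : ι → F} (h : IndepMod k V t)
    (hk : ∀ c : k, algebraMap k F c ∈ V) :
    AlgebraicIndependent k fun i => IsLocalRing.residue (vsub V hk) ⟨t i, h.1 i⟩ := by
  rw [algebraicIndependent_iff]
  intro P hP
  by_contra hne
  rw [residue_aeval, IsLocalRing.residue_eq_zero_iff, mem_maximal_vsub, coe_aeval_vsub] at hP
  exact h.2 P hne hP

theorem IndepMod.of_algebraicIndependent {V : ValuationSubring F} (hk : ∀ c : k, algebraMap k F c ∈ V) {ι : Type}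
    (t : ι → vsub V hk) (h : AlgebraicIndependent k fun i => IsLocalRing.residue (vsub V hk) (t i)) :
    IndepMod k V fun i => (t i : F) := by
  refine ⟨fun i => (t i).2, fun P hP hlt => hP ((algebraicIndependent_iff.1 h) P ?_)⟩
  rw [residue_aeval, IsLocalRing.residue_eq_zero_iff, mem_maximal_vsub, coe_aeval_vsub]
  exact hlt

theorem trdeg_residue_le {K : Type u} [Field K] [Algebra K F] (W : ValuationSubring K)
    {S₁ : Type u} [CommRing S₁] [IsLocalRing S₁] [Algebra S₁ F]
    {S₀ : Type u} [CommRing S₀] [IsLocalRing S₀] [Algebra S₀ K] [Algebra S₀ S₁] [IsLocalHom (algebraMap S₀ S₁)]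
    (hinj₁ : Function.Injective (algebraMap S₁ F))
    (hinj₀ : Function.Injective (algebraMap S₀ K))
    (hW : Set.range (algebraMap S₀ K) = W)
    (hcomm : ∀ a, algebraMap S₁ F (algebraMap S₀ S₁ a) = algebraMap K F (algebraMap S₀ K a)) :
    Algebra.trdeg (IsLocalRing.ResidueField S₀) (IsLocalRing.ResidueField S₁) ≤ Algebra.trdeg K F := by
  obtain ⟨T, hT⟩ := exists_isTranscendenceBasis (IsLocalRing.ResidueField S₀) (IsLocalRing.ResidueField S₁)
  rw [← hT.cardinalMk_eq_trdeg]
  choose s hs using fun t : T => IsLocalRing.residue_surjective (R := S₁) (t : IsLocalRing.ResidueField S₁)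
  refine AlgebraicIndependent.cardinalMk_le_trdeg (x := fun t => algebraMap S₁ F (s t)) ?_
  rw [algebraicIndependent_iff]
  intro P hP
  by_contra hne
  classical
  obtain ⟨d₀, hd₀, hmax⟩ := P.support.exists_max_image (fun d => W.valuation (P.coeff d))
    (Finset.nonempty_of_ne_empty (by simpa [MvPolynomial.support_eq_empty] using hne))
  rw [MvPolynomial.mem_support_iff] at hd₀
  have hpre : ∀ d, ∃ a, algebraMap S₀ K a = P.coeff d / P.coeff d₀ := fun d => by
    have : P.coeff d / P.coeff d₀ ∈ (W : Set K) := by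
      rw [SetLike.mem_coe, ← W.valuation_le_one_iff, map_div₀]
      by_cases h : P.coeff d = 0
      · simp [h]
      · exact div_le_one_of_le₀ (hmax d (MvPolynomial.mem_support_iff.2 h)) zero_le
    rwa [← hW] at this
  choose a ha using hpre
  let Q : MvPolynomial T S₀ := ∑ d ∈ P.support, MvPolynomial.monomial d (a d)
  have hQ : MvPolynomial.map (algebraMap S₀ K) Q = MvPolynomial.C (P.coeff d₀)⁻¹ * P := by
    rw [map_sum, show MvPolynomial.C (P.coeff d₀)⁻¹ * P = ∑ d ∈ P.support, MvPolynomial.C (P.coeff d₀)⁻¹ *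
      MvPolynomial.monomial d (P.coeff d) by rw [← Finset.mul_sum, ← P.as_sum]]
    refine Finset.sum_congr rfl fun d _ => ?_
    rw [MvPolynomial.map_monomial, ha, MvPolynomial.C_mul_monomial, div_eq_inv_mul]
  have h0 : algebraMap S₁ F (MvPolynomial.eval₂ (algebraMap S₀ S₁) s Q) = 0 := by
    rw [MvPolynomial.eval₂_comp_left (algebraMap S₁ F),
      show (algebraMap S₁ F).comp (algebraMap S₀ S₁) = (algebraMap K F).comp (algebraMap S₀ K) from
        RingHom.ext hcomm, ← MvPolynomial.eval₂_map, hQ]
    show MvPolynomial.aeval (fun t => algebraMap S₁ F (s t)) (MvPolynomial.C (P.coeff d₀)⁻¹ * P) = 0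
    rw [map_mul, hP, mul_zero]
  have h1 : IsLocalRing.residue S₁ (MvPolynomial.eval₂ (algebraMap S₀ S₁) s Q) = 0 := by
    rw [hinj₁ (h0.trans (map_zero _).symm), map_zero]
  rw [MvPolynomial.eval₂_comp_left (IsLocalRing.residue S₁)] at h1
  have h2 : MvPolynomial.aeval (fun t : T => (t : IsLocalRing.ResidueField S₁))
      (MvPolynomial.map (IsLocalRing.residue S₀) Q) = 0 := by
    rw [MvPolynomial.aeval_def, MvPolynomial.eval₂_map, ← h1]
    congr 1
    funext t
    exact (hs t).symm
  have h3 := (algebraicIndependent_iff.1 hT.1) _ h2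
  have h4 := congrArg (MvPolynomial.coeff d₀) h3
  rw [MvPolynomial.coeff_map, MvPolynomial.coeff_zero, MvPolynomial.coeff_sum,
    Finset.sum_eq_single d₀ (fun d _ hd => by rw [MvPolynomial.coeff_monomial, if_neg hd])
      (fun h => absurd (MvPolynomial.mem_support_iff.2 hd₀) h),
    MvPolynomial.coeff_monomial, if_pos rfl,
    show a d₀ = 1 from hinj₀ (by rw [ha, div_self hd₀, map_one]), map_one] at h4
  exact one_ne_zero h4

/-- residual independence descends with loss at most the transcendence degree -/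
theorem exists_indepMod_comap {K : Type u} [Field K] [Algebra k K] (δ : K →ₐ[k] F) {n : ℕ}
    (htr : @Algebra.trdeg K F _ _ δ.toRingHom.toAlgebra ≤ n) (V : ValuationSubring F)
    (hk : ∀ c : k, algebraMap k F c ∈ V) {m : ℕ} (s : Fin (n + m) → F) (hs : IndepMod k V s) :
    ∃ t : Fin m → K, IndepMod k (V.comap δ.toRingHom) t := by
  letI : Algebra K F := δ.toRingHom.toAlgebra
  have hk' : ∀ c : k, algebraMap k K c ∈ V.comap δ.toRingHom := fun c => by
    show δ (algebraMap k K c) ∈ V
    rw [δ.commutes]; exact hk c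
  let S₀ := vsub (V.comap δ.toRingHom) hk'
  let S₁ := vsub V hk
  let ψ : S₀ →ₐ[k] S₁ := (δ.comp S₀.val).codRestrict S₁ fun a => a.2
  letI : Algebra S₀ S₁ := ψ.toRingHom.toAlgebra
  haveI : IsLocalHom (algebraMap S₀ S₁) := ⟨fun a ha => by
    by_contra hna
    have h1 := (valuation_comap_lt_one δ.toRingHom V _).1
      ((mem_maximal_vsub a).1 ((IsLocalRing.mem_maximalIdeal a).2 hna))
    exact (IsLocalRing.mem_maximalIdeal _).1 ((mem_maximal_vsub (algebraMap S₀ S₁ a)).2 h1) ha⟩
  have hle := trdeg_residue_le (K := K) (V.comap δ.toRingHom) (S₁ := S₁) (S₀ := S₀) Subtype.val_injective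
    Subtype.val_injective Subtype.range_coe (fun a => rfl)
  haveI : IsScalarTower k S₀ S₁ := IsScalarTower.of_algebraMap_eq fun c => (ψ.commutes c).symm
  haveI : IsScalarTower k (IsLocalRing.ResidueField S₀) (IsLocalRing.ResidueField S₁) :=
    IsScalarTower.of_algebraMap_eq fun c => by
      rw [IsScalarTower.algebraMap_apply k S₁ (IsLocalRing.ResidueField S₁),
        IsScalarTower.algebraMap_apply k S₀ S₁, IsScalarTower.algebraMap_apply k S₀ (IsLocalRing.ResidueField S₀)]
      rfl
  have hadd := trdeg_add_eq k (IsLocalRing.ResidueField S₀) (A := IsLocalRing.ResidueField S₁)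
  have h1 := (hs.algebraicIndependent hk).lift_cardinalMk_le_trdeg
  rw [Cardinal.mk_fin, Cardinal.lift_natCast, Cardinal.lift_id'] at h1
  have hm : (m : Cardinal.{u}) ≤ Algebra.trdeg k (IsLocalRing.ResidueField S₀) := by
    by_contra h
    rw [not_le] at h
    obtain ⟨j, hj⟩ := Cardinal.lt_aleph0.1 (h.trans (Cardinal.natCast_lt_aleph0 (n := m)))
    obtain ⟨i, hi⟩ := Cardinal.lt_aleph0.1 ((hle.trans htr).trans_lt (Cardinal.natCast_lt_aleph0 (n := n)))
    rw [hj] at h
    rw [← hadd, hj, hi] at h1
    have h2 := hle.trans htr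
    rw [hi] at h2
    norm_cast at h h1 h2
    omega
  obtain ⟨T, hT⟩ := exists_isTranscendenceBasis k (IsLocalRing.ResidueField S₀)
  rw [← hT.cardinalMk_eq_trdeg] at hm
  obtain ⟨emb⟩ : Nonempty (Fin m ↪ T) := by
    rw [← Cardinal.lift_mk_le']
    simpa using hm
  choose t ht using fun i => IsLocalRing.residue_surjective (R := S₀) (emb i : IsLocalRing.ResidueField S₀)
  refine ⟨fun i => (t i : K), IndepMod.of_algebraicIndependent hk' t ?_⟩
  rw [show (fun i => IsLocalRing.residue S₀ (t i)) = (fun x : T => (x : IsLocalRing.ResidueField S₀)) ∘ emb from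
    funext ht]
  exact hT.1.comp emb emb.injective

end Groth.L08.Chev
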