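import Groth.Agent.L08.Chev.Pair
import Groth.Agent.L08.Chev.ValRes
import Mathlib.RingTheory.AlgebraicIndependent.AlgebraicClosure
import Mathlib.FieldTheory.AlgebraicClosure

/-!
# A translation-regular valuation without centre
-/

set_option autoImplicit false
set_option backward.isDefEq.respectTransparency.types false
set_option linter.style.haveILetI false
set_option linter.unusedSectionVars false

universe u

open CategoryTheory CategoryTheory.Limits MonoidalCategory CartesianMonoidalCategory MonObj GrpObj AlgebraicGeometry TensorProduct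

noncomputable section

namespace Groth.L08.Chev

variable {k : Type u} [Field k] {G : Over (Spec (CommRingCat.of k))}

section Ext

variable {F F₀ E : Type u} [Field F] [Field F₀] [Field E] [Algebra k F] [Algebra k F₀] [Algebra k E]

/-- a point extends over a valuation ring -/
def ExtOver (V : ValuationSubring F) (p : SP k F ⟶ G) : Prop :=
  ∃ (hk : ∀ c : k, algebraMap k F c ∈ V) (q : SP k (vsub V hk) ⟶ G), spA (vsub V hk).val ≫ q = p

theorem ExtOver.mul [GrpObj G] {V : ValuationSubring F} {p p' : SP k F ⟶ G} (h : ExtOver V p) (h' : ExtOver V p') :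
    ExtOver V (p * p') := by
  obtain ⟨hk, q, rfl⟩ := h
  obtain ⟨hk', q', rfl⟩ := h'
  exact ⟨hk, q * q', MonObj.comp_mul _ _ _⟩

theorem ExtOver.inv [GrpObj G] {V : ValuationSubring F} {p : SP k F ⟶ G} (h : ExtOver V p) : ExtOver V p⁻¹ := by
  obtain ⟨hk, q, rfl⟩ := h
  exact ⟨hk, q⁻¹, GrpObj.comp_inv _ _⟩

theorem ExtOver.of_constants {V : ValuationSubring F} (ε : E →ₐ[k] F) (hε : ∀ e, ε e ∈ V) (p : SP k E ⟶ G) :
    ExtOver V (spA ε ≫ p) := by
  have hk : ∀ c : k, algebraMap k F c ∈ V := fun c => by rw [← ε.commutes]; exact hε _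
  refine ⟨hk, spA (ε.codRestrict (vsub V hk) hε) ≫ p, ?_⟩
  rw [← Category.assoc, ← spA_comp]
  congr 2

theorem ExtOver.map {V : ValuationSubring F} {V₀ : ValuationSubring F₀} (ρ : F₀ →ₐ[k] F)
    (hρ : ∀ a, a ∈ V₀ → ρ a ∈ V) {p : SP k F₀ ⟶ G} (h : ExtOver V₀ p) : ExtOver V (spA ρ ≫ p) := by
  obtain ⟨hk₀, q, rfl⟩ := h
  have hk : ∀ c : k, algebraMap k F c ∈ V := fun c => by rw [← ρ.commutes]; exact hρ _ (hk₀ c)
  refine ⟨hk, spA ((ρ.comp (vsub V₀ hk₀).val).codRestrict (vsub V hk) fun a => hρ _ a.2) ≫ q, ?_⟩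
  rw [← Category.assoc, ← spA_comp, ← Category.assoc, ← spA_comp]
  congr 2

theorem ExtOver.restrict [IsIntegral G.left] {W : ValuationSubring F} (ρ : KG G →ₐ[k] F)
    (h : ExtOver W (spA ρ ≫ ξ G)) : ExtOver (W.comap ρ.toRingHom) (ξ G) := by
  obtain ⟨hk, q, hq⟩ := h
  obtain ⟨e, -, he⟩ := exists_hom_St q rfl
  have h1 : ρ.comp (toKG _) = (vsub W hk).val.comp e := by
    refine hom_ext_St ?_
    rw [spA_comp, spA_comp, Category.assoc, Category.assoc, spA_toKG, he, hq]
  have hk' : ∀ c : k, algebraMap k (KG G) c ∈ W.comap ρ.toRingHom := fun c => by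
    show ρ (algebraMap k (KG G) c) ∈ W
    rw [ρ.commutes]; exact hk c
  let f : St G (q.left (IsLocalRing.closedPoint (vsub W hk))) →ₐ[k] vsub (W.comap ρ.toRingHom) hk' :=
    (toKG _).codRestrict _ fun a => by
      show ρ (toKG _ a) ∈ W
      rw [show ρ (toKG _ a) = (e a : F) from DFunLike.congr_fun h1 a]
      exact (e a).2
  refine ⟨hk', spA f ≫ ptSt G _, ?_⟩
  rw [← Category.assoc, ← spA_comp]
  exact spA_toKG (G := G)

/-- no point of the scheme is dominated -/
def NoCentre (G : Over (Spec (CommRingCat.of k))) [IsIntegral G.left] (V : ValuationSubring (KG G)) : Prop :=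
  ¬ ExtOver V (ξ G)

end Ext

section Dbl

variable (G) [IsIntegral G.left] [IsAlgClosed k]

instance isDomain_dbl : IsDomain (KG G ⊗[k] KG G) := Groth.L25.GeomIrred.isDomain_tensorProduct

/-- the function field of the square -/
def Dbl : Type u := FractionRing (KG G ⊗[k] KG G)

instance : Field (Dbl G) := inferInstanceAs (Field (FractionRing (KG G ⊗[k] KG G)))
instance : Algebra k (Dbl G) := inferInstanceAs (Algebra k (FractionRing (KG G ⊗[k] KG G)))
instance : Algebra (KG G ⊗[k] KG G) (Dbl G) :=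
  inferInstanceAs (Algebra (KG G ⊗[k] KG G) (FractionRing (KG G ⊗[k] KG G)))
instance : IsScalarTower k (KG G ⊗[k] KG G) (Dbl G) :=
  inferInstanceAs (IsScalarTower k (KG G ⊗[k] KG G) (FractionRing (KG G ⊗[k] KG G)))
instance : IsFractionRing (KG G ⊗[k] KG G) (Dbl G) :=
  inferInstanceAs (IsFractionRing (KG G ⊗[k] KG G) (FractionRing (KG G ⊗[k] KG G)))

/-- first factor -/
def e₁ : KG G →ₐ[k] Dbl G :=
  (IsScalarTower.toAlgHom k (KG G ⊗[k] KG G) (Dbl G)).comp Algebra.TensorProduct.includeLeft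

/-- second factor -/
def e₂ : KG G →ₐ[k] Dbl G :=
  (IsScalarTower.toAlgHom k (KG G ⊗[k] KG G) (Dbl G)).comp Algebra.TensorProduct.includeRight

theorem lift_e : Algebra.TensorProduct.lift (e₁ G) (e₂ G) (fun _ _ => Commute.all _ _) =
    IsScalarTower.toAlgHom k (KG G ⊗[k] KG G) (Dbl G) := by
  refine Algebra.TensorProduct.ext' fun a b => ?_
  rw [Algebra.TensorProduct.lift_tmul]
  simp [e₁, e₂, ← map_mul]

theorem lift_e_injective :
    Function.Injective (Algebra.TensorProduct.lift (e₁ G) (e₂ G) (fun _ _ => Commute.all _ _)) := by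
  rw [lift_e]
  exact IsFractionRing.injective (KG G ⊗[k] KG G) (Dbl G)

theorem isGen_e : IsGen (e₁ G) (e₂ G) := by
  intro f
  obtain ⟨n, d, hd, rfl⟩ := IsFractionRing.div_surjective (A := KG G ⊗[k] KG G) f
  have hd0 : (algebraMap (KG G ⊗[k] KG G) (Dbl G)) d ≠ 0 :=
    IsFractionRing.to_map_ne_zero_of_mem_nonZeroDivisors hd
  refine ⟨n, d, ?_, ?_⟩
  · rw [lift_e]; exact hd0
  · rw [lift_e]; exact div_mul_cancel₀ _ hd0

variable [GrpObj G] [Smooth G.hom]

/-- the comorphism of multiplication -/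
def δ : KG G →ₐ[k] Dbl G := (exists_lift_mul (e₁ G) (e₂ G) (lift_e_injective G)).choose

theorem spA_δ : spA (δ G) ≫ ξ G = (spA (e₁ G) ≫ ξ G) * (spA (e₂ G) ≫ ξ G) :=
  (exists_lift_mul (e₁ G) (e₂ G) (lift_e_injective G)).choose_spec

variable {G}

theorem eq_top_of_mem (L : IntermediateField k (Dbl G)) (h₁ : ∀ a, e₁ G a ∈ L) (hδ : ∀ a, δ G a ∈ L) : L = ⊤ := by
  have hq : ∃ q : SP k L ⟶ G, spA L.val ≫ q = spA (e₂ G) ≫ ξ G := by
    refine ⟨(spA ((e₁ G).codRestrict L.toSubalgebra h₁) ≫ ξ G)⁻¹ * (spA ((δ G).codRestrict L.toSubalgebra hδ) ≫ ξ G), ?_⟩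
    rw [MonObj.comp_mul, GrpObj.comp_inv, ← Category.assoc, ← spA_comp, ← Category.assoc, ← spA_comp]
    show (spA (e₁ G) ≫ ξ G)⁻¹ * (spA (δ G) ≫ ξ G) = _
    rw [spA_δ, inv_mul_cancel_left]
  obtain ⟨q, hq⟩ := hq
  have hcl : q.left (IsLocalRing.closedPoint L) = genericPoint G.left := by
    have h := closedPoint_spA_ξ (e₂ G)
    rw [← hq] at h
    refine Eq.trans ?_ h
    show q.left _ = q.left ((spA L.val).left _)
    congr 1
    exact Subsingleton.elim (α := PrimeSpectrum L) _ _
  obtain ⟨e, he⟩ := exists_emb q hcl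
  have h2 : ∀ a, e₂ G a ∈ L := fun a => by
    have : L.val.comp e = e₂ G := hom_ext_St (by rw [spA_comp, Category.assoc, he, hq])
    rw [← this]
    exact (e a).2
  refine eq_top_iff.2 fun f _ => ?_
  obtain ⟨n, d, hd, he'⟩ := isGen_e G f
  have hmem : ∀ z, Algebra.TensorProduct.lift (e₁ G) (e₂ G) (fun _ _ => Commute.all _ _) z ∈ L := by
    intro z
    induction z using TensorProduct.induction_on with
    | zero => rw [map_zero]; exact L.zero_mem
    | tmul a b => rw [Algebra.TensorProduct.lift_tmul]; exact L.mul_mem (h₁ a) (h2 b)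
    | add x y hx hy => rw [map_add]; exact L.add_mem hx hy
  rw [eq_div_iff_mul_eq hd |>.2 he']
  exact div_mem (hmem n) (hmem d)

theorem trdeg_le_of_gen {K F : Type u} [Field K] [Field F] [Algebra k K] [Algebra k F] [Algebra K F]
    [IsScalarTower k K F] (e : K →ₐ[k] F)
    (hgen : ∀ L : IntermediateField k F, (∀ a, e a ∈ L) → (∀ a, algebraMap K F a ∈ L) → L = ⊤) :
    Algebra.trdeg K F ≤ Algebra.trdeg k K := by
  obtain ⟨b, hb⟩ := exists_isTranscendenceBasis k K
  let S : Set F := e '' b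
  have hS : Cardinal.mk S ≤ Algebra.trdeg k K := by
    rw [← hb.cardinalMk_eq_trdeg]
    exact Cardinal.mk_image_le
  let M : IntermediateField K F := (algebraicClosure (IntermediateField.adjoin K S) F).restrictScalars K
  have htop : M.restrictScalars k = ⊤ := by
    refine hgen _ (fun a => ?_) (fun a => M.algebraMap_mem a)
    show e a ∈ algebraicClosure (IntermediateField.adjoin K S) F
    rw [mem_algebraicClosure_iff]
    haveI := hb.isAlgebraic
    have hsub : ∀ c : Algebra.adjoin k (Set.range ((↑) : b → K)), e c ∈ IntermediateField.adjoin K S := by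
      intro c
      have h1 : e c ∈ (Algebra.adjoin k (Set.range ((↑) : b → K))).map e := ⟨c, c.2, rfl⟩
      rw [AlgHom.map_adjoin] at h1
      refine Algebra.adjoin_le (S := ((IntermediateField.adjoin K S).restrictScalars k).toSubalgebra) ?_ h1
      rintro _ ⟨_, ⟨⟨x, hx⟩, rfl⟩, rfl⟩
      exact IntermediateField.subset_adjoin K S ⟨x, hx, rfl⟩
    obtain ⟨P, hP, hP'⟩ := Algebra.IsAlgebraic.isAlgebraic (R := Algebra.adjoin k (Set.range ((↑) : b → K))) a
    let f : Algebra.adjoin k (Set.range ((↑) : b → K)) →+* IntermediateField.adjoin K S :=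
      (e.comp (Algebra.adjoin k (Set.range ((↑) : b → K))).val).toRingHom.codRestrict _ hsub
    refine ⟨P.map f, fun h0 => hP ?_, ?_⟩
    · refine Polynomial.map_injective f (fun x y hxy => ?_) (h0.trans (Polynomial.map_zero f).symm)
      exact Subtype.ext (e.toRingHom.injective (congrArg Subtype.val hxy))
    · rw [Polynomial.aeval_def, Polynomial.eval₂_map]
      have := congrArg e hP'
      rw [map_zero, Polynomial.aeval_def] at this
      rw [← this]
      exact (Polynomial.hom_eval₂ P _ e.toRingHom a).symm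
  have halg : ∀ f : F, IsAlgebraic (IntermediateField.adjoin K S) f := fun f => by
    rw [← mem_algebraicClosure_iff]
    have : f ∈ M.restrictScalars k := htop ▸ trivial
    exact this
  haveI : Algebra.IsAlgebraic (Algebra.adjoin K S) F :=
    ⟨fun f => IntermediateField.isAlgebraic_adjoin_iff.1 (halg f)⟩
  exact (Algebra.IsAlgebraic.trdeg_le_cardinalMk K S).trans hS

theorem trdeg_dbl_le {n : ℕ} (hn : Algebra.trdeg k (KG G) = n) :
    @Algebra.trdeg (KG G) (Dbl G) _ _ (δ G).toRingHom.toAlgebra ≤ n := by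
  letI : Algebra (KG G) (Dbl G) := (δ G).toRingHom.toAlgebra
  haveI : IsScalarTower k (KG G) (Dbl G) := IsScalarTower.of_algebraMap_eq fun c => ((δ G).commutes c).symm
  rw [← hn]
  exact trdeg_le_of_gen (e₁ G) fun L h₁ hδ => eq_top_of_mem L h₁ hδ

theorem indepMod_append {n m : ℕ} {V₀ : ValuationSubring (KG G)} {V : ValuationSubring (Dbl G)}
    (hV : Gauss (e₁ G) (e₂ G) V₀ V) {t : Fin m → KG G} (ht : IndepMod k V₀ t) {b : Fin n → KG G}
    (hb : AlgebraicIndependent k b) :
    IndepMod k V (Fin.append (e₁ G ∘ b) (e₂ G ∘ t)) := by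
  classical
  refine ⟨fun i => ?_, fun P hP => ?_⟩
  · refine Fin.addCases (fun i => ?_) (fun i => ?_) i
    · rw [Fin.append_left]; exact hV.mem_ε _
    · rw [Fin.append_right]; exact hV.mem_ρ _ (ht.1 i)
  let Q : MvPolynomial (Fin n) (MvPolynomial (Fin m) k) :=
    MvPolynomial.sumAlgEquiv k (Fin n) (Fin m) (MvPolynomial.rename finSumFinEquiv.symm P)
  have hQ : Q ≠ 0 := fun h => hP (MvPolynomial.rename_injective _ finSumFinEquiv.symm.injective
    ((MvPolynomial.sumAlgEquiv k (Fin n) (Fin m)).injective (h.trans (map_zero _).symm)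
      |>.trans (map_zero _).symm))
  have hval : MvPolynomial.aeval (Fin.append (e₁ G ∘ b) (e₂ G ∘ t)) P =
      ∑ d ∈ Q.support, e₁ G (d.prod fun i j => b i ^ j) * e₂ G (MvPolynomial.aeval t (Q.coeff d)) := by
    have key : ∀ R : MvPolynomial (Fin n ⊕ Fin m) k,
        MvPolynomial.aeval (Sum.elim (e₁ G ∘ b) (e₂ G ∘ t)) R =
          MvPolynomial.eval₂ ((e₂ G).toRingHom.comp (MvPolynomial.aeval t).toRingHom) (e₁ G ∘ b)
            (MvPolynomial.sumAlgEquiv k (Fin n) (Fin m) R) := by
      intro R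
      induction R using MvPolynomial.induction_on with
      | C c =>
        rw [MvPolynomial.aeval_C, show MvPolynomial.sumAlgEquiv k (Fin n) (Fin m) (MvPolynomial.C c) =
          MvPolynomial.C (MvPolynomial.C c) from (MvPolynomial.sumAlgEquiv k (Fin n) (Fin m)).commutes c,
          MvPolynomial.eval₂_C]
        simp
      | add p q hp hq => rw [map_add, map_add, MvPolynomial.eval₂_add, hp, hq]
      | mul_X p i hp =>
        rw [map_mul, map_mul, MvPolynomial.eval₂_mul, hp, MvPolynomial.aeval_X]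
        congr 1
        rcases i with i | i <;> simp
    rw [show Fin.append (e₁ G ∘ b) (e₂ G ∘ t) = Sum.elim (e₁ G ∘ b) (e₂ G ∘ t) ∘ finSumFinEquiv.symm from by
        funext i; refine Fin.addCases (fun i => ?_) (fun i => ?_) i <;> simp,
      ← MvPolynomial.aeval_rename, key, MvPolynomial.eval₂_eq']
    refine Finset.sum_congr rfl fun d _ => ?_
    rw [mul_comm, map_finsuppProd, Finsupp.prod_fintype _ _ (fun i => by simp)]
    simp [Q]
  rw [hval]
  let e := Q.support.equivFin
  have hsum := hV.sum_unit Q.support.card (fun i => (e.symm i).1.prod fun i j => b i ^ j)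
    (fun i => MvPolynomial.aeval t (Q.coeff (e.symm i).1))
  rw [e.symm.sum_comp (fun d : Q.support => e₁ G (d.1.prod fun i j => b i ^ j) *
      e₂ G (MvPolynomial.aeval t (Q.coeff d.1))),
    Finset.sum_coe_sort Q.support (fun d => e₁ G (d.prod fun i j => b i ^ j) *
      e₂ G (MvPolynomial.aeval t (Q.coeff d)))] at hsum
  refine hsum ?_ (fun i => ?_) ?_
  · have hli := (MvPolynomial.basisMonomials (Fin n) k).linearIndependent.map'
      (MvPolynomial.aeval b).toLinearMap (LinearMap.ker_eq_bot.2 hb)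
    refine Eq.mp ?_ (hli.comp _ (Subtype.val_injective.comp e.symm.injective))
    congr 1
    funext i
    simp [MvPolynomial.aeval_monomial]
  · show MvPolynomial.aeval t (Q.coeff (e.symm i).1) ∈ V₀
    induction Q.coeff (e.symm i).1 using MvPolynomial.induction_on with
    | C c =>
      rw [MvPolynomial.aeval_C]
      have := hV.mem_ε (algebraMap k (KG G) c)
      rw [(e₁ G).commutes, ← (e₂ G).commutes] at this
      exact (hV.comap_eq _).1 this
    | add p q hp hq => rw [map_add]; exact V₀.add_mem _ _ hp hq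
    | mul_X p i hp => rw [map_mul, MvPolynomial.aeval_X]; exact V₀.mul_mem _ _ hp (ht.1 i)
  · obtain ⟨d, hd⟩ := Finset.nonempty_of_ne_empty (mt MvPolynomial.support_eq_empty.1 hQ)
    exact ⟨e ⟨d, hd⟩, by simpa using ht.2 _ (MvPolynomial.mem_support_iff.1 hd)⟩

/-- **the invariant valuation** -/
theorem exists_invariant {n : ℕ} (hn : Algebra.trdeg k (KG G) = n) {V₀ : ValuationSubring (KG G)}
    (hk : ∀ c : k, algebraMap k (KG G) c ∈ V₀) (hc : NoCentre G V₀) {t : Fin (n - 1) → KG G}
    (ht : IndepMod k V₀ t) :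
    ∃ V₁ : ValuationSubring (Dbl G), Gauss (e₁ G) (e₂ G) V₀ V₁ ∧
      NoCentre G (V₁.comap (δ G).toRingHom) ∧
      ∃ t' : Fin (n - 1) → KG G, IndepMod k (V₁.comap (δ G).toRingHom) t' := by
  obtain ⟨V₁, hV⟩ := exists_gauss (e₁ G) (e₂ G) (lift_e_injective G) V₀ hk
  refine ⟨V₁, hV, fun hext => hc ?_, ?_⟩
  · have h1 : ExtOver V₁ (spA (δ G) ≫ ξ G) := hext.map (δ G) fun a ha => ha
    have h2 : ExtOver V₁ (spA (e₁ G) ≫ ξ G) := ExtOver.of_constants (e₁ G) hV.mem_ε (ξ G)
    have h3 := h2.inv.mul h1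
    rw [spA_δ, inv_mul_cancel_left] at h3
    have h4 := ExtOver.restrict (e₂ G) h3
    rwa [show V₁.comap (e₂ G).toRingHom = V₀ from SetLike.ext fun a => hV.comap_eq a] at h4
  · obtain ⟨b, hb⟩ := exists_isTranscendenceBasis k (KG G)
    obtain ⟨emb⟩ : Nonempty (Fin n ↪ b) := by
      rw [← Cardinal.lift_mk_le', hb.cardinalMk_eq_trdeg, hn]
      simp
    exact exists_indepMod_comap (δ G) (trdeg_dbl_le hn) V₁
      (fun c => by rw [← (e₁ G).commutes]; exact hV.mem_ε _) _
      (indepMod_append hV ht (hb.1.comp emb emb.injective))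

end Dbl

end Groth.L08.Chev
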