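import Groth.Agent.L08.Chev.Shear

/-!
# Specialisation of the group law at a rational point, and moves of local rings
-/

set_option autoImplicit false
set_option backward.isDefEq.respectTransparency.types false
set_option linter.style.haveILetI false
set_option linter.unusedSectionVars false

universe u

open CategoryTheory CategoryTheory.Limits MonoidalCategory CartesianMonoidalCategory MonObj GrpObj AlgebraicGeometry TensorProduct

noncomputable section

namespace Groth.L08.Chev

variable {k : Type u} [Field k] {G : Over (Spec (CommRingCat.of k))} [GrpObj G] [IsIntegral G.left]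

/-- the comorphism of a left translation -/
def tr (g : SP k k ⟶ G) : KG G →ₐ[k] KG G := (exists_tr g).choose

theorem spA_tr (g : SP k k ⟶ G) : spA (tr g) ≫ ξ G = cst G g * ξ G := (exists_tr g).choose_spec

theorem tr_mul (g h : SP k k ⟶ G) : (tr g).comp (tr h) = tr (h * g) := by
  refine hom_ext_St (G := G) ?_
  rw [spA_comp, Category.assoc, spA_tr, MonObj.comp_mul, spA_cst, spA_tr, spA_tr, cst_mul, _root_.mul_assoc]

theorem tr_one : tr (1 : SP k k ⟶ G) = AlgHom.id k (KG G) := by
  refine hom_ext_St (G := G) ?_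
  rw [spA_id, Category.id_comp, spA_tr, cst_one, _root_.one_mul]

/-- translations by distinct points differ -/
theorem eq_of_tr_eq {g h : SP k k ⟶ G} (he : tr g = tr h) : g = h := by
  have h1 : cst G (R := KG G) g = cst G h := by
    have := congrArg (fun t => spA t ≫ ξ G) he
    rwa [spA_tr, spA_tr, mul_left_inj] at this
  obtain ⟨eg, -, hg⟩ := exists_hom_St (x := g.left (IsLocalRing.closedPoint k)) g rfl
  obtain ⟨eh, -, hh⟩ := exists_hom_St (x := g.left (IsLocalRing.closedPoint k)) h (by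
    have h2 := congrArg (fun p => p.left (IsLocalRing.closedPoint (KG G))) h1
    simp only [Over.comp_left, Scheme.Hom.comp_apply] at h2
    rw [Subsingleton.elim (α := PrimeSpectrum k) (IsLocalRing.closedPoint k)
      ((spA (Algebra.ofId k (KG G))).left (IsLocalRing.closedPoint (KG G)))]
    exact h2.symm)
  have h3 : (Algebra.ofId k (KG G)).comp eg = (Algebra.ofId k (KG G)).comp eh := by
    refine hom_ext_St ?_
    rw [spA_comp, spA_comp, Category.assoc, Category.assoc, hg, hh]
    exact h1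
  rw [← hg, ← hh, show eg = eh from AlgHom.ext fun a => (algebraMap k (KG G)).injective (DFunLike.congr_fun h3 a)]

section Spec

variable [Smooth G.hom] [IsAlgClosed k] {S : Type u} [CommRing S] [Algebra k S]

/-- the coordinate rings of a product inside the square -/
def J (κ : S →ₐ[k] KG G) : S ⊗[k] KG G →ₐ[k] Dbl G :=
  Algebra.TensorProduct.lift ((e₁ G).comp κ) (e₂ G) (fun _ _ => Commute.all _ _)

theorem J_injective {κ : S →ₐ[k] KG G} (hκ : Function.Injective κ) : Function.Injective (J κ) := by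
  have h : J κ = (Algebra.TensorProduct.lift (e₁ G) (e₂ G) (fun _ _ => Commute.all _ _)).comp
      (Algebra.TensorProduct.map κ (AlgHom.id k _)) := Algebra.TensorProduct.ext' fun a b => by simp [J]
  rw [h]
  exact (lift_e_injective G).comp
    (Module.Flat.rTensor_preserves_injective_linearMap (M := KG G) κ.toLinearMap hκ)

/-- evaluation on the first factor -/
def π {B : Type u} [CommRing B] [Algebra k B] (γ : S →ₐ[k] k) : S ⊗[k] B →ₐ[k] B :=
  Algebra.TensorProduct.lift ((Algebra.ofId k B).comp γ) (AlgHom.id k B) (fun _ _ => Commute.all _ _)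

theorem π_tmul {B : Type u} [CommRing B] [Algebra k B] (γ : S →ₐ[k] k) (s : S) (b : B) :
    π γ (s ⊗ₜ b) = γ s • b := by
  simp [π, Algebra.smul_def]

/-- **specialisation**: a law `P(x) · y` specialises to a translation -/
theorem exists_spec {κ : S →ₐ[k] KG G} (hκ : Function.Injective κ) (γ : S →ₐ[k] k) (P : SP k S ⟶ G)
    (φ : KG G →ₐ[k] Dbl G) (hφ : spA φ ≫ ξ G = (spA ((e₁ G).comp κ) ≫ P) * (spA (e₂ G) ≫ ξ G)) (a : KG G) :
    ∃ N D : S ⊗[k] KG G, π γ D ≠ 0 ∧ φ a * J κ D = J κ N ∧ tr (spA γ ≫ P) a * π γ D = π γ N := by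
  let ev : S ⊗[k] KG G →ₐ[k] KG G := π γ
  let 𝔭 := RingHom.ker ev.toRingHom
  haveI : 𝔭.IsPrime := RingHom.ker_isPrime _
  let D := Localization.AtPrime 𝔭
  have h1 : ∀ y : 𝔭.primeCompl, IsUnit (J κ y) := fun y => isUnit_iff_ne_zero.2 fun h0 => y.2 (by
    have : (y : S ⊗[k] KG G) = 0 := J_injective hκ (h0.trans (map_zero _).symm)
    rw [this]; exact 𝔭.zero_mem)
  have h2 : ∀ y : 𝔭.primeCompl, IsUnit (ev y) := fun y => isUnit_iff_ne_zero.2 fun h0 => y.2 h0
  let ι' : D →ₐ[k] Dbl G := IsLocalization.liftAlgHom h1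
  let res : D →ₐ[k] KG G := IsLocalization.liftAlgHom h2
  have hι : ∀ x, ι' (algebraMap _ D x) = J κ x := fun x => IsLocalization.lift_eq _ x
  have hres : ∀ x, res (algebraMap _ D x) = ev x := fun x => IsLocalization.lift_eq _ x
  haveI : IsLocalHom res.toRingHom := ⟨fun x hx => by
    obtain ⟨⟨n, d⟩, hnd⟩ := IsLocalization.surj 𝔭.primeCompl x
    have e := congrArg res hnd
    rw [map_mul, hres, hres] at e
    have hn : ev n ≠ 0 := e ▸ mul_ne_zero hx.ne_zero (h2 d).ne_zero
    exact isUnit_of_mul_isUnit_left (hnd.symm ▸ IsLocalization.map_units D (⟨n, hn⟩ : 𝔭.primeCompl))⟩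
  let inL : S →ₐ[k] D := (IsScalarTower.toAlgHom k (S ⊗[k] KG G) D).comp Algebra.TensorProduct.includeLeft
  let inR : KG G →ₐ[k] D := (IsScalarTower.toAlgHom k (S ⊗[k] KG G) D).comp Algebra.TensorProduct.includeRight
  let p : SP k D ⟶ G := (spA inL ≫ P) * (spA inR ≫ ξ G)
  have hι1 : ι'.comp inL = (e₁ G).comp κ := AlgHom.ext fun s => (hι _).trans (by simp [J])
  have hι2 : ι'.comp inR = e₂ G := AlgHom.ext fun s => (hι _).trans (by simp [J])
  have hr1 : res.comp inL = (Algebra.ofId k (KG G)).comp γ := AlgHom.ext fun s => (hres _).trans (by simp [ev, π])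
  have hr2 : res.comp inR = AlgHom.id k _ := AlgHom.ext fun s => (hres _).trans (by simp [ev, π])
  have hp : spA res ≫ p = spA (tr (spA γ ≫ P)) ≫ ξ G := by
    rw [MonObj.comp_mul, ← Category.assoc, ← spA_comp, hr1, ← Category.assoc (spA res), ← spA_comp, hr2, spA_id,
      Category.id_comp, spA_tr, spA_comp, Category.assoc]
  obtain ⟨e, he⟩ := exists_emb p (by
    rw [← closedPoint_spA res, ← Scheme.Hom.comp_apply, ← Over.comp_left, hp]
    exact closedPoint_spA_ξ _)
  have e1 : ι'.comp e = φ := by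
    refine hom_ext_St (G := G) ?_
    rw [spA_comp, Category.assoc, he, MonObj.comp_mul, ← Category.assoc, ← spA_comp, hι1,
      ← Category.assoc (spA ι'), ← spA_comp, hι2, hφ]
  have e2 : res.comp e = tr (spA γ ≫ P) := by
    refine hom_ext_St (G := G) ?_
    rw [spA_comp, Category.assoc, he, hp]
  obtain ⟨⟨n, d⟩, hnd⟩ := IsLocalization.surj 𝔭.primeCompl (e a)
  refine ⟨n, d, d.2, ?_, ?_⟩
  · have := congrArg ι' hnd
    rw [map_mul, hι, hι] at this
    rw [← DFunLike.congr_fun e1 a]
    exact this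
  · have := congrArg res hnd
    rw [map_mul, hres, hres] at this
    rw [← DFunLike.congr_fun e2 a]
    exact this

theorem spec_eq {κ : S →ₐ[k] KG G} (hκ : Function.Injective κ) (γ : S →ₐ[k] k) (P : SP k S ⟶ G)
    (φ : KG G →ₐ[k] Dbl G) (hφ : spA φ ≫ ξ G = (spA ((e₁ G).comp κ) ≫ P) * (spA (e₂ G) ≫ ξ G)) {a : KG G}
    {n f : S ⊗[k] KG G} (h : φ a * J κ f = J κ n) :
    tr (spA γ ≫ P) a * π γ f = π γ n := by
  obtain ⟨N, D, hD, h1, h2⟩ := exists_spec hκ γ P φ hφ a
  have e : n * D = N * f := J_injective hκ (by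
    rw [map_mul, map_mul, ← h, ← h1]; ring)
  have e' := congrArg (π (B := KG G) γ) e
  rw [map_mul, map_mul, ← h2] at e'
  refine mul_right_cancel₀ hD ?_
  rw [e']
  ring

end Spec

section Move

variable (A : Subalgebra k (KG G))

/-- lying in the local ring at `z`, with the given value -/
def InLoc (z : A →ₐ[k] k) (a : KG G) (c : k) : Prop :=
  ∃ u s : A, z s ≠ 0 ∧ a * s = u ∧ z u = z s * c

/-- the translation carries the local ring at `w` into the one at `z` -/
def Move (z : A →ₐ[k] k) (g : SP k k ⟶ G) (w : A →ₐ[k] k) : Prop :=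
  ∀ b : A, InLoc A z (tr g b) (w b)

variable {A}

theorem InLoc.coe (z : A →ₐ[k] k) (b : A) : InLoc A z b (z b) :=
  ⟨b, 1, by simp, by simp, by simp⟩

theorem InLoc.unique {z : A →ₐ[k] k} {a : KG G} {c c' : k} (h : InLoc A z a c) (h' : InLoc A z a c') : c = c' := by
  obtain ⟨u, s, hs, e, hu⟩ := h
  obtain ⟨u', s', hs', e', hu'⟩ := h'
  have : u * s' = u' * s := Subtype.ext (by
    simp only [MulMemClass.coe_mul, ← e, ← e']; ring)
  have h2 := congrArg z this
  rw [map_mul, map_mul, hu, hu'] at h2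
  refine mul_left_cancel₀ (mul_ne_zero hs hs') ?_
  linear_combination h2

theorem InLoc.tr {z w : A →ₐ[k] k} {g : SP k k ⟶ G} (hm : Move A z g w) {a : KG G} {c : k} (h : InLoc A w a c) :
    InLoc A z (tr g a) c := by
  obtain ⟨u, s, hs, e, hu⟩ := h
  obtain ⟨u₁, s₁, hs₁, e₁, hu₁⟩ := hm u
  obtain ⟨u₂, s₂, hs₂, e₂, hu₂⟩ := hm s
  refine ⟨u₁ * s₂, s₁ * u₂, ?_, ?_, ?_⟩
  · rw [map_mul, hu₂]; exact mul_ne_zero hs₁ (mul_ne_zero hs₂ hs)
  · simp only [MulMemClass.coe_mul, ← e₁, ← e₂, ← e, map_mul]; ring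
  · rw [map_mul, map_mul, hu₁, hu₂, hu]; ring

theorem Move.one (z : A →ₐ[k] k) : Move A z (1 : SP k k ⟶ G) z := fun b => by
  rw [tr_one]; exact InLoc.coe z b

theorem Move.mul {z w v : A →ₐ[k] k} {g h : SP k k ⟶ G} (hg : Move A z g w) (hh : Move A w h v) :
    Move A z (h * g) v := fun b => by
  rw [← tr_mul]
  exact InLoc.tr hg (hh b)

theorem Move.eq {z v : A →ₐ[k] k} (h : Move A z (1 : SP k k ⟶ G) v) : z = v :=
  AlgHom.ext fun b => InLoc.unique (InLoc.coe z b) (by simpa [tr_one] using h b)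

end Move

end Groth.L08.Chev
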