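import Groth.Agent.L08.Chev.Gen
import Groth.Agent.L25.GeomIrred
import Groth.Agent.L08.UnitChar
import Mathlib.AlgebraicGeometry.Morphisms.UniversallyOpen
import Mathlib.AlgebraicGeometry.Geometrically.Irreducible
import Mathlib.AlgebraicGeometry.Morphisms.FiniteType

/-!
# Products of independent generic points are generic
-/

set_option autoImplicit false
set_option backward.isDefEq.respectTransparency.types false
set_option linter.style.haveILetI false
set_option linter.unusedSectionVars false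

universe u

open CategoryTheory CategoryTheory.Limits MonoidalCategory CartesianMonoidalCategory MonObj GrpObj AlgebraicGeometry TensorProduct

noncomputable section

namespace Groth.L08.Chev

variable {k : Type u} [Field k]

/-- the structure map to the spectrum of the field -/
def str (X : Over (Spec (CommRingCat.of k))) : X ⟶ SP k k :=
  Over.homMk X.hom (by
    show X.hom ≫ Spec.map (CommRingCat.ofHom (algebraMap k k)) = X.hom
    rw [show CommRingCat.ofHom (algebraMap k k) = 𝟙 _ from rfl, Spec.map_id, Category.comp_id])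

theorem hom_to_SP_ext {X : Over (Spec (CommRingCat.of k))} (a b : X ⟶ SP k k) : a = b := by
  refine Over.OverMorphism.ext ?_
  have ha := Over.w a
  have hb := Over.w b
  rw [show (SP k k).hom = 𝟙 _ from Spec.map_id _] at ha hb
  exact ((Category.comp_id _).symm.trans ha).trans (((Category.comp_id _).symm.trans hb).symm)

theorem exists_chart (G : Over (Spec (CommRingCat.of k))) [IsIntegral G.left] (x : G.left) :
    ∃ (R : Type u) (_ : CommRing R) (_ : IsDomain R) (_ : Algebra k R) (σ0 : R →ₐ[k] St G x) (j : SP k R ⟶ G),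
      IsOpenImmersion j.left ∧ spA σ0 ≫ j = ptSt G x ∧ Function.Injective ((toKG x).comp σ0) ∧
      (∀ a : KG G, ∃ n d : R, toKG x (σ0 d) ≠ 0 ∧ a * toKG x (σ0 d) = toKG x (σ0 n)) ∧
      (LocallyOfFiniteType G.hom → Algebra.FiniteType k R) := by
  obtain ⟨_, ⟨U, hU, rfl⟩, hxU, -⟩ :=
    G.left.isBasis_affineOpens.exists_subset_of_mem_open (Set.mem_univ x) isOpen_univ
  haveI : Nonempty U := ⟨⟨x, hxU⟩⟩
  replace hU : IsAffineOpen U := hU
  letI : Algebra k Γ(G.left, U) := (Spec.preimage (hU.fromSpec ≫ G.hom)).hom.toAlgebra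
  have hw : Spec.map (CommRingCat.ofHom (algebraMap k Γ(G.left, U))) = hU.fromSpec ≫ G.hom := Spec.map_preimage _
  let j : SP k Γ(G.left, U) ⟶ G := Over.homMk hU.fromSpec hw.symm
  have hfac : Spec.map (G.left.presheaf.germ U x hxU) ≫ hU.fromSpec = fss G x :=
    hU.fromSpecStalk_eq_fromSpecStalk hxU
  let σ0 : Γ(G.left, U) →ₐ[k] St G x :=
    { ((G.left.presheaf.germ U x hxU).hom : Γ(G.left, U) →+* St G x) with
      commutes' := fun c => by
        have h1 : Spec.map (CommRingCat.ofHom (algebraMap k Γ(G.left, U)) ≫ G.left.presheaf.germ U x hxU) =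
            Spec.map (CommRingCat.ofHom (algebraMap k (St G x))) := by
          refine (Spec.map_comp _ _).trans ?_
          rw [hw, map_algebraMap_St, ← hfac]
          exact (Category.assoc _ _ _).symm
        exact ConcreteCategory.congr_hom (Spec.map_injective h1) c }
  refine ⟨Γ(G.left, U), inferInstance, inferInstance, inferInstance, σ0, j,
    inferInstanceAs (IsOpenImmersion hU.fromSpec), Over.OverMorphism.ext hfac, ?_, ?_, fun _ => ?_⟩
  · intro a b hab
    exact G.left.germToFunctionField_injective U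
      (((G.left.presheaf.germ_stalkSpecializes_apply hxU
          ((genericPoint_spec G.left).specializes trivial) a).symm.trans hab).trans
        (G.left.presheaf.germ_stalkSpecializes_apply hxU ((genericPoint_spec G.left).specializes trivial) b))
  · intro a
    haveI := functionField_isFractionRing_of_isAffineOpen G.left U hU
    obtain ⟨n, d, hd, rfl⟩ := IsFractionRing.div_surjective (A := Γ(G.left, U)) (K := G.left.functionField) a
    have e : ∀ r : Γ(G.left, U), toKG x (σ0 r) = algebraMap Γ(G.left, U) G.left.functionField r := fun r =>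
      G.left.presheaf.germ_stalkSpecializes_apply hxU ((genericPoint_spec G.left).specializes trivial) r
    have hd0 : algebraMap Γ(G.left, U) G.left.functionField d ≠ 0 :=
      IsFractionRing.to_map_ne_zero_of_mem_nonZeroDivisors hd
    refine ⟨n, d, ?_, ?_⟩
    · rw [e]; exact hd0
    · rw [e, e]; exact div_mul_cancel₀ _ hd0
  · have h : LocallyOfFiniteType (hU.fromSpec ≫ G.hom) := inferInstance
    rw [← hw, HasRingHomProperty.Spec_iff (P := @LocallyOfFiniteType)] at h
    exact RingHom.finiteType_algebraMap.1 h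

variable (G : Over (Spec (CommRingCat.of k))) [GrpObj G] [IsIntegral G.left]

/-- constant points -/
abbrev cst {R : Type u} [CommRing R] [Algebra k R] (g : SP k k ⟶ G) : SP k R ⟶ G :=
  spA (Algebra.ofId k R) ≫ g

variable {G}

theorem spA_cst {R R' : Type u} [CommRing R] [Algebra k R] [CommRing R'] [Algebra k R'] (φ : R →ₐ[k] R')
    (g : SP k k ⟶ G) : spA φ ≫ cst G g = cst G g := by
  rw [← Category.assoc, ← spA_comp]
  congr 2
  exact Subsingleton.elim _ _

theorem cst_self (g : SP k k ⟶ G) : cst G (R := k) g = g := by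
  show spA (Algebra.ofId k k) ≫ g = g
  rw [show Algebra.ofId k k = AlgHom.id k k from Subsingleton.elim _ _, spA_id, Category.id_comp]

theorem cst_mul {R : Type u} [CommRing R] [Algebra k R] (g h : SP k k ⟶ G) :
    cst G (R := R) (g * h) = cst G g * cst G h := MonObj.comp_mul _ _ _

theorem cst_inv {R : Type u} [CommRing R] [Algebra k R] (g : SP k k ⟶ G) :
    cst G (R := R) g⁻¹ = (cst G g)⁻¹ := GrpObj.comp_inv _ _

theorem cst_one {R : Type u} [CommRing R] [Algebra k R] : cst G (R := R) 1 = 1 := MonObj.comp_one _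

theorem closedPoint_comp_iso (f : G ⟶ G) [IsIso f] :
    (ξ G ≫ f).left (IsLocalRing.closedPoint (KG G)) = genericPoint G.left := by
  haveI : IsIso f.left := inferInstanceAs (IsIso ((Over.forget _).map f))
  show f.left ((ξ G).left (IsLocalRing.closedPoint (KG G))) = _
  rw [ptSt_closedPoint]
  exact genericPoint_eq_of_isOpenImmersion f.left

theorem exists_tr (g : SP k k ⟶ G) : ∃ t : KG G →ₐ[k] KG G, spA t ≫ ξ G = cst G g * ξ G := by
  have key : ∀ a b : SP k k ⟶ G, ((str G ≫ a) * 𝟙 G) ≫ ((str G ≫ b) * 𝟙 G) = (str G ≫ (b * a)) * 𝟙 G := by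
    intro a b
    rw [MonObj.comp_mul, ← Category.assoc, hom_to_SP_ext (((str G ≫ a) * 𝟙 G) ≫ str G) (str G), Category.comp_id,
      MonObj.comp_mul, _root_.mul_assoc]
  haveI : IsIso ((str G ≫ g) * 𝟙 G) := ⟨(str G ≫ g⁻¹) * 𝟙 G,
    by rw [key, _root_.inv_mul_cancel, MonObj.comp_one, _root_.one_mul],
    by rw [key, _root_.mul_inv_cancel, MonObj.comp_one, _root_.one_mul]⟩
  obtain ⟨t, ht⟩ := exists_emb (ξ G ≫ ((str G ≫ g) * 𝟙 G)) (closedPoint_comp_iso _)
  refine ⟨t, ht.trans ?_⟩
  rw [MonObj.comp_mul, Category.comp_id, ← Category.assoc, hom_to_SP_ext (ξ G ≫ str G) (spA (Algebra.ofId k _))]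

theorem exists_inv : ∃ t : KG G →ₐ[k] KG G, spA t ≫ ξ G = (ξ G)⁻¹ := by
  obtain ⟨t, ht⟩ := exists_emb (ξ G ≫ ι[G]) (closedPoint_comp_iso _)
  exact ⟨t, ht.trans (Hom.inv_def _).symm⟩

theorem exists_lift_mul [IsAlgClosed k] [Smooth G.hom] {F : Type u} [Field F] [Algebra k F]
    (ρ₁ ρ₂ : KG G →ₐ[k] F)
    (hinj : Function.Injective (Algebra.TensorProduct.lift ρ₁ ρ₂ (fun _ _ => Commute.all _ _))) :
    ∃ e : KG G →ₐ[k] F, spA e ≫ ξ G = (spA ρ₁ ≫ ξ G) * (spA ρ₂ ≫ ξ G) := by
  obtain ⟨R, _, _, _, σ0, j, _, hj, hι, -⟩ := exists_chart G (genericPoint G.left)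
  let P := Spec (CommRingCat.of (R ⊗[k] R))
  haveI : IsDomain (R ⊗[k] R) := Groth.L25.GeomIrred.isDomain_tensorProduct
  let q : P ⟶ (G ⊗ G).left := (pullbackSpecIso k R R).inv ≫
    pullback.map _ _ _ _ j.left j.left (𝟙 _) (by simp) (by simp)
  haveI : IsOpenImmersion q := inferInstanceAs (IsOpenImmersion ((pullbackSpecIso k R R).inv ≫
    pullback.map _ _ _ _ j.left j.left (𝟙 _) (by simp) (by simp)))
  let σ : R →ₐ[k] KG G := σ0
  have hσ : Function.Injective σ := by
    intro a b hab
    exact hι (congrArg (toKG (genericPoint G.left)) hab)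
  let m : R ⊗[k] R →ₐ[k] F :=
    (Algebra.TensorProduct.lift ρ₁ ρ₂ (fun _ _ => Commute.all _ _)).comp (Algebra.TensorProduct.map σ σ)
  have hm : Function.Injective m :=
    hinj.comp (TensorProduct.map_injective_of_flat_flat σ.toLinearMap σ.toLinearMap hσ hσ)
  have hfac : Spec.map (CommRingCat.ofHom m.toRingHom) ≫ q = (lift (spA ρ₁ ≫ ξ G) (spA ρ₂ ≫ ξ G)).left := by
    apply pullback.hom_ext
    · show (_ ≫ q) ≫ pullback.fst _ _ = _
      rw [Category.assoc, Category.assoc, pullback.lift_fst, ← Category.assoc (pullbackSpecIso k R R).inv,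
        pullbackSpecIso_inv_fst, ← Category.assoc, ← Spec.map_comp]
      have h2 : (lift (spA ρ₁ ≫ ξ G) (spA ρ₂ ≫ ξ G)).left ≫ pullback.fst _ _ = (spA ρ₁ ≫ ξ G).left :=
        congrArg (fun v => v.left) (lift_fst (spA ρ₁ ≫ ξ G) (spA ρ₂ ≫ ξ G))
      rw [h2, show ξ G = spA σ0 ≫ j from hj.symm, ← Category.assoc (spA ρ₁), ← spA_comp, Over.comp_left, spA_left]
      congr 2
      exact CommRingCat.hom_ext (RingHom.ext fun r => by simp [m, σ])
    · show (_ ≫ q) ≫ pullback.snd _ _ = _
      rw [Category.assoc, Category.assoc, pullback.lift_snd, ← Category.assoc (pullbackSpecIso k R R).inv,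
        pullbackSpecIso_inv_snd, ← Category.assoc, ← Spec.map_comp]
      have h2 : (lift (spA ρ₁ ≫ ξ G) (spA ρ₂ ≫ ξ G)).left ≫ pullback.snd _ _ = (spA ρ₂ ≫ ξ G).left :=
        congrArg (fun v => v.left) (lift_snd (spA ρ₁ ≫ ξ G) (spA ρ₂ ≫ ξ G))
      rw [h2, show ξ G = spA σ0 ≫ j from hj.symm, ← Category.assoc (spA ρ₂), ← spA_comp, Over.comp_left, spA_left]
      congr 2
      exact CommRingCat.hom_ext (RingHom.ext fun r => by simp [m, σ])
  haveI : GeometricallyIrreducible G.hom := Groth.L25.GeomIrred.geometricallyIrreducible_of_isAlgClosed G.hom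
  haveI : UniversallyOpen G.hom := inferInstance
  haveI : IrreducibleSpace ↥(G ⊗ G).left := inferInstanceAs (IrreducibleSpace ↥(pullback G.hom G.hom))
  let w := (lift (spA ρ₁ ≫ ξ G) (spA ρ₂ ≫ ξ G)).left (IsLocalRing.closedPoint F)
  have hw : w = genericPoint ↥(G ⊗ G).left := by
    show (lift (spA ρ₁ ≫ ξ G) (spA ρ₂ ≫ ξ G)).left (IsLocalRing.closedPoint F) = _
    rw [← hfac, ← genericPoint_eq_of_isOpenImmersion q, Scheme.Hom.comp_apply]
    congr 1
    show PrimeSpectrum.comap m.toRingHom (IsLocalRing.closedPoint F) = _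
    rw [genericPoint_eq_bot_of_affine]
    refine PrimeSpectrum.ext ?_
    show Ideal.comap m.toRingHom (IsLocalRing.maximalIdeal F) = ⊥
    rw [IsLocalRing.maximalIdeal_eq_bot]
    exact Ideal.comap_bot_of_injective _ hm
  have hsurj : Function.Surjective μ[G].left := fun y => ⟨(lift (toUnit G ≫ η[G]) (𝟙 G)).left y, by
    rw [← Scheme.Hom.comp_apply, ← Over.comp_left, ← Hom.mul_def, ← Hom.one_def, _root_.one_mul]
    rfl⟩
  have hgen : μ[G].left w = genericPoint G.left := by
    rw [hw]
    exact ((genericPoint_spec ↥(G ⊗ G).left).image μ[G].left.continuous).eq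
      (by rw [Set.image_univ, hsurj.range_eq, closure_univ]; exact genericPoint_spec G.left)
  refine exists_emb ((spA ρ₁ ≫ ξ G) * (spA ρ₂ ≫ ξ G)) ?_
  rw [Hom.mul_def, Over.comp_left, Scheme.Hom.comp_apply]
  exact hgen

end Groth.L08.Chev
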