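import Groth.Agent.L08.Chev.Local
import Groth.Agent.L08.Chev.Divisorial

/-!
# Pairs of points where the group law is regular
-/

set_option autoImplicit false
set_option backward.isDefEq.respectTransparency.types false
set_option linter.style.haveILetI false
set_option linter.unusedSectionVars false

universe u

open CategoryTheory CategoryTheory.Limits MonoidalCategory CartesianMonoidalCategory MonObj GrpObj AlgebraicGeometry TensorProduct

noncomputable section

namespace Groth.L08.Chev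

variable {k : Type u} [Field k] {G : Over (Spec (CommRingCat.of k))} [GrpObj G] [IsIntegral G.left]
  [Smooth G.hom] [IsAlgClosed k]

theorem eq_zero_of_sum_tmul' {E : Type u} [AddCommGroup E] [Module k E] {M : Type u} [AddCommGroup M] [Module k M] {n : ℕ} {c : Fin n → E}
    (hc : LinearIndependent k c) {m : Fin n → M} (h : ∑ i, c i ⊗ₜ[k] m i = 0) (i : Fin n) : m i = 0 := by
  classical
  let b := Module.Basis.extend hc.linearIndepOn_id
  have hidx : ∀ l, ∃ s, b s = c l := fun l =>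
    ⟨⟨c l, LinearIndepOn.subset_extend _ _ ⟨l, rfl⟩⟩, Module.Basis.extend_apply_self _ _⟩
  choose s hs using hidx
  have hsinj : Function.Injective s := fun l l' hll => hc.injective (by rw [← hs, ← hs, hll])
  have hz := congrArg (fun g => TensorProduct.equivFinsuppOfBasisLeft b g (s i)) h
  simp only [map_sum, map_zero, Finsupp.coe_finsetSum, Finset.sum_apply, Finsupp.coe_zero, Pi.zero_apply,
    TensorProduct.equivFinsuppOfBasisLeft_apply_tmul_apply] at hz
  rw [Finset.sum_eq_single i (fun l _ hl => by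
      rw [← hs l, b.repr_self, Finsupp.single_eq_of_ne (fun h' => hl (hsinj h'.symm)), zero_smul])
    (fun h' => absurd (Finset.mem_univ i) h'), ← hs i, b.repr_self, Finsupp.single_eq_same, one_smul] at hz
  exact hz

section Good

variable {R : Type u} [CommRing R] [Algebra k R] (κ : R →ₐ[k] KG G) (A : Subalgebra k (KG G))

/-- the coordinate rings of the product inside the square -/
def JA : R ⊗[k] A →ₐ[k] Dbl G :=
  (J κ).comp (Algebra.TensorProduct.map (AlgHom.id k R) A.val)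

theorem JA_tmul (r : R) (a : A) : JA κ A (r ⊗ₜ a) = e₁ G (κ r) * e₂ G a := by
  simp [JA, J]

theorem JA_injective (hκ : Function.Injective κ) : Function.Injective (JA κ A) :=
  (J_injective hκ).comp
    (Module.Flat.lTensor_preserves_injective_linearMap (M := R) A.val.toLinearMap Subtype.val_injective)

/-- `φ a` is regular at `(γ, z)` with value `c` -/
def Good (γ : R →ₐ[k] k) (z : A →ₐ[k] k) (φ : KG G →ₐ[k] Dbl G) (a : KG G) (c : k) : Prop :=
  ∃ n f : R ⊗[k] A, z (π γ f) ≠ 0 ∧ φ a * JA κ A f = JA κ A n ∧ z (π γ n) = z (π γ f) * c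

variable {κ A} {γ : R →ₐ[k] k} {z : A →ₐ[k] k} {φ : KG G →ₐ[k] Dbl G}

theorem Good.unique (hκ : Function.Injective κ) {a : KG G} {c c' : k} (h : Good κ A γ z φ a c)
    (h' : Good κ A γ z φ a c') : c = c' := by
  obtain ⟨n, f, hf, e, hn⟩ := h
  obtain ⟨n', f', hf', e', hn'⟩ := h'
  have : n * f' = n' * f := JA_injective κ A hκ (by rw [map_mul, map_mul, ← e, ← e']; ring)
  have h2 := congrArg (fun x => z (π γ x)) this
  simp only [map_mul, hn, hn'] at h2
  refine mul_left_cancel₀ (mul_ne_zero hf hf') ?_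
  linear_combination h2

theorem Good.add {a b : KG G} {c d : k} (h : Good κ A γ z φ a c) (h' : Good κ A γ z φ b d) :
    Good κ A γ z φ (a + b) (c + d) := by
  obtain ⟨n, f, hf, e, hn⟩ := h
  obtain ⟨n', f', hf', e', hn'⟩ := h'
  refine ⟨n * f' + n' * f, f * f', ?_, ?_, ?_⟩
  · rw [map_mul, map_mul]; exact mul_ne_zero hf hf'
  · rw [map_add, map_add, map_mul, map_mul, map_mul, ← e, ← e']; ring
  · simp only [map_add, map_mul, hn, hn']; ring

theorem Good.mul {a b : KG G} {c d : k} (h : Good κ A γ z φ a c) (h' : Good κ A γ z φ b d) :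
    Good κ A γ z φ (a * b) (c * d) := by
  obtain ⟨n, f, hf, e, hn⟩ := h
  obtain ⟨n', f', hf', e', hn'⟩ := h'
  refine ⟨n * n', f * f', ?_, ?_, ?_⟩
  · rw [map_mul, map_mul]; exact mul_ne_zero hf hf'
  · rw [map_mul, map_mul, map_mul, ← e, ← e']; ring
  · simp only [map_mul, hn, hn']; ring

theorem Good.const (c : k) : Good κ A γ z φ (algebraMap k (KG G) c) c :=
  ⟨algebraMap k (R ⊗[k] A) c, 1, by simp, by rw [AlgHom.commutes, AlgHom.commutes, map_one, _root_.mul_one],
    by rw [AlgHom.commutes, AlgHom.commutes, map_one, map_one, _root_.one_mul, Algebra.algebraMap_self_apply]⟩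

/-- regularity at the generators gives the value homomorphism -/
theorem exists_hom_good (hκ : Function.Injective κ) (T : Set A) (hT : Algebra.adjoin k T = ⊤)
    (h : ∀ a ∈ T, ∃ c, Good κ A γ z φ a c) :
    ∃ w : A →ₐ[k] k, ∀ a : A, Good κ A γ z φ a (w a) := by
  let U : Subalgebra k A :=
    { carrier := {a | ∃ c, Good κ A γ z φ a c}
      mul_mem' := fun {a b} ⟨c, hc⟩ ⟨d, hd⟩ => ⟨c * d, hc.mul hd⟩
      add_mem' := fun {a b} ⟨c, hc⟩ ⟨d, hd⟩ => ⟨c + d, hc.add hd⟩
      algebraMap_mem' := fun c => ⟨c, Good.const c⟩ }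
  have hU : ∀ a : A, ∃ c, Good κ A γ z φ a c := fun a =>
    Algebra.adjoin_le (S := U) h (hT.symm ▸ (trivial : a ∈ (⊤ : Subalgebra k A)))
  choose c hc using hU
  exact ⟨{ toFun := c
           map_one' := Good.unique hκ (hc 1) (by simpa using Good.const (φ := φ) (1 : k))
           map_mul' := fun a b => Good.unique hκ (hc _) ((hc a).mul (hc b))
           map_zero' := Good.unique hκ (hc 0) (by simpa using Good.const (φ := φ) (0 : k))
           map_add' := fun a b => Good.unique hκ (hc _) ((hc a).add (hc b))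
           commutes' := fun r => Good.unique hκ (hc _) (Good.const r) }, hc⟩

theorem π_val (x : R ⊗[k] A) :
    π γ (Algebra.TensorProduct.map (AlgHom.id k R) A.val x) = ((π γ x : A) : KG G) := by
  induction x using TensorProduct.induction_on with
  | zero => simp
  | tmul r a => simp [π_tmul]
  | add x y hx hy => simp [hx, hy]

/-- the regular values are those of the translation -/
theorem Good.inLoc (hκ : Function.Injective κ) (P : SP k R ⟶ G)
    (hφ : spA φ ≫ ξ G = (spA ((e₁ G).comp κ) ≫ P) * (spA (e₂ G) ≫ ξ G)) {a : KG G} {c : k}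
    (h : Good κ A γ z φ a c) : InLoc A z (tr (spA γ ≫ P) a) c := by
  obtain ⟨n, f, hf, e, hn⟩ := h
  refine ⟨π γ n, π γ f, hf, ?_, hn⟩
  rw [← π_val, ← π_val]
  exact spec_eq hκ γ P φ hφ e

end Good

variable (G) in
/-- a translation invariant divisorial valuation and its model -/
structure Datum (n : ℕ) where
  V : ValuationSubring (KG G)
  V₁ : ValuationSubring (Dbl G)
  gauss : Gauss (e₁ G) (e₂ G) V V₁
  shear_inv : V₁.comap (shear G).toRingHom = V₁
  A : Subalgebra k (KG G)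
  fg : A.FG
  frac : IsFractionRing A (KG G)
  mem : ∀ a : A, (a : KG G) ∈ V
  repr : ∀ a : KG G, a ∈ V → ∃ x d : KG G, x ∈ A ∧ d ∈ A ∧ V.valuation d = 1 ∧ a * d = x
  p : Ideal A
  isPrime : p.IsPrime
  mem_p : ∀ a : A, a ∈ p ↔ V.valuation (a : KG G) < 1
  e : ℕ
  dim : ringKrullDim (A ⧸ p) = (e : WithBot ℕ∞)
  he : e + 1 = n
  trdeg : Algebra.trdeg k (KG G) = n

theorem exists_datum [QuasiCompact G.hom] (hG : ¬ IsProper G.hom) : ∃ n, Nonempty (Datum G n) := by
  haveI : IsSeparated G.hom := Groth.Agent.AV.isSeparated_of_grpObj G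
  obtain ⟨n, hn⟩ := exists_trdeg (G := G)
  obtain ⟨V₀, hk₀, hc₀, t, ht⟩ := exists_divisorial hn hG
  obtain ⟨V₁, hV, hc, t', ht'⟩ := exists_invariant hn hk₀ hc₀ ht
  have hk : ∀ c : k, algebraMap k (KG G) c ∈ V₁.comap (δ G).toRingHom := fun c => by
    show δ G (algebraMap k (KG G) c) ∈ V₁
    rw [(δ G).commutes, ← (e₁ G).commutes]; exact hV.mem_ε _
  obtain ⟨A, hA, hfr, hmem, hrepr, p, hp, hmemp, e, hdim, he⟩ := exists_divModel hn _ hk hc ht'
  obtain ⟨V₁', hg, hsh⟩ := exists_gauss_invariant hk₀ hV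
  exact ⟨n, ⟨⟨_, V₁', hg, hsh, A, hA, hfr, hmem, hrepr, p, hp, hmemp, e, hdim, he, hn⟩⟩⟩

namespace Datum

variable {n : ℕ} (M : Datum G n) {R : Type u} [CommRing R] [Algebra k R] {κ : R →ₐ[k] KG G}

theorem JA_mem (x : R ⊗[k] M.A) : JA κ M.A x ∈ M.V₁ := by
  induction x using TensorProduct.induction_on with
  | zero => rw [map_zero]; exact M.V₁.zero_mem
  | tmul r a => rw [JA_tmul]; exact M.V₁.mul_mem _ _ (M.gauss.mem_ε _) (M.gauss.mem_ρ _ (M.mem a))
  | add x y hx hy => rw [map_add]; exact M.V₁.add_mem _ _ hx hy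

theorem exists_expansion (x : R ⊗[k] M.A) :
    ∃ (m : ℕ) (c : Fin m → R) (a : Fin m → M.A), LinearIndependent k c ∧ x = ∑ i, c i ⊗ₜ[k] a i := by
  classical
  let b := Module.Basis.ofVectorSpace k R
  let z := TensorProduct.equivFinsuppOfBasisLeft b x
  let e := z.support.equivFin
  refine ⟨z.support.card, fun i => b (e.symm i).1, fun i => z (e.symm i).1,
    b.linearIndependent.comp _ (Subtype.val_injective.comp e.symm.injective), ?_⟩
  rw [e.symm.sum_comp (fun i : z.support => b i.1 ⊗ₜ[k] z i.1), Finset.sum_coe_sort z.support (fun i => b i ⊗ₜ[k] z i)]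
  refine (((TensorProduct.equivFinsuppOfBasisLeft b).symm_apply_apply x).symm).trans ?_
  rw [TensorProduct.equivFinsuppOfBasisLeft_symm_apply]
  rfl

theorem eval_eq_zero (hκ : Function.Injective κ) {x : R ⊗[k] M.A} (hx : M.V₁.valuation (JA κ M.A x) < 1)
    (γ : R →ₐ[k] k) {z : M.A →ₐ[k] k} (hz : ∀ a ∈ M.p, z a = 0) : z (π γ x) = 0 := by
  obtain ⟨m, c, a, hc, rfl⟩ := M.exists_expansion x
  have hall : ∀ i, a i ∈ M.p := by
    by_contra h
    push Not at h
    obtain ⟨i, hi⟩ := h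
    refine M.gauss.sum_unit m (κ ∘ c) (fun i => (a i : KG G))
      (hc.map' κ.toLinearMap (LinearMap.ker_eq_bot.2 hκ)) (fun i => M.mem _) ⟨i, fun hlt => hi ((M.mem_p _).2 hlt)⟩ ?_
    simpa [map_sum, JA_tmul] using hx
  simp [map_sum, π_tmul, hz _ (hall _)]

theorem image_ne_zero {x : R ⊗[k] M.A} (hx : M.V₁.valuation (JA κ M.A x) = 1) :
    Algebra.TensorProduct.map (AlgHom.id k R) (Ideal.Quotient.mkₐ k M.p) x ≠ 0 := by
  intro h0
  obtain ⟨m, c, a, hc, rfl⟩ := M.exists_expansion x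
  simp only [map_sum, Algebra.TensorProduct.map_tmul] at h0
  have hall : ∀ i, a i ∈ M.p := fun i => by
    haveI := M.isPrime
    have := eq_zero_of_sum_tmul' hc h0 i
    rwa [Ideal.Quotient.mkₐ_eq_mk, Ideal.Quotient.eq_zero_iff_mem] at this
  refine hx.not_lt ?_
  rw [map_sum]
  refine Valuation.map_sum_lt _ one_ne_zero fun i _ => ?_
  rw [JA_tmul, map_mul]
  exact lt_of_le_of_lt (mul_le_of_le_one_left zero_le ((M.V₁.valuation_le_one_iff _).2 (M.gauss.mem_ε _)))
    (M.gauss.lt_ρ _ ((M.mem_p _).1 (hall i)))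

variable (hκ : Function.Injective κ)
  (hfrac : ∀ a : KG G, ∃ n d : R, κ d ≠ 0 ∧ a * κ d = κ n)

include hκ in
theorem normalise (x : R ⊗[k] M.A) (hx : x ≠ 0) :
    ∃ (r : KG G) (d : M.A) (x' : R ⊗[k] M.A), r ≠ 0 ∧ M.V.valuation (d : KG G) = 1 ∧
      M.V₁.valuation (JA κ M.A x') = 1 ∧ JA κ M.A x * e₂ G d = e₂ G r * JA κ M.A x' := by
  classical
  obtain ⟨m, c, a, hc, rfl⟩ := M.exists_expansion x
  have ha : ∃ i, (a i : KG G) ≠ 0 := by
    by_contra h
    push Not at h
    refine hx (Finset.sum_eq_zero fun i _ => ?_)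
    rw [show a i = 0 from Subtype.ext (h i), tmul_zero]
  obtain ⟨j, hj, hq⟩ := exists_scale M.V (fun i => (a i : KG G)) ha
  have hrep : ∀ i, ∃ u d : M.A, M.V.valuation (d : KG G) = 1 ∧ (a i : KG G) / a j * d = u := fun i => by
    obtain ⟨u, d, hu, hd, hd1, he⟩ := M.repr _ (hq i)
    exact ⟨⟨u, hu⟩, ⟨d, hd⟩, hd1, he⟩
  choose u d hd he using hrep
  let d' : M.A := ∏ i, d i
  have hd' : M.V.valuation (d' : KG G) = 1 := by
    simp only [d', SubmonoidClass.coe_finsetProd, map_prod, hd, Finset.prod_const_one]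
  let b : Fin m → M.A := fun i => u i * ∏ l ∈ Finset.univ.erase i, d l
  have hb : ∀ i, (b i : KG G) = (a i : KG G) / a j * d' := fun i => by
    simp only [b, d', MulMemClass.coe_mul, ← he i]
    rw [_root_.mul_assoc, ← MulMemClass.coe_mul, Finset.mul_prod_erase _ _ (Finset.mem_univ i)]
  refine ⟨a j, d', ∑ i, c i ⊗ₜ b i, hj, hd', le_antisymm ((M.V₁.valuation_le_one_iff _).2 (M.JA_mem _))
    (not_lt.1 fun hlt => ?_), ?_⟩
  · refine M.gauss.sum_unit m (κ ∘ c) (fun i => (b i : KG G))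
      (hc.map' κ.toLinearMap (LinearMap.ker_eq_bot.2 hκ)) (fun i => M.mem _) ⟨j, ?_⟩ ?_
    · rw [hb, div_self hj, _root_.one_mul, hd']; exact lt_irrefl _
    · simpa [map_sum, JA_tmul] using hlt
  · simp only [map_sum, JA_tmul, Finset.sum_mul, Finset.mul_sum]
    refine Finset.sum_congr rfl fun i _ => ?_
    rw [hb, map_mul, map_div₀]
    field_simp [(map_ne_zero (e₂ G)).2 hj]

include hκ hfrac in
/-- elements of the valuation ring are quotients by units of the model -/
theorem exists_frac {f : Dbl G} (hf : f ∈ M.V₁) :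
    ∃ N D : R ⊗[k] M.A, M.V₁.valuation (JA κ M.A D) = 1 ∧ f * JA κ M.A D = JA κ M.A N := by
  by_cases hf0 : f = 0
  · exact ⟨0, 1, by simp, by simp [hf0]⟩
  haveI := M.frac
  have key : ∀ y : KG G ⊗[k] KG G, ∃ N D : R ⊗[k] M.A, JA κ M.A D ≠ 0 ∧
      Algebra.TensorProduct.lift (e₁ G) (e₂ G) (fun _ _ => Commute.all _ _) y * JA κ M.A D = JA κ M.A N := by
    intro y
    induction y using TensorProduct.induction_on with
    | zero => exact ⟨0, 1, by simp, by simp⟩
    | tmul a b =>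
      obtain ⟨n, d, hd, he⟩ := hfrac a
      obtain ⟨n', d', hd', rfl⟩ := IsFractionRing.div_surjective (A := M.A) b
      have hd0 : (d' : KG G) ≠ 0 := fun h0 => nonZeroDivisors.ne_zero hd' (Subtype.ext h0)
      refine ⟨n ⊗ₜ n', d ⊗ₜ d', ?_, ?_⟩
      · rw [JA_tmul]; exact mul_ne_zero ((map_ne_zero (e₁ G)).2 hd) ((map_ne_zero (e₂ G)).2 hd0)
      · rw [Algebra.TensorProduct.lift_tmul, JA_tmul, JA_tmul, ← he, map_mul,
          ← show (n' : KG G) / d' * d' = n' from div_mul_cancel₀ _ hd0, map_mul]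
        show e₁ G a * e₂ G ((n' : KG G) / d') * _ = _
        ring
    | add y z hy hz =>
      obtain ⟨N, D, hD, e⟩ := hy
      obtain ⟨N', D', hD', e'⟩ := hz
      refine ⟨N * D' + N' * D, D * D', by rw [map_mul]; exact mul_ne_zero hD hD', ?_⟩
      simp only [map_add, map_mul, ← e, ← e']; ring
  obtain ⟨y, y', hy', he⟩ := isGen_e G f
  obtain ⟨N₁, D₁, hD₁, h₁⟩ := key y
  obtain ⟨N₂, D₂, hD₂, h₂⟩ := key y'
  have hN₂ : JA κ M.A N₂ ≠ 0 := by rw [← h₂]; exact mul_ne_zero hy' hD₂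
  have e0 : f * JA κ M.A (N₂ * D₁) = JA κ M.A (N₁ * D₂) := by
    rw [map_mul, map_mul, ← h₁, ← h₂, ← he]; ring
  have hne : N₂ * D₁ ≠ 0 := fun h => by
    have := congrArg (JA κ M.A) h
    rw [map_mul, map_zero] at this
    exact mul_ne_zero hN₂ hD₁ this
  have hne' : N₁ * D₂ ≠ 0 := fun h => by
    rw [h, map_zero] at e0
    exact mul_ne_zero hf0 (by rw [map_mul]; exact mul_ne_zero hN₂ hD₁) e0
  obtain ⟨r, d, x, hr, hd, hx, hxe⟩ := M.normalise hκ _ hne
  obtain ⟨r', d', x', hr', hd', hx', hxe'⟩ := M.normalise hκ _ hne'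
  have hd0 : (d : KG G) ≠ 0 := fun h => by simp [h] at hd
  have hd0' : (d' : KG G) ≠ 0 := fun h => by simp [h] at hd'
  let q : KG G := r' * d / (r * d')
  have eq : f * JA κ M.A x = e₂ G q * JA κ M.A x' := by
    have h1 : f * JA κ M.A x * (e₂ G r * e₂ G d') = e₂ G r' * e₂ G d * JA κ M.A x' := by
      linear_combination (-f * e₂ G d') * hxe + (e₂ G d * e₂ G d') * e0 + e₂ G d * hxe'
    rw [show e₂ G q = e₂ G r' * e₂ G d / (e₂ G r * e₂ G d') from by simp [q]]
    field_simp [(map_ne_zero (e₂ G)).2 hr, (map_ne_zero (e₂ G)).2 hd0']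
    linear_combination h1
  have hq : q ∈ M.V := by
    rw [← M.gauss.comap_eq, ← M.V₁.valuation_le_one_iff]
    have h1 := congrArg M.V₁.valuation eq
    rw [map_mul, map_mul, hx, hx', _root_.mul_one, _root_.mul_one] at h1
    rw [← h1]
    exact (M.V₁.valuation_le_one_iff _).2 hf
  obtain ⟨u, s, hu, hs, hs1, he'⟩ := M.repr q hq
  refine ⟨((1 : R) ⊗ₜ ⟨u, hu⟩) * x', ((1 : R) ⊗ₜ ⟨s, hs⟩) * x, ?_, ?_⟩
  · rw [map_mul, map_mul, JA_tmul, map_one, map_one, _root_.one_mul, M.gauss.valuation_ρ hs1, hx, _root_.one_mul]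
  · simp only [map_mul, JA_tmul, map_one, _root_.one_mul, ← he']
    linear_combination e₂ G s * eq

/-- `φ` maps the valuation ring into its extension, strictly -/
theorem shear_valuation (x : Dbl G) : M.V₁.valuation (shear G x) < 1 ↔ M.V₁.valuation x < 1 := by
  have := valuation_comap_lt_one (shear G).toRingHom M.V₁ x
  rw [M.shear_inv] at this
  exact this.symm

theorem shear_mem (x : Dbl G) : shear G x ∈ M.V₁ ↔ x ∈ M.V₁ := SetLike.ext_iff.1 M.shear_inv x

theorem δ_mem {a : KG G} (ha : a ∈ M.V) : δ G a ∈ M.V₁ := by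
  rw [← DFunLike.congr_fun shear_e₂ a]
  exact (M.shear_mem _).2 (M.gauss.mem_ρ a ha)

theorem δ_lt {a : KG G} (ha : M.V.valuation a < 1) : M.V₁.valuation (δ G a) < 1 := by
  rw [← DFunLike.congr_fun shear_e₂ a]
  exact (M.shear_valuation _).2 (M.gauss.lt_ρ a ha)

theorem ψ_mem {a : KG G} (ha : a ∈ M.V) : ψ G a ∈ M.V₁ := by
  rw [← M.shear_mem, show shear G (ψ G a) = e₂ G a from DFunLike.congr_fun shear_ψ a]
  exact M.gauss.mem_ρ a ha

theorem good_shear {γ : R →ₐ[k] k} {z w : M.A →ₐ[k] k} (hw : ∀ a : M.A, Good κ M.A γ z (δ G) a (w a))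
    (x : R ⊗[k] M.A) :
    ∃ N D : R ⊗[k] M.A, z (π γ D) ≠ 0 ∧ shear G (JA κ M.A x) * JA κ M.A D = JA κ M.A N ∧
      z (π γ N) = z (π γ D) * w (π γ x) := by
  induction x using TensorProduct.induction_on with
  | zero => exact ⟨0, 1, by simp, by simp, by simp⟩
  | tmul r a =>
    obtain ⟨N, D, hD, e, hN⟩ := hw a
    refine ⟨(r ⊗ₜ 1) * N, D, hD, ?_, ?_⟩
    · rw [map_mul, JA_tmul, JA_tmul, map_mul, show shear G (e₁ G (κ r)) = e₁ G (κ r) from DFunLike.congr_fun shear_e₁ _,
        show shear G (e₂ G (a : KG G)) = δ G a from DFunLike.congr_fun shear_e₂ _, ← e]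
      simp only [OneMemClass.coe_one, map_one, _root_.mul_one]
      ring
    · simp only [map_mul, π_tmul, map_smul, hN, map_one, smul_eq_mul]
      ring
  | add x y hx hy =>
    obtain ⟨N, D, hD, e, hN⟩ := hx
    obtain ⟨N', D', hD', e', hN'⟩ := hy
    refine ⟨N * D' + N' * D, D * D', by rw [map_mul, map_mul]; exact mul_ne_zero hD hD', ?_, ?_⟩
    · simp only [map_add, map_mul, ← e, ← e']; ring
    · simp only [map_add, map_mul, hN, hN']; ring

theorem exists_fraction_data (a : M.A) (hfrac : ∀ a : KG G, ∃ n d : R, κ d ≠ 0 ∧ a * κ d = κ n)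
    (hκ : Function.Injective κ) :
    ∃ N D N' D' Nf Df : R ⊗[k] M.A, M.V₁.valuation (JA κ M.A (D * Df * Nf)) = 1 ∧
      δ G a * JA κ M.A D = JA κ M.A N ∧ ψ G a * JA κ M.A D' = JA κ M.A N' ∧
      shear G (JA κ M.A D') * JA κ M.A Df = JA κ M.A Nf := by
  obtain ⟨N, D, hD, h⟩ := M.exists_frac hκ hfrac (M.δ_mem (M.mem a))
  obtain ⟨N', D', hD', h'⟩ := M.exists_frac hκ hfrac (M.ψ_mem (M.mem a))
  have hmem : shear G (JA κ M.A D') ∈ M.V₁ := (M.shear_mem _).2 (M.JA_mem _)
  have h1 : M.V₁.valuation (shear G (JA κ M.A D')) = 1 :=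
    le_antisymm ((M.V₁.valuation_le_one_iff _).2 hmem) (not_lt.1 fun hlt =>
      ((M.shear_valuation _).1 hlt).ne hD')
  obtain ⟨Nf, Df, hDf, hf⟩ := M.exists_frac hκ hfrac hmem
  refine ⟨N, D, N', D', Nf, Df, ?_, h, h', hf⟩
  rw [map_mul, map_mul, map_mul, map_mul, ← hf, map_mul, hD, hDf, h1]
  simp

end Datum

end Groth.L08.Chev
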