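import Groth.Agent.L08.Chev.Invariant

/-!
# The shear of the square and the translation invariance of the valuation
-/

set_option autoImplicit false
set_option backward.isDefEq.respectTransparency.types false
set_option linter.style.haveILetI false
set_option linter.unusedSectionVars false

universe u

open CategoryTheory CategoryTheory.Limits MonoidalCategory CartesianMonoidalCategory MonObj GrpObj AlgebraicGeometry TensorProduct

noncomputable section

namespace Groth.L08.Chev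

variable {k : Type u} [Field k] {G : Over (Spec (CommRingCat.of k))} [IsIntegral G.left]

/-- the field maps out of a fraction field keep a tensor lift injective -/
theorem lift_fraction_injective {A S D F : Type u} [CommRing A] [CommRing S] [IsDomain S] [Field D] [Field F] [Algebra k A]
    [Algebra k S] [Algebra k D] [Algebra k F] [Algebra S D] [IsScalarTower k S D] [IsFractionRing S D]
    (a : A →ₐ[k] F) (b : D →ₐ[k] F)
    (h : Function.Injective (Algebra.TensorProduct.lift a (b.comp (IsScalarTower.toAlgHom k S D))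
      (fun _ _ => Commute.all _ _))) :
    Function.Injective (Algebra.TensorProduct.lift a b (fun _ _ => Commute.all _ _)) := by
  rw [injective_iff_map_eq_zero]
  intro x hx
  have key : ∀ y : A ⊗[k] D, ∃ (d : S) (z : A ⊗[k] S), algebraMap S D d ≠ 0 ∧
      y * (1 ⊗ₜ algebraMap S D d) = Algebra.TensorProduct.map (AlgHom.id k A) (IsScalarTower.toAlgHom k S D) z := by
    intro y
    induction y using TensorProduct.induction_on with
    | zero => exact ⟨1, 0, by simp, by simp⟩
    | tmul c e =>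
      obtain ⟨n, d, hd, rfl⟩ := IsFractionRing.div_surjective (A := S) e
      have hd0 : algebraMap S D d ≠ 0 := IsFractionRing.to_map_ne_zero_of_mem_nonZeroDivisors hd
      refine ⟨d, c ⊗ₜ n, hd0, ?_⟩
      simp [div_mul_cancel₀ _ hd0]
    | add y z hy hz =>
      obtain ⟨d, u, hd, hu⟩ := hy
      obtain ⟨d', u', hd', hu'⟩ := hz
      refine ⟨d * d', u * (1 ⊗ₜ d') + u' * (1 ⊗ₜ d), by simp [hd, hd'], ?_⟩
      simp only [map_add, map_mul, Algebra.TensorProduct.map_tmul, map_one, ← hu, ← hu']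
      rw [show ((1 : A) ⊗ₜ[k] (algebraMap S D d * algebraMap S D d')) =
        ((1 : A) ⊗ₜ[k] algebraMap S D d) * (1 ⊗ₜ algebraMap S D d') from by simp]
      simp only [IsScalarTower.coe_toAlgHom']
      ring
  obtain ⟨d, z, hd, hz⟩ := key x
  have hz0 : z = 0 := by
    refine h ?_
    rw [map_zero]
    have e := congrArg (Algebra.TensorProduct.lift a b (fun _ _ => Commute.all _ _)) hz
    rw [map_mul, hx, zero_mul] at e
    have e2 : (Algebra.TensorProduct.lift a b (fun _ _ => Commute.all _ _)).comp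
        (Algebra.TensorProduct.map (AlgHom.id k A) (IsScalarTower.toAlgHom k S D)) =
        Algebra.TensorProduct.lift a (b.comp (IsScalarTower.toAlgHom k S D)) (fun _ _ => Commute.all _ _) :=
      Algebra.TensorProduct.ext' fun c s => by simp
    rw [← e2]
    exact e.symm
  rw [hz0, map_zero] at hz
  calc x = x * (1 ⊗ₜ algebraMap S D d) * ((1 : A) ⊗ₜ (algebraMap S D d)⁻¹) := by
        rw [_root_.mul_assoc, Algebra.TensorProduct.tmul_mul_tmul, _root_.mul_one, mul_inv_cancel₀ hd,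
          ← Algebra.TensorProduct.one_def, _root_.mul_one]
    _ = 0 := by rw [hz, zero_mul]

variable [GrpObj G] [Smooth G.hom] [IsAlgClosed k]

instance irreducibleSpace_sq : IrreducibleSpace ↥(G ⊗ G).left := by
  haveI : GeometricallyIrreducible G.hom := Groth.L25.GeomIrred.geometricallyIrreducible_of_isAlgClosed G.hom
  haveI : UniversallyOpen G.hom := inferInstance
  exact inferInstanceAs (IrreducibleSpace ↥(pullback G.hom G.hom))

/-- a pair of points lying over the generic point of the square is jointly generic -/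
theorem lift_injective_of_generic {F : Type u} [Field F] [Algebra k F] (ρ₁ ρ₂ : KG G →ₐ[k] F)
    (h : (lift (spA ρ₁ ≫ ξ G) (spA ρ₂ ≫ ξ G)).left (IsLocalRing.closedPoint F) = genericPoint ↥(G ⊗ G).left) :
    Function.Injective (Algebra.TensorProduct.lift ρ₁ ρ₂ (fun _ _ => Commute.all _ _)) := by
  obtain ⟨R, _, _, _, σ0, j, _, hj, hι, hfrac, -⟩ := exists_chart G (genericPoint G.left)
  haveI : IsDomain (R ⊗[k] R) := Groth.L25.GeomIrred.isDomain_tensorProduct
  let P := Spec (CommRingCat.of (R ⊗[k] R))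
  let q : P ⟶ (G ⊗ G).left := (pullbackSpecIso k R R).inv ≫
    pullback.map _ _ _ _ j.left j.left (𝟙 _) (by simp) (by simp)
  haveI : IsOpenImmersion q := inferInstanceAs (IsOpenImmersion ((pullbackSpecIso k R R).inv ≫
    pullback.map _ _ _ _ j.left j.left (𝟙 _) (by simp) (by simp)))
  let σ : R →ₐ[k] KG G := σ0
  have htk : ∀ a, toKG (genericPoint G.left) a = a := by
    have e : toKG (G := G) (genericPoint G.left) = AlgHom.id k (KG G) :=
      hom_ext_St (by rw [spA_toKG, spA_id, Category.id_comp])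
    intro a; rw [e]; rfl
  let m : R ⊗[k] R →ₐ[k] F :=
    (Algebra.TensorProduct.lift ρ₁ ρ₂ (fun _ _ => Commute.all _ _)).comp (Algebra.TensorProduct.map σ σ)
  have hfac : Spec.map (CommRingCat.ofHom m.toRingHom) ≫ q = (lift (spA ρ₁ ≫ ξ G) (spA ρ₂ ≫ ξ G)).left := by
    apply pullback.hom_ext
    · show (_ ≫ q) ≫ pullback.fst _ _ = _
      rw [Category.assoc, Category.assoc, pullback.lift_fst, ← Category.assoc (pullbackSpecIso k R R).inv,
        pullbackSpecIso_inv_fst, ← Category.assoc, ← Spec.map_comp]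
      have h2 : (lift (spA ρ₁ ≫ ξ G) (spA ρ₂ ≫ ξ G)).left ≫ pullback.fst _ _ = (spA ρ₁ ≫ ξ G).left :=
        congrArg (fun v => v.left) (lift_fst (spA ρ₁ ≫ ξ G) (spA ρ₂ ≫ ξ G))
      rw [h2, show ξ G = spA σ0 ≫ j from hj.symm, ← Category.assoc (spA ρ₁), ← spA_comp, Over.comp_left, spA_left]
      congr 2
      exact CommRingCat.hom_ext (RingHom.ext fun r => by simp [m, σ])
    · show (_ ≫ q) ≫ pullback.snd _ _ = _
      rw [Category.assoc, Category.assoc, pullback.lift_snd, ← Category.assoc (pullbackSpecIso k R R).inv,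
        pullbackSpecIso_inv_snd, ← Category.assoc, ← Spec.map_comp]
      have h2 : (lift (spA ρ₁ ≫ ξ G) (spA ρ₂ ≫ ξ G)).left ≫ pullback.snd _ _ = (spA ρ₂ ≫ ξ G).left :=
        congrArg (fun v => v.left) (lift_snd (spA ρ₁ ≫ ξ G) (spA ρ₂ ≫ ξ G))
      rw [h2, show ξ G = spA σ0 ≫ j from hj.symm, ← Category.assoc (spA ρ₂), ← spA_comp, Over.comp_left, spA_left]
      congr 2
      exact CommRingCat.hom_ext (RingHom.ext fun r => by simp [m, σ])
  have hcl : PrimeSpectrum.comap m.toRingHom (IsLocalRing.closedPoint F) = genericPoint ↥P := by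
    apply q.isOpenEmbedding.injective
    rw [genericPoint_eq_of_isOpenImmersion q, ← h, ← hfac]
    rfl
  have hker : RingHom.ker m.toRingHom = ⊥ := by
    have h2 := congrArg PrimeSpectrum.asIdeal hcl
    rw [show genericPoint ↥P = ⟨⊥, Ideal.isPrime_bot⟩ from genericPoint_eq_bot_of_affine _] at h2
    have h3 : Ideal.comap m.toRingHom (IsLocalRing.maximalIdeal F) = ⊥ := h2
    rwa [IsLocalRing.maximalIdeal_eq_bot] at h3
  rw [injective_iff_map_eq_zero]
  intro x hx
  have key : ∀ y : KG G ⊗[k] KG G, ∃ (d d' : R) (z : R ⊗[k] R), σ d ≠ 0 ∧ σ d' ≠ 0 ∧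
      y * (σ d ⊗ₜ σ d') = Algebra.TensorProduct.map σ σ z := by
    intro y
    induction y using TensorProduct.induction_on with
    | zero => exact ⟨1, 1, 0, by simp, by simp, by simp⟩
    | tmul a b =>
      obtain ⟨n, d, hd, he⟩ := hfrac a
      obtain ⟨n', d', hd', he'⟩ := hfrac b
      simp only [htk] at hd he hd' he'
      exact ⟨d, d', n ⊗ₜ n', hd, hd', by
        rw [Algebra.TensorProduct.tmul_mul_tmul, Algebra.TensorProduct.map_tmul]
        show (a * σ0 d) ⊗ₜ[k] (b * σ0 d') = σ0 n ⊗ₜ σ0 n'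
        rw [he, he']⟩
    | add y z hy hz =>
      obtain ⟨d, e, u, hd, he, hu⟩ := hy
      obtain ⟨d', e', u', hd', he', hu'⟩ := hz
      refine ⟨d * d', e * e', u * (d' ⊗ₜ e') + u' * (d ⊗ₜ e), by simp [hd, hd'], by simp [he, he'], ?_⟩
      simp only [map_add, map_mul, Algebra.TensorProduct.map_tmul, ← hu, ← hu']
      rw [← Algebra.TensorProduct.tmul_mul_tmul]
      ring
  obtain ⟨d, d', z, hd, hd', hz⟩ := key x
  have hz0 : z = 0 := by
    have e := congrArg (Algebra.TensorProduct.lift ρ₁ ρ₂ (fun _ _ => Commute.all _ _)) hz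
    rw [map_mul, hx, zero_mul] at e
    have : z ∈ RingHom.ker m.toRingHom := e.symm
    rwa [hker, Ideal.mem_bot] at this
  rw [hz0, map_zero] at hz
  calc x = x * (σ d ⊗ₜ σ d') * ((σ d)⁻¹ ⊗ₜ (σ d')⁻¹) := by
        rw [_root_.mul_assoc, Algebra.TensorProduct.tmul_mul_tmul, mul_inv_cancel₀ hd, mul_inv_cancel₀ hd',
          ← Algebra.TensorProduct.one_def, _root_.mul_one]
    _ = 0 := by rw [hz, zero_mul]

theorem generic_of_injective {F : Type u} [Field F] [Algebra k F] (ρ₁ ρ₂ : KG G →ₐ[k] F)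
    (hinj : Function.Injective (Algebra.TensorProduct.lift ρ₁ ρ₂ (fun _ _ => Commute.all _ _))) :
    (lift (spA ρ₁ ≫ ξ G) (spA ρ₂ ≫ ξ G)).left (IsLocalRing.closedPoint F) = genericPoint ↥(G ⊗ G).left := by
  obtain ⟨R, _, _, _, σ0, j, _, hj, hι, -⟩ := exists_chart G (genericPoint G.left)
  haveI : IsDomain (R ⊗[k] R) := Groth.L25.GeomIrred.isDomain_tensorProduct
  let P := Spec (CommRingCat.of (R ⊗[k] R))
  let q : P ⟶ (G ⊗ G).left := (pullbackSpecIso k R R).inv ≫
    pullback.map _ _ _ _ j.left j.left (𝟙 _) (by simp) (by simp)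
  haveI : IsOpenImmersion q := inferInstanceAs (IsOpenImmersion ((pullbackSpecIso k R R).inv ≫
    pullback.map _ _ _ _ j.left j.left (𝟙 _) (by simp) (by simp)))
  let σ : R →ₐ[k] KG G := σ0
  have hσ : Function.Injective σ := fun a b hab => hι (congrArg (toKG (genericPoint G.left)) hab)
  let m : R ⊗[k] R →ₐ[k] F :=
    (Algebra.TensorProduct.lift ρ₁ ρ₂ (fun _ _ => Commute.all _ _)).comp (Algebra.TensorProduct.map σ σ)
  have hm : Function.Injective m :=
    hinj.comp (TensorProduct.map_injective_of_flat_flat σ.toLinearMap σ.toLinearMap hσ hσ)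
  have hfac : Spec.map (CommRingCat.ofHom m.toRingHom) ≫ q = (lift (spA ρ₁ ≫ ξ G) (spA ρ₂ ≫ ξ G)).left := by
    apply pullback.hom_ext
    · show (_ ≫ q) ≫ pullback.fst _ _ = _
      rw [Category.assoc, Category.assoc, pullback.lift_fst, ← Category.assoc (pullbackSpecIso k R R).inv,
        pullbackSpecIso_inv_fst, ← Category.assoc, ← Spec.map_comp]
      have h2 : (lift (spA ρ₁ ≫ ξ G) (spA ρ₂ ≫ ξ G)).left ≫ pullback.fst _ _ = (spA ρ₁ ≫ ξ G).left :=
        congrArg (fun v => v.left) (lift_fst (spA ρ₁ ≫ ξ G) (spA ρ₂ ≫ ξ G))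
      rw [h2, show ξ G = spA σ0 ≫ j from hj.symm, ← Category.assoc (spA ρ₁), ← spA_comp, Over.comp_left, spA_left]
      congr 2
      exact CommRingCat.hom_ext (RingHom.ext fun r => by simp [m, σ])
    · show (_ ≫ q) ≫ pullback.snd _ _ = _
      rw [Category.assoc, Category.assoc, pullback.lift_snd, ← Category.assoc (pullbackSpecIso k R R).inv,
        pullbackSpecIso_inv_snd, ← Category.assoc, ← Spec.map_comp]
      have h2 : (lift (spA ρ₁ ≫ ξ G) (spA ρ₂ ≫ ξ G)).left ≫ pullback.snd _ _ = (spA ρ₂ ≫ ξ G).left :=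
        congrArg (fun v => v.left) (lift_snd (spA ρ₁ ≫ ξ G) (spA ρ₂ ≫ ξ G))
      rw [h2, show ξ G = spA σ0 ≫ j from hj.symm, ← Category.assoc (spA ρ₂), ← spA_comp, Over.comp_left, spA_left]
      congr 2
      exact CommRingCat.hom_ext (RingHom.ext fun r => by simp [m, σ])
  rw [← hfac, ← genericPoint_eq_of_isOpenImmersion q, Scheme.Hom.comp_apply]
  congr 1
  show PrimeSpectrum.comap m.toRingHom (IsLocalRing.closedPoint F) = _
  rw [genericPoint_eq_bot_of_affine]
  refine PrimeSpectrum.ext ?_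
  show Ideal.comap m.toRingHom (IsLocalRing.maximalIdeal F) = ⊥
  rw [IsLocalRing.maximalIdeal_eq_bot]
  exact Ideal.comap_bot_of_injective _ hm

variable (G) in
theorem lift_e₁_δ_injective :
    Function.Injective (Algebra.TensorProduct.lift (e₁ G) (δ G) (fun _ _ => Commute.all _ _)) := by
  refine lift_injective_of_generic (e₁ G) (δ G) ?_
  let s : G ⊗ G ⟶ G ⊗ G := lift (fst G G) (fst G G * snd G G)
  let s' : G ⊗ G ⟶ G ⊗ G := lift (fst G G) ((fst G G)⁻¹ * snd G G)
  have hs : lift (spA (e₁ G) ≫ ξ G) (spA (δ G) ≫ ξ G) = lift (spA (e₁ G) ≫ ξ G) (spA (e₂ G) ≫ ξ G) ≫ s := by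
    rw [comp_lift, MonObj.comp_mul, lift_fst, lift_snd, spA_δ]
  have hsur : s' ≫ s = 𝟙 _ := by
    rw [comp_lift, MonObj.comp_mul, lift_fst, lift_snd, mul_inv_cancel_left, lift_fst_snd]
  have hsurj : Function.Surjective s.left := fun y => ⟨s'.left y, by
    rw [← Scheme.Hom.comp_apply, ← Over.comp_left, hsur]; rfl⟩
  rw [hs, Over.comp_left, Scheme.Hom.comp_apply, generic_of_injective (e₁ G) (e₂ G) (lift_e_injective G)]
  exact ((genericPoint_spec ↥(G ⊗ G).left).image s.left.continuous).eq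
    (by rw [Set.image_univ, hsurj.range_eq, closure_univ]; exact genericPoint_spec ↥(G ⊗ G).left)

variable (G) in
/-- the shear `(x, y) ↦ (x, xy)` on the function field of the square -/
def shear : Dbl G →ₐ[k] Dbl G :=
  IsFractionRing.liftAlgHom (g := Algebra.TensorProduct.lift (e₁ G) (δ G) (fun _ _ => Commute.all _ _))
    (lift_e₁_δ_injective G)

theorem shear_algebraMap (x : KG G ⊗[k] KG G) : shear G (algebraMap (KG G ⊗[k] KG G) (Dbl G) x) =
    Algebra.TensorProduct.lift (e₁ G) (δ G) (fun _ _ => Commute.all _ _) x :=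
  IsFractionRing.lift_algebraMap (lift_e₁_δ_injective G) _

theorem shear_e₁ : (shear G).comp (e₁ G) = e₁ G := by
  refine AlgHom.ext fun a => (shear_algebraMap (a ⊗ₜ 1)).trans ?_
  simp

theorem shear_e₂ : (shear G).comp (e₂ G) = δ G := by
  refine AlgHom.ext fun a => (shear_algebraMap (1 ⊗ₜ a)).trans ?_
  simp

theorem lift_inv_e₂_injective {i : KG G →ₐ[k] KG G} :
    Function.Injective (Algebra.TensorProduct.lift ((e₁ G).comp i) (e₂ G) (fun _ _ => Commute.all _ _)) := by
  have h : Algebra.TensorProduct.lift ((e₁ G).comp i) (e₂ G) (fun _ _ => Commute.all _ _) =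
      (Algebra.TensorProduct.lift (e₁ G) (e₂ G) (fun _ _ => Commute.all _ _)).comp
        (Algebra.TensorProduct.map i (AlgHom.id k _)) :=
    Algebra.TensorProduct.ext' fun a b => by simp
  rw [h]
  exact (lift_e_injective G).comp (Module.Flat.rTensor_preserves_injective_linearMap (M := KG G)
    i.toLinearMap i.toRingHom.injective)

variable (G) in
/-- the comorphism of `(x, y) ↦ x⁻¹ y` -/
def ψ : KG G →ₐ[k] Dbl G :=
  (exists_lift_mul ((e₁ G).comp (exists_inv (G := G)).choose) (e₂ G) lift_inv_e₂_injective).choose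

theorem spA_ψ : spA (ψ G) ≫ ξ G = (spA (e₁ G) ≫ ξ G)⁻¹ * (spA (e₂ G) ≫ ξ G) := by
  rw [ψ, (exists_lift_mul ((e₁ G).comp (exists_inv (G := G)).choose) (e₂ G) lift_inv_e₂_injective).choose_spec, spA_comp, Category.assoc, (exists_inv (G := G)).choose_spec,
    GrpObj.comp_inv]

theorem shear_ψ : (shear G).comp (ψ G) = e₂ G := by
  refine hom_ext_St (G := G) ?_
  rw [spA_comp, Category.assoc, spA_ψ, MonObj.comp_mul, GrpObj.comp_inv, ← Category.assoc, ← spA_comp, shear_e₁,
    ← Category.assoc (spA (shear G)), ← spA_comp, shear_e₂, spA_δ, inv_mul_cancel_left]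

variable (G)

instance isDomain_tri : IsDomain (Dbl G ⊗[k] KG G) := Groth.L25.GeomIrred.isDomain_tensorProduct

/-- the function field of the cube -/
def Tri : Type u := FractionRing (Dbl G ⊗[k] KG G)

instance : Field (Tri G) := inferInstanceAs (Field (FractionRing (Dbl G ⊗[k] KG G)))
instance : Algebra k (Tri G) := inferInstanceAs (Algebra k (FractionRing (Dbl G ⊗[k] KG G)))
instance : Algebra (Dbl G ⊗[k] KG G) (Tri G) :=
  inferInstanceAs (Algebra (Dbl G ⊗[k] KG G) (FractionRing (Dbl G ⊗[k] KG G)))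
instance : IsScalarTower k (Dbl G ⊗[k] KG G) (Tri G) :=
  inferInstanceAs (IsScalarTower k (Dbl G ⊗[k] KG G) (FractionRing (Dbl G ⊗[k] KG G)))
instance : IsFractionRing (Dbl G ⊗[k] KG G) (Tri G) :=
  inferInstanceAs (IsFractionRing (Dbl G ⊗[k] KG G) (FractionRing (Dbl G ⊗[k] KG G)))

/-- the first two factors -/
def e₁₂ : Dbl G →ₐ[k] Tri G :=
  (IsScalarTower.toAlgHom k (Dbl G ⊗[k] KG G) (Tri G)).comp Algebra.TensorProduct.includeLeft

/-- the third factor -/
def e₃ : KG G →ₐ[k] Tri G :=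
  (IsScalarTower.toAlgHom k (Dbl G ⊗[k] KG G) (Tri G)).comp Algebra.TensorProduct.includeRight

theorem lift_tri : Algebra.TensorProduct.lift (e₁₂ G) (e₃ G) (fun _ _ => Commute.all _ _) =
    IsScalarTower.toAlgHom k (Dbl G ⊗[k] KG G) (Tri G) := by
  refine Algebra.TensorProduct.ext' fun a b => ?_
  rw [Algebra.TensorProduct.lift_tmul]
  simp [e₁₂, e₃, ← map_mul]

theorem lift_tri_injective :
    Function.Injective (Algebra.TensorProduct.lift (e₁₂ G) (e₃ G) (fun _ _ => Commute.all _ _)) := by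
  rw [lift_tri]
  exact IsFractionRing.injective (Dbl G ⊗[k] KG G) (Tri G)

theorem isGen_tri : IsGen (e₁₂ G) (e₃ G) := by
  intro f
  obtain ⟨n, d, hd, rfl⟩ := IsFractionRing.div_surjective (A := Dbl G ⊗[k] KG G) f
  have hd0 : (algebraMap (Dbl G ⊗[k] KG G) (Tri G)) d ≠ 0 :=
    IsFractionRing.to_map_ne_zero_of_mem_nonZeroDivisors hd
  refine ⟨n, d, ?_, ?_⟩
  · rw [lift_tri]; exact hd0
  · rw [lift_tri]; exact div_mul_cancel₀ _ hd0

variable {G}

theorem exists_hom_of_injective {F : Type u} [Field F] [Algebra k F] (a b : KG G →ₐ[k] F)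
    (h : Function.Injective (Algebra.TensorProduct.lift a b (fun _ _ => Commute.all _ _))) :
    ∃ θ : Dbl G →ₐ[k] F, θ.comp (e₁ G) = a ∧ θ.comp (e₂ G) = b := by
  refine ⟨IsFractionRing.liftAlgHom (g := Algebra.TensorProduct.lift a b (fun _ _ => Commute.all _ _)) h,
    AlgHom.ext fun x => (IsFractionRing.lift_algebraMap h (x ⊗ₜ[k] (1 : KG G))).trans ?_,
    AlgHom.ext fun x => (IsFractionRing.lift_algebraMap h ((1 : KG G) ⊗ₜ[k] x)).trans ?_⟩ <;> simp

theorem lift_tri23_injective : Function.Injective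
    (Algebra.TensorProduct.lift ((e₁₂ G).comp (e₂ G)) (e₃ G) (fun _ _ => Commute.all _ _)) := by
  have h : Algebra.TensorProduct.lift ((e₁₂ G).comp (e₂ G)) (e₃ G) (fun _ _ => Commute.all _ _) =
      (Algebra.TensorProduct.lift (e₁₂ G) (e₃ G) (fun _ _ => Commute.all _ _)).comp
        (Algebra.TensorProduct.map (e₂ G) (AlgHom.id k _)) :=
    Algebra.TensorProduct.ext' fun a b => by simp
  rw [h]
  exact (lift_tri_injective G).comp (Module.Flat.rTensor_preserves_injective_linearMap (M := KG G)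
    (e₂ G).toLinearMap (e₂ G).toRingHom.injective)

variable (G) in
/-- the last two factors -/
def e₂₃ : Dbl G →ₐ[k] Tri G := (exists_hom_of_injective _ _ (lift_tri23_injective (G := G))).choose

theorem e₂₃_e₁ : (e₂₃ G).comp (e₁ G) = (e₁₂ G).comp (e₂ G) :=
  (exists_hom_of_injective _ _ (lift_tri23_injective (G := G))).choose_spec.1

theorem e₂₃_e₂ : (e₂₃ G).comp (e₂ G) = e₃ G :=
  (exists_hom_of_injective _ _ (lift_tri23_injective (G := G))).choose_spec.2

theorem tri_aux (a b c : KG G) :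
    e₁₂ G (e₁ G a * e₂ G b) * e₃ G c =
      e₁₂ G (e₁ G a) * e₂₃ G (e₁ G b * e₂ G c) := by
  rw [map_mul, map_mul, show e₂₃ G (e₁ G b) = e₁₂ G (e₂ G b) from DFunLike.congr_fun e₂₃_e₁ b,
    show e₂₃ G (e₂ G c) = e₃ G c from DFunLike.congr_fun e₂₃_e₂ c, _root_.mul_assoc]

theorem algebraMap_dbl_tmul (a b : KG G) :
    algebraMap (KG G ⊗[k] KG G) (Dbl G) (a ⊗ₜ b) = e₁ G a * e₂ G b := by
  simp [e₁, e₂, ← map_mul]

theorem lift_tri1_injective : Function.Injective
    (Algebra.TensorProduct.lift ((e₁₂ G).comp (e₁ G)) (e₂₃ G) (fun _ _ => Commute.all _ _)) := by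
  refine lift_fraction_injective (S := KG G ⊗[k] KG G) _ (e₂₃ G) ?_
  have h : Algebra.TensorProduct.lift ((e₁₂ G).comp (e₁ G))
      ((e₂₃ G).comp (IsScalarTower.toAlgHom k (KG G ⊗[k] KG G) (Dbl G))) (fun _ _ => Commute.all _ _) =
      (Algebra.TensorProduct.lift (e₁₂ G) (e₃ G) (fun _ _ => Commute.all _ _)).comp
        ((Algebra.TensorProduct.map (IsScalarTower.toAlgHom k (KG G ⊗[k] KG G) (Dbl G)) (AlgHom.id k (KG G))).comp
          (Algebra.TensorProduct.assoc k k k (KG G) (KG G) (KG G)).symm.toAlgHom) := by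
    refine Algebra.TensorProduct.ext' fun a z => ?_
    induction z using TensorProduct.induction_on with
    | zero => simp only [tmul_zero, map_zero]
    | add x y hx hy => simp only [tmul_add, map_add, hx, hy]
    | tmul b c =>
      show e₁₂ G (e₁ G a) * e₂₃ G (algebraMap (KG G ⊗[k] KG G) (Dbl G) (b ⊗ₜ c)) =
        e₁₂ G (algebraMap (KG G ⊗[k] KG G) (Dbl G) (a ⊗ₜ b)) * e₃ G c
      rw [algebraMap_dbl_tmul, algebraMap_dbl_tmul, tri_aux]
  rw [h]
  exact (lift_tri_injective G).comp ((Module.Flat.rTensor_preserves_injective_linearMap (M := KG G)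
    (IsScalarTower.toAlgHom k (KG G ⊗[k] KG G) (Dbl G)).toLinearMap
    (IsFractionRing.injective (KG G ⊗[k] KG G) (Dbl G))).comp
    (Algebra.TensorProduct.assoc k k k (KG G) (KG G) (KG G)).symm.injective)

theorem lift_tri1δ_injective : Function.Injective
    (Algebra.TensorProduct.lift ((e₁₂ G).comp (e₁ G)) ((e₂₃ G).comp (δ G)) (fun _ _ => Commute.all _ _)) := by
  have h : Algebra.TensorProduct.lift ((e₁₂ G).comp (e₁ G)) ((e₂₃ G).comp (δ G)) (fun _ _ => Commute.all _ _) =
      (Algebra.TensorProduct.lift ((e₁₂ G).comp (e₁ G)) (e₂₃ G) (fun _ _ => Commute.all _ _)).comp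
        (Algebra.TensorProduct.map (AlgHom.id k _) (δ G)) :=
    Algebra.TensorProduct.ext' fun a b => by simp
  rw [h]
  exact lift_tri1_injective.comp (Module.Flat.lTensor_preserves_injective_linearMap (M := KG G)
    (δ G).toLinearMap (δ G).toRingHom.injective)

variable (G) in
/-- the first factor and the product of the others -/
def θ₀ : Dbl G →ₐ[k] Tri G := (exists_hom_of_injective _ _ (lift_tri1δ_injective (G := G))).choose

theorem θ₀_e₁ : (θ₀ G).comp (e₁ G) = (e₁₂ G).comp (e₁ G) :=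
  (exists_hom_of_injective _ _ (lift_tri1δ_injective (G := G))).choose_spec.1

theorem θ₀_e₂ : (θ₀ G).comp (e₂ G) = (e₂₃ G).comp (δ G) :=
  (exists_hom_of_injective _ _ (lift_tri1δ_injective (G := G))).choose_spec.2

theorem lift_shear3_injective : Function.Injective
    (Algebra.TensorProduct.lift ((e₁₂ G).comp (shear G)) (e₃ G) (fun _ _ => Commute.all _ _)) := by
  have h : Algebra.TensorProduct.lift ((e₁₂ G).comp (shear G)) (e₃ G) (fun _ _ => Commute.all _ _) =
      (Algebra.TensorProduct.lift (e₁₂ G) (e₃ G) (fun _ _ => Commute.all _ _)).comp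
        (Algebra.TensorProduct.map (shear G) (AlgHom.id k _)) :=
    Algebra.TensorProduct.ext' fun a b => by simp
  rw [h]
  exact (lift_tri_injective G).comp (Module.Flat.rTensor_preserves_injective_linearMap (M := KG G)
    (shear G).toLinearMap (shear G).toRingHom.injective)

variable (G) in
/-- the shear of the cube -/
def shear₃ : Tri G →ₐ[k] Tri G :=
  IsFractionRing.liftAlgHom
    (g := Algebra.TensorProduct.lift ((e₁₂ G).comp (shear G)) (e₃ G) (fun _ _ => Commute.all _ _))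
    (lift_shear3_injective (G := G))

theorem shear₃_algebraMap (x : Dbl G ⊗[k] KG G) : shear₃ G (algebraMap (Dbl G ⊗[k] KG G) (Tri G) x) =
    Algebra.TensorProduct.lift ((e₁₂ G).comp (shear G)) (e₃ G) (fun _ _ => Commute.all _ _) x :=
  IsFractionRing.lift_algebraMap (lift_shear3_injective (G := G)) _

theorem shear₃_e₁₂ : (shear₃ G).comp (e₁₂ G) = (e₁₂ G).comp (shear G) := by
  refine AlgHom.ext fun x => (shear₃_algebraMap (G := G) (x ⊗ₜ 1)).trans ?_
  rw [Algebra.TensorProduct.lift_tmul, map_one, _root_.mul_one]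

theorem shear₃_e₃ : (shear₃ G).comp (e₃ G) = e₃ G := by
  refine AlgHom.ext fun x => (shear₃_algebraMap (G := G) (1 ⊗ₜ x)).trans ?_
  rw [Algebra.TensorProduct.lift_tmul, map_one, _root_.one_mul]

theorem p_comp {F F' : Type u} [Field F] [Field F'] [Algebra k F] [Algebra k F'] (f : F →ₐ[k] F')
    (g : KG G →ₐ[k] F) : spA f ≫ spA g ≫ ξ G = spA (f.comp g) ≫ ξ G := by rw [spA_comp, Category.assoc]

theorem p_δ {F : Type u} [Field F] [Algebra k F] (f : Dbl G →ₐ[k] F) : spA (f.comp (δ G)) ≫ ξ G =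
    (spA (f.comp (e₁ G)) ≫ ξ G) * (spA (f.comp (e₂ G)) ≫ ξ G) := by
  rw [← p_comp, spA_δ, MonObj.comp_mul, p_comp, p_comp]

theorem algHom_dbl_ext {F : Type u} [Field F] [Algebra k F] {f g : Dbl G →ₐ[k] F}
    (h₁ : f.comp (e₁ G) = g.comp (e₁ G)) (h₂ : f.comp (e₂ G) = g.comp (e₂ G)) : f = g := by
  refine IsLocalization.algHom_ext (nonZeroDivisors (KG G ⊗[k] KG G)) ?_
  refine Algebra.TensorProduct.ext' fun x y => ?_
  show f (algebraMap (KG G ⊗[k] KG G) (Dbl G) (x ⊗ₜ y)) = g (algebraMap (KG G ⊗[k] KG G) (Dbl G) (x ⊗ₜ y))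
  rw [algebraMap_dbl_tmul, map_mul, map_mul]
  exact congrArg₂ (· * ·) (DFunLike.congr_fun h₁ x) (DFunLike.congr_fun h₂ y)

theorem θ₀_shear : (θ₀ G).comp (shear G) = (shear₃ G).comp (θ₀ G) := by
  refine algHom_dbl_ext ?_ ?_
  · rw [AlgHom.comp_assoc, shear_e₁, AlgHom.comp_assoc, θ₀_e₁, ← AlgHom.comp_assoc, shear₃_e₁₂, AlgHom.comp_assoc,
      shear_e₁]
  · rw [AlgHom.comp_assoc, shear_e₂, AlgHom.comp_assoc, θ₀_e₂]
    refine hom_ext_St (G := G) ?_
    rw [p_δ, θ₀_e₁, θ₀_e₂, p_δ, e₂₃_e₁, e₂₃_e₂, ← AlgHom.comp_assoc (shear₃ G) (e₂₃ G) (δ G), p_δ,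
      AlgHom.comp_assoc (shear₃ G) (e₂₃ G) (e₁ G), e₂₃_e₁,
      ← AlgHom.comp_assoc (shear₃ G) (e₁₂ G), shear₃_e₁₂, AlgHom.comp_assoc (e₁₂ G), shear_e₂, p_δ,
      AlgHom.comp_assoc (shear₃ G) (e₂₃ G) (e₂ G), e₂₃_e₂, shear₃_e₃, _root_.mul_assoc]

/-- **translation invariance** -/
theorem exists_gauss_invariant {V₀ : ValuationSubring (KG G)} (hk : ∀ c : k, algebraMap k (KG G) c ∈ V₀)
    {V₁ : ValuationSubring (Dbl G)} (hV : Gauss (e₁ G) (e₂ G) V₀ V₁) :
    ∃ V₁' : ValuationSubring (Dbl G), Gauss (e₁ G) (e₂ G) (V₁.comap (δ G).toRingHom) V₁' ∧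
      V₁'.comap (shear G).toRingHom = V₁' := by
  obtain ⟨W, hW⟩ := exists_gauss (e₁₂ G) (e₃ G) (lift_tri_injective G) V₀ hk
  have hW1 : Gauss ((e₁₂ G).comp (e₁ G)) (e₂₃ G) V₁ W :=
    Gauss.tower (isGen_e G) hV hW (e₂₃ G) (e₂ G) (e₁ G) (lift_e_injective G) e₂₃_e₁ e₂₃_e₂
  have hW2 := (hW1.restrict (δ G)).comap (θ₀ G) θ₀_e₁ θ₀_e₂
  have hWν : W.comap (shear₃ G).toRingHom = W :=
    Gauss.comap_eq_self (isGen_tri G) hW (shear₃ G) (shear G) (shear G).toRingHom.injective shear₃_e₁₂ shear₃_e₃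
  refine ⟨W.comap (θ₀ G).toRingHom, hW2, SetLike.ext fun x => ?_⟩
  show θ₀ G (shear G x) ∈ W ↔ θ₀ G x ∈ W
  rw [show θ₀ G (shear G x) = shear₃ G (θ₀ G x) from DFunLike.congr_fun θ₀_shear x]
  exact SetLike.ext_iff.1 hWν (θ₀ G x)

end Groth.L08.Chev
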