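import Groth.Agent.L08.Chev.Fibre

/-!
# Transport of regularity along right translations
-/

set_option autoImplicit false
set_option backward.isDefEq.respectTransparency.types false
set_option linter.style.haveILetI false
set_option linter.unusedSectionVars false

universe u

open CategoryTheory CategoryTheory.Limits MonoidalCategory CartesianMonoidalCategory MonObj GrpObj AlgebraicGeometry TensorProduct

noncomputable section

namespace Groth.L08.Chev

variable {k : Type u} [Field k] {G : Over (Spec (CommRingCat.of k))}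

/-- a local point whose closed point lies in an open piece lies in it -/
theorem exists_factor_open {D : Type u} [CommRing D] [Algebra k D] [IsLocalRing D] {R : Type u} [CommRing R]
    [Algebra k R] (j : SP k R ⟶ G) [IsOpenImmersion j.left] (p : SP k D ⟶ G)
    (h : p.left (IsLocalRing.closedPoint D) ∈ Set.range j.left) : ∃ e : R →ₐ[k] D, spA e ≫ j = p := by
  have hrange : Set.range p.left ⊆ Set.range j.left := by
    rintro _ ⟨y, rfl⟩
    exact ((IsLocalRing.specializes_closedPoint y).map p.left.continuous).mem_open j.left.opensRange.isOpen h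
  let φ := Spec.preimage (IsOpenImmersion.lift j.left p.left hrange)
  have hφ : Spec.map φ ≫ j.left = p.left := by rw [Spec.map_preimage, IsOpenImmersion.lift_fac]
  refine ⟨{ φ.hom with commutes' := fun c => ?_ }, Over.OverMorphism.ext hφ⟩
  have h1 : Spec.map (CommRingCat.ofHom (algebraMap k R) ≫ φ) = Spec.map (CommRingCat.ofHom (algebraMap k D)) := by
    rw [Spec.map_comp, show Spec.map (CommRingCat.ofHom (algebraMap k R)) = j.left ≫ G.hom from (Over.w j).symm,
      ← Category.assoc, hφ]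
    exact Over.w p
  exact ConcreteCategory.congr_hom (Spec.map_injective h1) c

theorem algHom_ext_open {D : Type u} [CommRing D] [Algebra k D] {R : Type u} [CommRing R]
    [Algebra k R] (j : SP k R ⟶ G) [IsOpenImmersion j.left] {e e' : R →ₐ[k] D} (h : spA e ≫ j = spA e' ≫ j) :
    e = e' := by
  have h1 : Spec.map (CommRingCat.ofHom e.toRingHom) ≫ j.left = Spec.map (CommRingCat.ofHom e'.toRingHom) ≫ j.left :=
    congrArg (fun m => m.left) h
  rw [cancel_mono] at h1
  exact AlgHom.ext fun a => ConcreteCategory.congr_hom (Spec.map_injective h1) a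

/-- the point of a rational point -/
abbrev pt (g : SP k k ⟶ G) : G.left := g.left (IsLocalRing.closedPoint k)

/-- evaluation at a rational point -/
def ev (g : SP k k ⟶ G) : St G (pt g) →ₐ[k] k := (exists_hom_St g rfl).choose

theorem spA_ev (g : SP k k ⟶ G) : spA (ev g) ≫ ptSt G (pt g) = g := (exists_hom_St g rfl).choose_spec.2

instance (g : SP k k ⟶ G) : IsLocalHom (ev g).toRingHom := (exists_hom_St g rfl).choose_spec.1

variable [GrpObj G] [IsIntegral G.left]

theorem exists_rtr (h : SP k k ⟶ G) : ∃ t : KG G →ₐ[k] KG G, spA t ≫ ξ G = ξ G * cst G h := by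
  have key : ∀ a b : SP k k ⟶ G, (𝟙 G * (str G ≫ a)) ≫ (𝟙 G * (str G ≫ b)) = 𝟙 G * (str G ≫ (a * b)) := by
    intro a b
    rw [MonObj.comp_mul, Category.comp_id, ← Category.assoc,
      hom_to_SP_ext ((𝟙 G * (str G ≫ a)) ≫ str G) (str G), MonObj.comp_mul, _root_.mul_assoc]
  haveI : IsIso (𝟙 G * (str G ≫ h)) := ⟨𝟙 G * (str G ≫ h⁻¹),
    by rw [key, _root_.mul_inv_cancel, MonObj.comp_one, _root_.mul_one],
    by rw [key, _root_.inv_mul_cancel, MonObj.comp_one, _root_.mul_one]⟩
  obtain ⟨t, ht⟩ := exists_emb (ξ G ≫ (𝟙 G * (str G ≫ h))) (closedPoint_comp_iso _)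
  refine ⟨t, ht.trans ?_⟩
  rw [MonObj.comp_mul, Category.comp_id, ← Category.assoc, hom_to_SP_ext (ξ G ≫ str G) (spA (Algebra.ofId k _))]

variable [Smooth G.hom] [IsAlgClosed k]

/-- transport along `(x, y) ↦ (x h⁻¹, h y)` -/
theorem Good.transfer {R R' : Type u} [CommRing R] [Algebra k R] [CommRing R'] [Algebra k R']
    {κ : R →ₐ[k] KG G} {κ' : R' →ₐ[k] KG G} {A : Subalgebra k (KG G)} {γ : R →ₐ[k] k} {γ' : R' →ₐ[k] k}
    {z : A →ₐ[k] k} {h : SP k k ⟶ G} (hz : Move A z h z) (τ : KG G →ₐ[k] KG G)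
    (hτ : spA τ ≫ ξ G = ξ G * cst G h⁻¹) (e : R →ₐ[k] R') (he : τ.comp κ = κ'.comp e) (hγ : γ'.comp e = γ)
    {a : KG G} {c : k} (hg : Good κ A γ z (δ G) a c) : Good κ' A γ' z (δ G) a c := by
  have hinj : Function.Injective
      (Algebra.TensorProduct.lift ((e₁ G).comp τ) ((e₂ G).comp (tr h)) (fun _ _ => Commute.all _ _)) := by
    have h1 : Algebra.TensorProduct.lift ((e₁ G).comp τ) ((e₂ G).comp (tr h)) (fun _ _ => Commute.all _ _) =
        (Algebra.TensorProduct.lift (e₁ G) (e₂ G) (fun _ _ => Commute.all _ _)).comp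
          (Algebra.TensorProduct.map τ (tr h)) := Algebra.TensorProduct.ext' fun a b => by simp
    rw [h1]
    exact (lift_e_injective G).comp (TensorProduct.map_injective_of_flat_flat τ.toLinearMap (tr h).toLinearMap
      τ.toRingHom.injective (tr h).toRingHom.injective)
  obtain ⟨Θ, hΘ₁, hΘ₂⟩ := exists_hom_of_injective _ _ hinj
  have hΘ : Θ.comp (δ G) = δ G := by
    refine hom_ext_St (G := G) ?_
    rw [p_δ, hΘ₁, hΘ₂, spA_comp, spA_comp, Category.assoc, Category.assoc, hτ, spA_tr, MonObj.comp_mul,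
      MonObj.comp_mul, spA_cst, spA_cst, cst_inv, spA_δ]
    group
  have key : ∀ x : R ⊗[k] A, ∃ (x' : R' ⊗[k] A) (s : A), z s ≠ 0 ∧
      Θ (JA κ A x) * e₂ G s = JA κ' A x' ∧ z (π γ' x') = z s * z (π γ x) := by
    intro x
    induction x using TensorProduct.induction_on with
    | zero => exact ⟨0, 1, by simp, by simp, by simp⟩
    | tmul r b =>
      obtain ⟨u, s, hs, e1, hu⟩ := hz b
      refine ⟨e r ⊗ₜ u, s, hs, ?_, ?_⟩
      · rw [JA_tmul, JA_tmul, map_mul, show Θ (e₁ G (κ r)) = e₁ G (τ (κ r)) from DFunLike.congr_fun hΘ₁ _,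
          show Θ (e₂ G (b : KG G)) = e₂ G (tr h b) from DFunLike.congr_fun hΘ₂ _,
          show τ (κ r) = κ' (e r) from DFunLike.congr_fun he r, ← e1, map_mul, _root_.mul_assoc]
      · rw [π_tmul, π_tmul, map_smul, map_smul, hu, show γ' (e r) = γ r from DFunLike.congr_fun hγ r,
          smul_eq_mul, smul_eq_mul]
        ring
    | add x y hx hy =>
      obtain ⟨x', s, hs, e1, h1⟩ := hx
      obtain ⟨y', t, ht, e2', h2⟩ := hy
      refine ⟨x' * (1 ⊗ₜ t) + y' * (1 ⊗ₜ s), s * t, by rw [map_mul]; exact mul_ne_zero hs ht, ?_, ?_⟩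
      · simp only [map_add, map_mul, JA_tmul, map_one, _root_.one_mul, ← e1, ← e2', MulMemClass.coe_mul]
        ring
      · simp only [map_add, map_mul, π_tmul, map_one, one_smul, h1, h2]
        ring
  obtain ⟨n, f, hf, e0, hn⟩ := hg
  obtain ⟨n', sn, hsn, en, hn'⟩ := key n
  obtain ⟨f', sf, hsf, ef, hf'⟩ := key f
  refine ⟨n' * (1 ⊗ₜ sf), f' * (1 ⊗ₜ sn), ?_, ?_, ?_⟩
  · simp only [map_mul, π_tmul, map_one, one_smul, hf']
    exact mul_ne_zero (mul_ne_zero hsf hf) hsn
  · have := congrArg Θ e0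
    rw [map_mul, show Θ (δ G a) = δ G a from DFunLike.congr_fun hΘ a] at this
    simp only [map_mul, JA_tmul, map_one, _root_.one_mul, ← en, ← ef, ← this]
    ring
  · simp only [map_mul, π_tmul, map_one, one_smul, hn', hf', hn]
    ring

/-- regularity at a rational point, in its local ring -/
def GoodAt (A : Subalgebra k (KG G)) (z : A →ₐ[k] k) (g : SP k k ⟶ G) (a : KG G) (c : k) : Prop :=
  Good (toKG (pt g)) A (ev g) z (δ G) a c

variable {A : Subalgebra k (KG G)} {z : A →ₐ[k] k} {a : KG G} {c : k}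

theorem GoodAt.of_chart {R : Type u} [CommRing R] [Algebra k R] {κ : R →ₐ[k] KG G} (j : SP k R ⟶ G)
    [IsOpenImmersion j.left] (hj : spA κ ≫ j = ξ G) {γ : R →ₐ[k] k} (h : Good κ A γ z (δ G) a c) :
    GoodAt A z (spA γ ≫ j) a c := by
  obtain ⟨e, he⟩ := exists_factor_open j (ptSt G (pt (spA γ ≫ j))) (by
    rw [ptSt_closedPoint]; exact ⟨_, rfl⟩)
  refine h.transfer (Move.one z) (AlgHom.id k _) ?_ e ?_ ?_
  · rw [spA_id, Category.id_comp, _root_.inv_one, cst_one, _root_.mul_one]
  · exact algHom_ext_open j (by rw [AlgHom.id_comp, spA_comp, Category.assoc, he, spA_toKG, hj])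
  · exact algHom_ext_open j (by rw [spA_comp, Category.assoc, he, spA_ev])

theorem GoodAt.translate {g h : SP k k ⟶ G} (hz : Move A z h z) (hg : GoodAt A z g a c) :
    GoodAt A z (g * h) a c := by
  obtain ⟨τ, hτ⟩ := exists_rtr (G := G) h⁻¹
  obtain ⟨e, -, he⟩ := exists_hom_St (x := pt g) (ptSt G (pt (g * h)) * cst G h⁻¹) (by
    rw [← closedPoint_spA (ev (g * h)), ← Scheme.Hom.comp_apply, ← Over.comp_left, MonObj.comp_mul, spA_ev,
      spA_cst, cst_self, _root_.mul_inv_cancel_right])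
  refine hg.transfer hz τ hτ e ?_ ?_
  · refine hom_ext_St ?_
    rw [spA_comp, Category.assoc, spA_toKG, hτ, spA_comp, Category.assoc, he, MonObj.comp_mul, spA_toKG, spA_cst]
  · refine hom_ext_St ?_
    rw [spA_comp, Category.assoc, he, MonObj.comp_mul, spA_ev, spA_cst, cst_self, _root_.mul_inv_cancel_right, spA_ev]

theorem GoodAt.inLoc {g : SP k k ⟶ G} (h : GoodAt A z g a c) : InLoc A z (tr g a) c := by
  have h2 := Good.inLoc (toKG_injective (x := pt g)) (ptSt G (pt g))
    (by rw [spA_comp, Category.assoc, spA_toKG, spA_δ]) h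
  rwa [spA_ev] at h2

end Groth.L08.Chev
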